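import Cfsg.Agent.LThree.Local
import Cfsg.Agent.MEleven.Nse

/-!
# Simplicity from the count of elements of order 13

* `isSimple_of_count` : a group of order 5616 with self-centralising elements of order 13 and 144 Sylow
  13-subgroups is simple
-/

set_option autoImplicit false
set_option linter.style.haveILetI false

open Cfsg CfsgLib CfsgLib.SmallOrd

namespace CfsgLib.LThree

universe u

variable {H : Type u} [Group H] [Finite H]

/-- An element of prime order acting on a subgroup centralises a nontrivial element. -/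
theorem exists_fixed {p : ℕ} [hp : Fact p.Prime] {x : H} (hxo : orderOf x = p) (R : Subgroup H)
    (hnorm : x ∈ Subgroup.normalizer (R : Set H)) (hdvd : ¬ p ∣ (Nat.card R - 1)) :
    ∃ r ∈ R, r ≠ 1 ∧ Commute x r := by
  classical
  haveI := Fintype.ofFinite R
  have hx := Subgroup.mem_normalizer_iff.1 hnorm
  let a : Equiv.Perm {w : R // w ≠ 1} :=
    { toFun := fun w => ⟨⟨x * w.1 * x⁻¹, (hx _).1 w.1.2⟩, fun e => w.2 (by
        have e' : x * (w.1 : H) * x⁻¹ = 1 := congrArg Subtype.val e
        exact Subtype.ext (conj_eq_one_iff.1 e'))⟩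
      invFun := fun w => ⟨⟨x⁻¹ * w.1 * x, by
          have := (hx (x⁻¹ * w.1 * x)).2
          exact this (by rw [show x * (x⁻¹ * w.1 * x) * x⁻¹ = w.1 by group]; exact w.1.2)⟩, fun e => w.2 (by
        have e' : x⁻¹ * (w.1 : H) * x = 1 := congrArg Subtype.val e
        exact Subtype.ext (by
          have : (w.1 : H) = x * (x⁻¹ * w.1 * x) * x⁻¹ := by group
          rw [this, e']; simp))⟩
      left_inv := fun w => by ext; show x⁻¹ * (x * (w.1 : H) * x⁻¹) * x = w.1; group
      right_inv := fun w => by ext; show x * (x⁻¹ * (w.1 : H) * x) * x⁻¹ = w.1; group }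
  have hiter : ∀ (k : ℕ) (w : {w : R // w ≠ 1}), (((a ^ k) w).1 : H) = x ^ k * w.1 * (x ^ k)⁻¹ := by
    intro k w
    induction k with
    | zero => simp
    | succ k ih =>
      rw [pow_succ', Equiv.Perm.mul_apply]
      show x * (((a ^ k) w).1 : H) * x⁻¹ = _
      rw [ih, pow_succ']; group
  have hap : a ^ p ^ 1 = 1 := Equiv.ext fun w => by
    ext
    rw [hiter, pow_one, orderOf_dvd_iff_pow_eq_one.1 (dvd_of_eq hxo), one_mul, inv_one, mul_one]
    rfl
  obtain ⟨⟨⟨w, hw⟩, hw1⟩, hfix⟩ := Equiv.Perm.exists_fixed_point_of_prime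
    (by rw [Fintype.card_subtype_compl, Fintype.card_subtype_eq, ← Nat.card_eq_fintype_card]; exact hdvd) hap
  exact ⟨w, hw, fun e => hw1 (Subtype.ext e), mul_inv_eq_iff_eq_mul.1 (congrArg (fun z => (z.1 : H)) hfix)⟩

variable (hH : Nat.card H = 5616)
  (hC : ∀ x : H, orderOf x = 13 → Subgroup.centralizer ({x} : Set H) = Subgroup.zpowers x)
include hC

theorem fpf {x : H} (hxo : orderOf x = 13) (R : Subgroup H) (hnorm : x ∈ Subgroup.normalizer (R : Set H))
    (h13 : ¬ 13 ∣ Nat.card R) : Nat.card R % 13 = 1 := by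
  haveI : Fact (Nat.Prime 13) := ⟨by norm_num⟩
  by_contra hne
  obtain ⟨r, hr, hr1, hxr⟩ := exists_fixed hxo R hnorm (fun h => hne (by
    have := Nat.card_pos (α := R)
    omega))
  have hm : r ∈ Subgroup.zpowers x := by
    rw [← hC x hxo, Subgroup.mem_centralizer_singleton_iff]
    exact hxr.eq.symm
  have hd := orderOf_dvd_of_mem_zpowers hm
  rw [hxo] at hd
  rcases (Nat.dvd_prime (by norm_num)).1 hd with e | e
  · exact hr1 (orderOf_eq_one_iff.1 e)
  · exact h13 (e ▸ Subgroup.orderOf_mk r hr ▸ orderOf_dvd_natCard (⟨r, hr⟩ : R))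

include hH

theorem no_normal_coprime [Fact (Nat.Prime 13)] (h144 : Nat.card (Sylow 13 H) = 144) (N : Subgroup H) [N.Normal]
    (h13 : ¬ 13 ∣ Nat.card N) : N = ⊥ := by
  classical
  obtain ⟨x, hxo⟩ := exists_prime_orderOf_dvd_card' (G := H) 13 (by rw [hH]; norm_num)
  have hmod := fpf hC hxo N (by rw [Subgroup.normalizer_eq_top]; trivial) h13
  have hd : Nat.card N ∣ 432 := by
    have h := Subgroup.card_subgroup_dvd_card N
    rw [hH, show 5616 = 432 * 13 from rfl] at h
    exact ((Nat.Prime.coprime_iff_not_dvd (by norm_num)).2 h13).symm.dvd_of_dvd_mul_right h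
  have hlist : ∀ n, n < 433 → n ∣ 432 → n % 13 = 1 → n = 1 ∨ n = 27 ∨ n = 144 := by decide +kernel
  haveI : Fact (Nat.Prime 3) := ⟨by norm_num⟩
  rcases hlist _ (by have := Nat.le_of_dvd (by norm_num) hd; omega) hd hmod with e | e | e
  · exact Subgroup.card_eq_one.1 e
  · exfalso
    obtain ⟨P, hP⟩ := MEleven.exists_sylow_zpowers hxo fun P => by
      rw [sylow_card (k := 1) (m := 432) (by rw [hH]; norm_num) (by norm_num) P, pow_one]
    have h39 : Nat.card (Subgroup.normalizer ((P : Subgroup H) : Set H)) = 39 := by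
      have h := MEleven.sylow_count_mul P
      rw [h144, hH] at h
      omega
    obtain ⟨⟨t, htN⟩, hto⟩ := exists_prime_orderOf_dvd_card'
      (G := Subgroup.normalizer ((P : Subgroup H) : Set H)) 3 (by rw [h39]; norm_num)
    rw [Subgroup.orderOf_mk] at hto
    obtain ⟨Q, hQ⟩ := (IsPGroup.of_card (p := 3) (n := 3) (G := N) (by rw [e]; norm_num)).exists_le_sylow
    have hQN : (Q : Subgroup H) = N := by
      refine (Subgroup.eq_of_le_of_card_ge hQ ?_).symm
      rw [e, sylow_card (k := 3) (m := 208) (by rw [hH]; norm_num) (by norm_num) Q]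
      norm_num
    obtain ⟨R, hR⟩ := (IsPGroup.of_card (p := 3) (n := 1) (G := Subgroup.zpowers t)
      (by rw [Nat.card_zpowers, hto, pow_one])).exists_le_sylow
    haveI : (Q : Subgroup H).Normal := hQN ▸ inferInstance
    haveI := (Sylow.unique_of_normal Q inferInstance)
    have htN' : t ∈ N := hQN ▸ (Subsingleton.elim R Q ▸ hR (Subgroup.mem_zpowers t))
    have hxP : x ∈ (P : Subgroup H) := hP ▸ Subgroup.mem_zpowers x
    have hc1 : x * t * x⁻¹ * t⁻¹ ∈ N :=
      mul_mem ((inferInstance : N.Normal).conj_mem t htN' x) (inv_mem htN')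
    have hc2 : x * (t * x⁻¹ * t⁻¹) ∈ (P : Subgroup H) :=
      mul_mem hxP ((Subgroup.mem_normalizer_iff.1 htN x⁻¹).1 (inv_mem hxP))
    rw [show x * (t * x⁻¹ * t⁻¹) = x * t * x⁻¹ * t⁻¹ by group] at hc2
    have h1 := Subgroup.orderOf_mk _ hc1 ▸ orderOf_dvd_natCard (⟨_, hc1⟩ : N)
    have h2 : orderOf (x * t * x⁻¹ * t⁻¹) ∣ 13 := by
      rw [← hxo]; exact orderOf_dvd_of_mem_zpowers (hP ▸ hc2)
    rw [e] at h1
    have hone : x * t * x⁻¹ * t⁻¹ = 1 :=
      orderOf_eq_one_iff.1 (Nat.Coprime.eq_one_of_dvd (Nat.Coprime.coprime_dvd_left h1 (by norm_num : Nat.Coprime 27 13)) h2)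
    have hm : t ∈ Subgroup.zpowers x := by
      rw [← hC x hxo, Subgroup.mem_centralizer_singleton_iff]
      rw [mul_inv_eq_one, mul_inv_eq_iff_eq_mul] at hone
      exact hone.symm
    have := orderOf_dvd_of_mem_zpowers hm
    rw [hto, hxo] at this
    norm_num at this
  · exfalso
    obtain ⟨R⟩ : Nonempty (Sylow 3 N) := inferInstance
    have hR9 : Nat.card ((R : Subgroup N).map N.subtype) = 9 := by
      rw [Subgroup.card_map_of_injective N.subtype_injective,
        sylow_card (k := 2) (m := 16) (by rw [e]; norm_num) (by norm_num) R]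
      norm_num
    set Q := (R : Subgroup N).map N.subtype
    have hsup : Subgroup.normalizer (Q : Set H) ⊔ N = ⊤ := Sylow.normalizer_sup_eq_top R
    have h13' : 13 ∣ Nat.card (Subgroup.normalizer (Q : Set H)) := by
      have hmap : (Subgroup.normalizer (Q : Set H)).map (QuotientGroup.mk' N) = ⊤ := by
        have := congrArg (Subgroup.map (QuotientGroup.mk' N)) hsup
        rw [Subgroup.map_sup, QuotientGroup.map_mk'_self, sup_bot_eq,
          Subgroup.map_top_of_surjective _ (QuotientGroup.mk'_surjective N)] at this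
        exact this
      have h39 : Nat.card (H ⧸ N) = 39 := by
        have h := Subgroup.card_mul_index N
        rw [e, hH] at h
        rw [← Subgroup.index_eq_card]
        omega
      have h := Subgroup.card_map_dvd (Subgroup.normalizer (Q : Set H)) (QuotientGroup.mk' N)
      rw [hmap, Subgroup.card_top, h39] at h
      exact (by norm_num : 13 ∣ 39).trans h
    obtain ⟨⟨y, hyN⟩, hyo⟩ := exists_prime_orderOf_dvd_card' (G := Subgroup.normalizer (Q : Set H)) 13 h13'
    rw [Subgroup.orderOf_mk] at hyo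
    have := fpf hC hyo Q hyN (by rw [hR9]; norm_num)
    rw [hR9] at this
    omega

theorem isSimple_of_count [Fact (Nat.Prime 13)] (h144 : Nat.card (Sylow 13 H) = 144) : IsSimpleGroup H := by
  classical
  haveI : Nontrivial H := Finite.one_lt_card_iff_nontrivial.1 (by rw [hH]; norm_num)
  have hP13 : ∀ P : Sylow 13 H, Nat.card P = 13 := fun P => by
    rw [sylow_card (k := 1) (m := 432) (by rw [hH]; norm_num) (by norm_num) P, pow_one]
  refine ⟨fun N hN => ?_⟩
  by_cases h13 : 13 ∣ Nat.card N
  swap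
  · exact Or.inl (no_normal_coprime hH hC h144 N h13)
  refine Or.inr (by_contra fun htop => ?_)
  have hdvd := MEleven.count_dvd_normal hP13 N h13
  rw [h144] at hdvd
  have h1872 : 1872 ∣ Nat.card N := Nat.Coprime.mul_dvd_of_dvd_of_dvd (by norm_num : Nat.Coprime 13 144) h13 hdvd
  have hd : Nat.card N ∣ 5616 := hH ▸ Subgroup.card_subgroup_dvd_card N
  have hlt : Nat.card N ≠ 5616 := fun e => htop (Subgroup.eq_top_of_card_eq N (e.trans hH.symm))
  have hcN : Nat.card N = 1872 := by
    obtain ⟨a, ha⟩ := h1872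
    rw [ha] at hd hlt ⊢
    have : a ∣ 3 := Nat.dvd_of_mul_dvd_mul_left (show 0 < 1872 by norm_num) hd
    rcases (Nat.dvd_prime (by norm_num)).1 this with e | e <;> rw [e] at hlt ⊢ <;> omega
  obtain ⟨R⟩ : Nonempty (Sylow 13 N) := inferInstance
  have hR13 : Nat.card R = 13 := by
    rw [sylow_card (k := 1) (m := 144) (by rw [hcN]; norm_num) (by norm_num) R, pow_one]
  obtain ⟨⟨x, hxR⟩, hxo⟩ := exists_prime_orderOf_dvd_card' (G := (R : Subgroup N)) 13 (by rw [hR13])
  rw [Subgroup.orderOf_mk] at hxo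
  have hxo' : orderOf (x : H) = 13 := by rw [Subgroup.orderOf_coe, hxo]
  have hle : (R : Subgroup N) ≤ Subgroup.centralizer ((R : Subgroup N) : Set N) := by
    haveI : IsCyclic (R : Subgroup N) := isCyclic_of_prime_card hR13
    haveI : IsMulCommutative (R : Subgroup N) := IsCyclic.isMulCommutative
    exact (R : Subgroup N).le_centralizer
  -- self-normalising
  have hn : Subgroup.normalizer ((R : Subgroup N) : Set N) = (R : Subgroup N) := by
    refine (Subgroup.eq_of_le_of_card_ge Subgroup.le_normalizer ?_).symm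
    have h := MEleven.sylow_count_mul R
    have hn144 : Nat.card (Sylow 13 N) = 144 := by
      refine Eq.trans ?_ h144
      have hle : ∀ P : Sylow 13 H, (P : Subgroup H) ≤ N := by
        intro P
        obtain ⟨Q, hQ⟩ := MEleven.exists_sylow_zpowers hxo' hP13
        obtain ⟨c, hc⟩ := MulAction.exists_smul_eq H Q P
        rw [← hc, Sylow.coe_subgroup_smul]
        rintro - ⟨z, hz, rfl⟩
        exact (inferInstance : N.Normal).conj_mem z ((hQ ▸ Subgroup.zpowers_le.2 x.2 : (Q : Subgroup H) ≤ N) hz) c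
      refine (Nat.card_congr (Equiv.ofBijective (fun P => P.subtype (hle P))
        ⟨fun P Q e => Sylow.subtype_injective e, fun S => ?_⟩)).symm
      obtain ⟨P, hP⟩ := S.exists_comap_subtype_eq
      exact ⟨P, Sylow.ext hP⟩
    rw [hn144, hcN] at h
    show _ ≤ Nat.card R
    rw [hR13]
    omega
  have hcomp := MonoidHom.ker_transferSylow_isComplement' R (hn.le.trans hle)
  set M := (MonoidHom.transferSylow R (hn.le.trans hle)).ker
  have hcM : Nat.card M = 144 := by
    have h := hcomp.card_mul
    rw [hR13, hcN] at h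
    omega
  have hmap : Nat.card (M.map N.subtype) = 144 := by rw [Subgroup.card_map_of_injective N.subtype_injective, hcM]
  haveI : (M.map N.subtype).Normal := by
    refine ⟨fun z hz c => ?_⟩
    obtain ⟨w, hw, rfl⟩ := hz
    set v : N := ⟨c * N.subtype w * c⁻¹, hN.conj_mem _ w.2 c⟩
    refine ⟨v, ?_, rfl⟩
    have hidx : M.index = 13 := by
      have h := Subgroup.card_mul_index M
      rw [hcM, hcN] at h
      omega
    have hvq : orderOf (QuotientGroup.mk' M v) ∣ 13 := by
      exact (orderOf_dvd_natCard _).trans (dvd_of_eq (M.index_eq_card.symm.trans hidx))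
    have hv : orderOf v ∣ 144 := by
      have h := orderOf_injective (MulAut.conj c).toMonoidHom (MulAut.conj c).injective (w : H)
      rw [← Subgroup.orderOf_coe]
      show orderOf (c * (w : H) * c⁻¹) ∣ 144
      rw [show orderOf (c * (w : H) * c⁻¹) = orderOf (w : H) from h, Subgroup.orderOf_coe, ← hcM,
        ← Subgroup.orderOf_mk w hw]
      exact orderOf_dvd_natCard _
    have hq144 := (orderOf_map_dvd (QuotientGroup.mk' M) v).trans hv
    have := Nat.Coprime.eq_one_of_dvd (Nat.Coprime.coprime_dvd_left hvq (by norm_num : Nat.Coprime 13 144)) hq144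
    exact (QuotientGroup.eq_one_iff v).1 (orderOf_eq_one_iff.1 this)
  have hbot := no_normal_coprime hH hC h144 (M.map N.subtype) (by rw [hmap]; norm_num)
  rw [hbot, Subgroup.card_bot] at hmap
  omega

end CfsgLib.LThree
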