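import Cfsg.Agent.LThree.GLTwo
import Cfsg.Agent.CharBasics.Induced
import Cfsg.Agent.Exceptional.TI
import Cfsg.Agent.IndFun.Basic
import Cfsg.Agent.Transfer.Focal
import Cfsg.Agent.SmallOrders.Local

/-!
# A simple group with an involution centralised by `GL(2,3)`

* `Setup` : the data
* `Setup.V` : induced functions; `Setup.inner_V`, `Setup.sum_pairs`
-/

set_option autoImplicit false
set_option linter.style.haveILetI false

open Cfsg CfsgLib CfsgLib.CharBasics
open scoped ComplexConjugate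

namespace CfsgLib.LThree.GLTwo

universe u

/-- A group with an involution whose centralizer is `GL(2,3)`. -/
structure Setup (G : Type u) [Group G] where
  t : G
  ht : orderOf t = 2
  e : Subgroup.centralizer ({t} : Set G) ≃* M

namespace Setup

variable {G : Type u} [Group G] [Finite G] (D : Setup G)

/-- The centralizer. -/
abbrev C : Subgroup G := Subgroup.centralizer ({D.t} : Set G)

/-- The code of an element of the centralizer. -/
def cd (x : D.C) : ℕ := code (D.e x)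

omit [Finite G] in
theorem mem_C : D.t ∈ D.C := Subgroup.mem_centralizer_singleton_iff.2 rfl

omit [Finite G] in
theorem cd_mul (x y : D.C) : D.cd (x * y) = mulc (D.cd x) (D.cd y) := by rw [cd, map_mul, code_mul]; rfl

omit [Finite G] in
theorem cd_one : D.cd 1 = 28 := by rw [cd, map_one, code_one]

omit [Finite G] in
theorem cd_inj {x y : D.C} : D.cd x = D.cd y ↔ x = y :=
  code_injective.eq_iff.trans D.e.injective.eq_iff

omit [Finite G] in
theorem invol_cd (x : D.C) : invol (D.cd x) = true ↔ orderOf (x : G) = 2 := by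
  rw [cd, invol_iff, MulEquiv.orderOf_eq, Subgroup.orderOf_coe]

omit [Finite G] in
theorem cd_t : D.cd ⟨D.t, D.mem_C⟩ = 56 := by
  refine centre_ok _ (code_mem _) ((D.invol_cd _).2 D.ht) fun y hy => ?_
  obtain ⟨g, rfl⟩ := code_surj hy
  show mulc (D.cd _) (code g) = mulc (code g) (D.cd _)
  rw [← D.e.apply_symm_apply g, cd, ← code_mul, ← code_mul, ← map_mul, ← map_mul]
  congr 2
  exact Subtype.ext (Subgroup.mem_centralizer_singleton_iff.1 (D.e.symm g).2).symm

theorem card_C : Nat.card D.C = 48 := by rw [Nat.card_congr D.e.toEquiv, card_M]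

/-- The Sylow 2-subgroup of the centralizer. -/
noncomputable def sylSub (L : List ℕ) (hL : ∀ x ∈ L, ∀ y ∈ L, mulc x y ∈ L) (h1 : 28 ∈ L) : Subgroup G :=
  (({ carrier := {x | D.cd x ∈ L}
      one_mem' := by show D.cd 1 ∈ L; rw [cd_one]; exact h1
      mul_mem' := fun {a b} ha hb => by show D.cd (a * b) ∈ L; rw [cd_mul]; exact hL _ ha _ hb
      inv_mem' := fun {a} ha => by
        show D.cd a⁻¹ ∈ L
        have e : a⁻¹ = a ^ (orderOf a - 1) := by
          refine inv_eq_of_mul_eq_one_right ?_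
          rw [← pow_succ', Nat.sub_add_cancel (orderOf_pos a), pow_orderOf_eq_one]
        rw [e]
        induction (orderOf a - 1) with
        | zero => rw [pow_zero, cd_one]; exact h1
        | succ k ih => rw [pow_succ, cd_mul]; exact hL _ ih _ ha } : Subgroup D.C)).map D.C.subtype

theorem mem_sylSub {L : List ℕ} {hL : ∀ x ∈ L, ∀ y ∈ L, mulc x y ∈ L} {h1 : 28 ∈ L} {g : G} :
    g ∈ D.sylSub L hL h1 ↔ ∃ hg : g ∈ D.C, D.cd ⟨g, hg⟩ ∈ L := by
  constructor
  · rintro ⟨⟨x, hx⟩, hm, rfl⟩; exact ⟨hx, hm⟩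
  · rintro ⟨hg, hm⟩; exact ⟨⟨g, hg⟩, hm, rfl⟩

theorem card_sylSub {L : List ℕ} (hL : ∀ x ∈ L, ∀ y ∈ L, mulc x y ∈ L) (h1 : 28 ∈ L) (hsub : L ⊆ elems)
    (hnd : L.Nodup) : Nat.card (D.sylSub L hL h1) = L.length := by
  classical
  rw [sylSub, Subgroup.card_map_of_injective D.C.subtype_injective, ← List.toFinset_card_of_nodup hnd,
    ← Fintype.card_coe, ← Nat.card_eq_fintype_card]
  refine Nat.card_congr (Equiv.ofBijective (fun x => ⟨D.cd x.1, List.mem_toFinset.2 x.2⟩)
    ⟨fun x y h => Subtype.ext (D.cd_inj.1 (congrArg Subtype.val h)), fun v => ?_⟩)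
  obtain ⟨g, hg⟩ := code_surj (hsub (List.mem_toFinset.1 v.2))
  have hc : D.cd (D.e.symm g) = v.1 := by rw [cd, D.e.apply_symm_apply, hg]
  exact ⟨⟨D.e.symm g, by show D.cd _ ∈ L; rw [hc]; exact List.mem_toFinset.1 v.2⟩, Subtype.ext hc⟩

/-- The 2-subgroup of order 16. -/
noncomputable def S : Subgroup G := D.sylSub sylList sub_ok.1 (by decide)
/-- The quaternion subgroup. -/
noncomputable def Q : Subgroup G := D.sylSub quatList sub_ok.2.1 (by decide)

theorem card_S : Nat.card D.S = 16 := D.card_sylSub sub_ok.1 (by decide) sub_ok.2.2.2.1 (by decide +kernel)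

theorem card_Q : Nat.card D.Q = 8 :=
  D.card_sylSub sub_ok.2.1 (by decide) (fun _ h => sub_ok.2.2.2.1 (sub_ok.2.2.1 _ h)) (by decide +kernel)

theorem t_mem_S : D.t ∈ D.S := D.mem_sylSub.2 ⟨D.mem_C, by rw [cd_t]; decide⟩

theorem isSylow : ∃ P : Sylow 2 G, (P : Subgroup G) = D.S := by
  haveI : Fact (Nat.Prime 2) := ⟨Nat.prime_two⟩
  obtain ⟨P, hP⟩ := (IsPGroup.of_card (p := 2) (n := 4) (G := D.S) (by rw [D.card_S]; norm_num)).exists_le_sylow
  refine ⟨P, ?_⟩
  by_contra hne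
  haveI : Group.IsNilpotent (P : Subgroup G) := P.isPGroup'.isNilpotent
  have hlt : D.S.subgroupOf (P : Subgroup G) < ⊤ := lt_top_iff_ne_top.2 fun h =>
    hne (le_antisymm (Subgroup.subgroupOf_eq_top.1 h) hP)
  obtain ⟨⟨y, hyP⟩, hyN, hyS⟩ := SetLike.exists_of_lt (Group.normalizerCondition_of_isNilpotent _ hlt)
  have hconj : ∀ s ∈ D.S, y * s * y⁻¹ ∈ D.S := fun s hs =>
    (Subgroup.mem_normalizer_iff.1 hyN ⟨s, hP hs⟩).1 hs
  have hconj' : ∀ s ∈ D.S, y⁻¹ * s * y ∈ D.S := fun s hs => by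
    have := (Subgroup.mem_normalizer_iff.1 ((Subgroup.normalizer _).inv_mem hyN) ⟨s, hP hs⟩).1 hs
    simpa [Subgroup.mem_subgroupOf] using this
  obtain ⟨hc, hcm⟩ := D.mem_sylSub.1 (hconj D.t D.t_mem_S)
  have hyt : y * D.t * y⁻¹ = D.t := by
    have key : (⟨y * D.t * y⁻¹, hc⟩ : D.C) = ⟨D.t, D.mem_C⟩ := D.cd_inj.1 (by
      rw [D.cd_t]
      refine sylow_centre_ok _ hcm ((D.invol_cd _).2 ?_) fun z hz => ?_
      · show orderOf (y * D.t * y⁻¹) = 2
        rw [← MulAut.conj_apply, MulEquiv.orderOf_eq]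
        exact D.ht
      · obtain ⟨g, hg⟩ := code_surj (sub_ok.2.2.2.1 hz)
        have hgc : D.cd (D.e.symm g) = z := by rw [cd, D.e.apply_symm_apply, hg]
        rw [← hgc, ← cd_mul, ← cd_mul]
        congr 1
        refine Subtype.ext ?_
        show y * D.t * y⁻¹ * (D.e.symm g : G) = (D.e.symm g : G) * (y * D.t * y⁻¹)
        have hgS : (D.e.symm g : G) ∈ D.S := D.mem_sylSub.2 ⟨(D.e.symm g).2, by rw [hgc]; exact hz⟩
        obtain ⟨hs, -⟩ := D.mem_sylSub.1 (hconj' _ hgS)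
        calc y * D.t * y⁻¹ * (D.e.symm g : G) = y * (D.t * (y⁻¹ * (D.e.symm g : G) * y)) * y⁻¹ := by group
          _ = y * ((y⁻¹ * (D.e.symm g : G) * y) * D.t) * y⁻¹ := by
            rw [Subgroup.mem_centralizer_singleton_iff.1 hs]
          _ = _ := by group)
    exact congrArg Subtype.val key
  have hyC : y ∈ D.C := Subgroup.mem_centralizer_singleton_iff.2 (mul_inv_eq_iff_eq_mul.1 hyt)
  have hd : Nat.card ↥((P : Subgroup G) ⊓ D.C) ∣ 48 := D.card_C ▸ Subgroup.card_dvd_of_le inf_le_right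
  obtain ⟨i, hi⟩ := IsPGroup.iff_card.1 ((P.isPGroup').to_le (inf_le_left : (P : Subgroup G) ⊓ D.C ≤ P))
  rw [hi] at hd
  have hi4 : i ≤ 4 := by
    by_contra h
    have : 2 ^ 5 ∣ 48 := (pow_dvd_pow 2 (show 5 ≤ i by omega)).trans hd
    norm_num at this
  have hSI : D.S ≤ (P : Subgroup G) ⊓ D.C := le_inf hP fun x hx => (D.mem_sylSub.1 hx).1
  have e := Subgroup.eq_of_le_of_card_ge hSI (by
    rw [hi, D.card_S]; exact (Nat.pow_le_pow_right (by norm_num) hi4))
  exact hyS (show y ∈ D.S from e ▸ ⟨hyP, hyC⟩)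

theorem conj_of_invol' (hno : ∀ N : Subgroup G, N.Normal → N.index ≠ 2) {x : G} (hx : orderOf x = 2) :
    ∃ g, g * D.t * g⁻¹ = x := by
  haveI : Fact (Nat.Prime 2) := ⟨Nat.prime_two⟩
  obtain ⟨P, hP⟩ := D.isSylow
  by_contra hall
  push Not at hall
  obtain ⟨R, hR⟩ := (IsPGroup.of_card (p := 2) (n := 1) (G := Subgroup.zpowers x)
    (by rw [Nat.card_zpowers, hx, pow_one])).exists_le_sylow
  obtain ⟨c, hc⟩ := MulAction.exists_smul_eq G R P
  have hQS : D.Q ≤ D.S := fun g hg => by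
    obtain ⟨h, hm⟩ := D.mem_sylSub.1 hg
    exact D.mem_sylSub.2 ⟨h, sub_ok.2.2.1 _ hm⟩
  have hrel : D.Q.relIndex (P : Subgroup G) = 2 := by
    rw [hP]
    have h := Subgroup.card_mul_index (D.Q.subgroupOf D.S)
    rw [Nat.card_congr (Subgroup.subgroupOfEquivOfLe hQS).toEquiv, D.card_Q, D.card_S] at h
    rw [Subgroup.relIndex]
    omega
  have hin : ∀ g : G, g * x * g⁻¹ ∉ D.Q := fun g hg => by
    obtain ⟨h, hm⟩ := D.mem_sylSub.1 hg
    have ho : orderOf (g * x * g⁻¹) = 2 := by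
      rw [← MulAut.conj_apply, MulEquiv.orderOf_eq]
      exact hx
    have he := sub_ok.2.2.2.2.1 _ hm ((D.invol_cd ⟨_, h⟩).2 ho)
    have e : (⟨g * x * g⁻¹, h⟩ : D.C) = ⟨D.t, D.mem_C⟩ := D.cd_inj.1 (he.trans D.cd_t.symm)
    refine hall g⁻¹ ?_
    rw [show D.t = g * x * g⁻¹ from (congrArg Subtype.val e).symm]
    group
  obtain ⟨N, hN, hidx, -⟩ := CfsgLib.Transfer.thompson_transfer P (hP ▸ hQS) hrel
    (t := c * x * c⁻¹) (by
      rw [show c * x * c⁻¹ * (c * x * c⁻¹) = c * (x * x) * c⁻¹ by group, ← pow_two,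
        orderOf_dvd_iff_pow_eq_one.1 hx.dvd, mul_one, mul_inv_cancel])
    (fun g hg => hin (g * c) (by rwa [show g * c * x * (g * c)⁻¹ = g * (c * x * c⁻¹) * g⁻¹ by group]))
  exact hno N hN hidx

variable [IsSimpleGroup G]

theorem conj_of_invol (hne : ¬ IsMulCommutative G) {x : G} (hx : orderOf x = 2) :
    ∃ g, g * D.t * g⁻¹ = x := by
  refine D.conj_of_invol' (fun N hN hidx => ?_) hx
  haveI : Fact (Nat.Prime 2) := ⟨Nat.prime_two⟩
  rcases hN.eq_bot_or_eq_top with rfl | rfl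
  · refine hne ?_
    haveI : IsCyclic G := isCyclic_of_prime_card (p := 2) (by rw [← Subgroup.index_bot]; exact hidx)
    exact IsCyclic.isMulCommutative
  · rw [Subgroup.index_top] at hidx
    norm_num at hidx

omit [IsSimpleGroup G] in
/-- The special elements. -/
def Sp : Set G := {x | ∃ h : x ∈ D.C, special (D.cd ⟨x, h⟩) = true}

omit [IsSimpleGroup G] in
theorem mem_Sp {x : G} : x ∈ D.Sp ↔ ∃ k < 8, x ^ k = D.t := by
  constructor
  · rintro ⟨h, hs⟩
    simp only [special, List.any_eq_true, List.mem_range, beq_iff_eq] at hs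
    obtain ⟨k, hk, he⟩ := hs
    refine ⟨k, hk, ?_⟩
    rw [cd, ← code_pow, ← map_pow, ← cd, ← D.cd_t, cd_inj] at he
    exact congrArg Subtype.val he
  · rintro ⟨k, hk, he⟩
    have h : x ∈ D.C := Subgroup.mem_centralizer_singleton_iff.2 (by
      rw [← he]; exact (Commute.self_pow x k).eq)
    refine ⟨h, ?_⟩
    simp only [special, List.any_eq_true, List.mem_range, beq_iff_eq]
    refine ⟨k, hk, ?_⟩
    rw [cd, ← code_pow, ← map_pow, ← cd, ← D.cd_t, cd_inj]
    exact Subtype.ext he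

omit [IsSimpleGroup G] in
theorem eq_of_pow {y a b : G} {i j : ℕ} (ha : y ^ i = a) (hb : y ^ j = b) (ha2 : orderOf a = 2)
    (hb2 : orderOf b = 2) : a = b := by
  have hay : a ∈ Subgroup.zpowers y := ha ▸ pow_mem (Subgroup.mem_zpowers y) i
  have hby : b ∈ Subgroup.zpowers y := hb ▸ pow_mem (Subgroup.mem_zpowers y) j
  classical
  haveI := Fintype.ofFinite (Subgroup.zpowers y)
  have h2 : 2 ∣ Fintype.card (Subgroup.zpowers y) := by
    rw [← Nat.card_eq_fintype_card, ← ha2, ← Subgroup.orderOf_mk a hay]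
    exact orderOf_dvd_natCard _
  have h := IsCyclic.card_orderOf_eq_totient (α := Subgroup.zpowers y) h2
  rw [show Nat.totient 2 = 1 from rfl, Finset.card_eq_one] at h
  obtain ⟨z, hz⟩ := h
  have h1 : (⟨a, hay⟩ : Subgroup.zpowers y) ∈ ({z} : Finset _) :=
    hz ▸ Finset.mem_filter.2 ⟨Finset.mem_univ _, by rw [Subgroup.orderOf_mk, ha2]⟩
  have h1' : (⟨b, hby⟩ : Subgroup.zpowers y) ∈ ({z} : Finset _) :=
    hz ▸ Finset.mem_filter.2 ⟨Finset.mem_univ _, by rw [Subgroup.orderOf_mk, hb2]⟩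
  rw [Finset.mem_singleton] at h1 h1'
  exact congrArg Subtype.val (h1.trans h1'.symm)

omit [IsSimpleGroup G] in
theorem tiSetup : Exceptional.TISetup D.C D.Sp where
  subset x hx := hx.1
  conj_mem h hh s hs := by
    obtain ⟨k, hk, he⟩ := D.mem_Sp.1 hs
    refine D.mem_Sp.2 ⟨k, hk, ?_⟩
    rw [conj_pow, he, Subgroup.mem_centralizer_singleton_iff.1 hh, mul_inv_cancel_right]
  ti g hg s hs hs' := by
    obtain ⟨k, -, he⟩ := D.mem_Sp.1 hs
    obtain ⟨j, -, hj⟩ := D.mem_Sp.1 hs'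
    refine hg (Subgroup.mem_centralizer_singleton_iff.2 (mul_inv_eq_iff_eq_mul.1 ?_))
    refine eq_of_pow (y := g * s * g⁻¹) (i := k) ?_ hj ?_ D.ht
    · rw [conj_pow, he]
    · rw [← MulAut.conj_apply, MulEquiv.orderOf_eq]
      exact D.ht

/-- A function on the centralizer. -/
noncomputable def fn (f : ℕ → R) : D.C → ℂ := fun x => toC (f (D.cd x))

omit [IsSimpleGroup G] in
theorem fn_genChar {f : ℕ → R} (hf : f ∈ [vW, vW', vT, vS, vF]) : D.fn f ∈ BrauerInd.genChar D.C := by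
  obtain ⟨a, b, ha, hb, e⟩ := BrauerInd.mem_genChar.1 (virt_mem f hf)
  refine BrauerInd.mem_genChar.2 ⟨_, _, isCharacter_comp ha D.e.toMonoidHom, isCharacter_comp hb D.e.toMonoidHom, ?_⟩
  funext x
  exact congrFun e (D.e x)

omit [IsSimpleGroup G] in
theorem fn_class {f : ℕ → R} (hf : f ∈ [vW, vW', vT, vS, vF]) : IsClassFunction D.C (D.fn f) :=
  BrauerInd.genChar_isClassFunction (D.fn_genChar hf)

omit [IsSimpleGroup G] in
theorem fn_supp {f : ℕ → R} (hf : f ∈ [vW, vW', vT, vS, vF]) (x : D.C) (hx : (x : G) ∉ D.Sp) : D.fn f x = 0 := by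
  have hs : special (D.cd x) = false := by
    rw [← Bool.not_eq_true]
    exact fun h => hx ⟨x.2, h⟩
  obtain ⟨h1, h2, h3, h4, h5⟩ := supp_ok _ (code_mem _) hs
  simp only [List.mem_cons, List.not_mem_nil, or_false] at hf
  show toC (f (code (D.e x))) = 0
  rcases hf with rfl | rfl | rfl | rfl | rfl
  · rw [h1, map_zero]
  · rw [h2, map_zero]
  · rw [h3, map_zero]
  · rw [h4, map_zero]
  · rw [h5, map_zero]

omit [IsSimpleGroup G] in
theorem sum_C [Fintype D.C] {A : Type*} [AddCommMonoid A] (F : ℕ → A) :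
    ∑ x : D.C, F (D.cd x) = (elems.map F).sum := by
  classical
  rw [← sum_code F]
  exact Fintype.sum_equiv D.e.toEquiv _ _ fun x => rfl

omit [IsSimpleGroup G] in
theorem inner_fn [Fintype D.C] (f g : ℕ → R) :
    classInner (D.fn f) (D.fn g) = toC (dot f g) / 48 := by
  rw [classInner_eq, D.card_C, dot, map_list_sum, List.map_map, ← D.sum_C (toC ∘ fun x => f x * star (g x))]
  simp only [fn, Function.comp_apply, map_mul, toC_star]
  ring

variable [Fintype G]

/-- The induced function. -/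
noncomputable def V (f : ℕ → R) : G → ℂ := Cfsg.indFun D.C (D.fn f)

omit [IsSimpleGroup G] in
theorem V_genChar {f : ℕ → R} (hf : f ∈ [vW, vW', vT, vS, vF]) : D.V f ∈ BrauerInd.genChar G :=
  BrauerInd.indFun_mem_genChar _ (D.fn_genChar hf)

omit [IsSimpleGroup G] in
theorem inner_V {f g : ℕ → R} (hf : f ∈ [vW, vW', vT, vS, vF]) (hg : g ∈ [vW, vW', vT, vS, vF]) :
    classInner (D.V f) (D.V g) = toC (dot f g) / 48 := by
  classical
  haveI := Fintype.ofFinite D.C
  rw [V, V, Exceptional.classInner_indFun_indFun D.tiSetup (D.fn_class hg) (D.fn_supp hf) (D.fn_supp hg), inner_fn]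

omit [IsSimpleGroup G] in
theorem inner_V_one (f : ℕ → R) : classInner (D.V f) (fun _ => 1) = toC (dot f fun _ => 1) / 48 := by
  classical
  haveI := Fintype.ofFinite D.C
  rw [V, classInner_indFun D.C _ (fun _ _ => rfl), ← inner_fn D]
  rw [show D.fn (fun _ => 1) = fun _ => 1 from funext fun x => map_one toC]

omit [IsSimpleGroup G] in
theorem V_one {f : ℕ → R} (hf : f ∈ [vW, vW', vT, vS, vF]) : D.V f 1 = 0 := by
  rw [V, indFun_apply_one, D.fn_supp hf 1 ?_, mul_zero]
  intro h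
  obtain ⟨k, -, hk⟩ := D.mem_Sp.1 h
  rw [Subgroup.coe_one, one_pow] at hk
  have := D.ht
  rw [← hk, orderOf_one] at this
  norm_num at this

/-- The sum of the values at the products with conjugates of the involution. -/
theorem sum_pairs (hne : ¬ IsMulCommutative G) {f : ℕ → R} (hf : f ∈ [vW, vW', vT, vS, vF]) :
    ∑ g : G, D.V f (g * D.t * g⁻¹ * D.t) = 48 * toC (pairSum f) := by
  classical
  haveI := Fintype.ofFinite D.C
  set E := Cfsg.extendByZero D.C (D.fn f) with hE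
  have hfilt : ∀ y : G, IsConj D.t y ↔ orderOf y = 2 := fun y => by
    constructor
    · intro h
      obtain ⟨g, rfl⟩ := isConj_iff.1 h
      rw [← MulAut.conj_apply, MulEquiv.orderOf_eq]
      exact D.ht
    · intro h
      obtain ⟨g, hg⟩ := D.conj_of_invol hne h
      exact isConj_iff.2 ⟨g, hg⟩
  have hfib : ∀ F : G → ℂ, ∑ x : G, F (x⁻¹ * D.t * x) =
      48 * ∑ y : G, if orderOf y = 2 then F y else 0 := fun F => by
    rw [IndFun.sum_conj_eq, D.card_C, nsmul_eq_mul, Finset.sum_filter]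
    simp only [hfilt, Nat.cast_ofNat]
  have hfib' : ∀ F : G → ℂ, ∑ h : G, F (h * D.t * h⁻¹) =
      48 * ∑ y : G, if orderOf y = 2 then F y else 0 := fun F => by
    rw [← hfib]
    exact Fintype.sum_equiv (Equiv.inv G) _ _ fun x => by simp
  have h1 : ∑ g : G, D.V f (g * D.t * g⁻¹ * D.t) =
      (48 : ℂ)⁻¹ * ∑ x : G, ∑ h : G, E (h * D.t * h⁻¹ * (x⁻¹ * D.t * x)) := by
    simp only [V, Cfsg.indFun, ← Finset.mul_sum, D.card_C, Nat.cast_ofNat]
    congr 1
    rw [Finset.sum_comm]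
    refine Finset.sum_congr rfl fun x _ => ?_
    refine Fintype.sum_equiv (Equiv.mulLeft x⁻¹) _ _ fun g => ?_
    show E (x⁻¹ * (g * D.t * g⁻¹ * D.t) * x) = E (x⁻¹ * g * D.t * (x⁻¹ * g)⁻¹ * (x⁻¹ * D.t * x))
    congr 1
    group
  have h2 : ∑ x : G, ∑ h : G, E (h * D.t * h⁻¹ * (x⁻¹ * D.t * x)) =
      48 * 48 * ∑ b : G, ∑ a : G, if orderOf a = 2 ∧ orderOf b = 2 then E (a * b) else 0 := by
    obtain ⟨F, hF⟩ : ∃ F : G → ℂ, ∀ y, F y = ∑ h : G, E (h * D.t * h⁻¹ * y) := ⟨_, fun y => rfl⟩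
    simp only [← hF]
    rw [hfib F, mul_assoc]
    congr 1
    rw [Finset.mul_sum]
    refine Finset.sum_congr rfl fun b _ => ?_
    split_ifs with hb
    · rw [hF, hfib' (fun a : G => E (a * b))]
      simp [hb]
    · simp [hb]
  have hzero : ∀ a b : G, orderOf a = 2 → orderOf b = 2 → E (a * b) ≠ 0 → a ∈ D.C ∧ b ∈ D.C := by
    intro a b ha hb hE0
    have hab : a * b ∈ D.Sp := by
      by_contra h
      exact hE0 (Exceptional.extendByZero_eq_zero_of_not_mem_supp (D.fn_supp hf) h)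
    obtain ⟨k, -, hk⟩ := D.mem_Sp.1 hab
    have hia : a⁻¹ = a := inv_eq_of_mul_eq_one_right (by rw [← pow_two]; exact orderOf_dvd_iff_pow_eq_one.1 ha.dvd)
    have hib : b⁻¹ = b := inv_eq_of_mul_eq_one_right (by rw [← pow_two]; exact orderOf_dvd_iff_pow_eq_one.1 hb.dvd)
    have haC : a ∈ D.C := by
      refine Subgroup.mem_centralizer_singleton_iff.2 (mul_inv_eq_iff_eq_mul.1 ?_)
      have e : a * (a * b) * a⁻¹ = (a * b)⁻¹ := by rw [mul_inv_rev, hia, hib, ← mul_assoc, ← pow_two, orderOf_dvd_iff_pow_eq_one.1 ha.dvd, one_mul]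
      have ht : D.t⁻¹ = D.t := inv_eq_of_mul_eq_one_right (by rw [← pow_two]; exact orderOf_dvd_iff_pow_eq_one.1 D.ht.dvd)
      rw [← hk, ← conj_pow, e, inv_pow, hk, ht]
    have habC : a * b ∈ D.C := hab.1
    refine ⟨haC, ?_⟩
    have := mul_mem (inv_mem haC) habC
    rwa [inv_mul_cancel_left] at this
  have h3 : (∑ b : G, ∑ a : G, if orderOf a = 2 ∧ orderOf b = 2 then E (a * b) else 0) = toC (pairSum f) := by
    rw [Finset.sum_comm]
    have hsum : ∀ F : G → ℂ, (∀ g, g ∉ D.C → F g = 0) → ∑ g : G, F g = ∑ x : D.C, F x := fun F hF => by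
      rw [← Finset.sum_subset (Finset.subset_univ (Finset.univ.filter fun g : G => g ∈ D.C))
        (fun g _ hg => hF g (by simpa using hg))]
      exact Finset.sum_subtype _ (fun g => by simp) F
    rw [hsum _ fun a ha => Finset.sum_eq_zero fun b _ => by
      split_ifs with h
      · by_contra h0
        exact ha (hzero a b h.1 h.2 h0).1
      · rfl]
    rw [pairSum, map_list_sum, List.map_map, ← D.sum_C]
    refine Finset.sum_congr rfl fun a _ => ?_
    rw [hsum _ fun b hb => by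
      split_ifs with h
      · by_contra h0
        exact hb (hzero a b h.1 h.2 h0).2
      · rfl]
    rw [Function.comp_apply, map_list_sum, List.map_map, ← D.sum_C]
    refine Finset.sum_congr rfl fun b _ => ?_
    simp only [Function.comp_apply, Bool.and_eq_true, D.invol_cd]
    split_ifs with h
    · rw [hE, ← Subgroup.coe_mul, extendByZero_coe, fn, cd_mul]
    · rw [map_zero]
  rw [h1, h2, h3]
  ring

end Setup

end CfsgLib.LThree.GLTwo
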