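import Cfsg.Agent.LThree.GLInvol
import Cfsg.Agent.CharBasics.CyclicTIGalois
import Cfsg.Agent.ZStar.Expand

/-!
# The order of a simple group with an involution centralised by `GL(2,3)`

* `Setup.card_eq` : it is 5616 or 7920
-/

set_option autoImplicit false
set_option linter.style.haveILetI false
set_option linter.unusedSectionVars false

open Cfsg CfsgLib CfsgLib.CharBasics
open CfsgLib.CyclicTI (IrrOrNeg classInner_neg_left classInner_neg_right irrOrNeg_eq_or_neg irrOrNeg_inner_self)
open scoped ComplexConjugate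

namespace CfsgLib.LThree.GLTwo

attribute [local irreducible] Cfsg.classInner Setup.V

universe u

section Signed

variable {G : Type u} [Group G] [Fintype G]

theorem conj_symm (a b : G → ℂ) : classInner a b = conj (classInner b a) := CharBasics.classInner_comm b a

theorem classInner_sub_left (a b c : G → ℂ) : classInner (a - b) c = classInner a c - classInner b c := by
  rw [sub_eq_add_neg, classInner_add_left, classInner_neg_left, sub_eq_add_neg]

theorem classInner_add_right' (a b c : G → ℂ) : classInner a (b + c) = classInner a b + classInner a c := by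
  rw [conj_symm a (b + c), classInner_add_left, map_add, ← conj_symm, ← conj_symm]

theorem classInner_sub_right (a b c : G → ℂ) : classInner a (b - c) = classInner a b - classInner a c := by
  rw [sub_eq_add_neg, classInner_add_right', classInner_neg_right, sub_eq_add_neg]

theorem signed_neg {a : G → ℂ} (h : IrrOrNeg a) : IrrOrNeg (-a) :=
  h.elim (fun h => Or.inr (by rwa [neg_neg])) Or.inl

theorem inner_cases {a b : G → ℂ} (ha : IrrOrNeg a) (hb : IrrOrNeg b) :
    classInner a b = 0 ∨ (classInner a b = 1 ∧ a = b) ∨ (classInner a b = -1 ∧ a = -b) := by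
  by_cases h : classInner a b = 0
  · exact Or.inl h
  rcases irrOrNeg_eq_or_neg ha hb h with e | e
  · exact Or.inr (Or.inl ⟨by rw [e, irrOrNeg_inner_self hb], e⟩)
  · exact Or.inr (Or.inr ⟨by rw [e, classInner_neg_left, irrOrNeg_inner_self hb], e⟩)

theorem inner_int {a b : G → ℂ} (ha : IrrOrNeg a) (hb : IrrOrNeg b) : ∃ n : ℤ, classInner a b = n := by
  rcases inner_cases ha hb with h | ⟨h, -⟩ | ⟨h, -⟩
  · exact ⟨0, by rw [h]; simp⟩
  · exact ⟨1, by rw [h]; simp⟩
  · exact ⟨-1, by rw [h]; simp⟩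

theorem inner_symm {a b : G → ℂ} (ha : IrrOrNeg a) (hb : IrrOrNeg b) : classInner a b = classInner b a := by
  obtain ⟨n, hn⟩ := inner_int ha hb
  rw [conj_symm b a, hn, map_intCast]

/-- A signed character sees one member of an orthogonal system. -/
theorem pin {e a b : G → ℂ} (he : IrrOrNeg e) (ha : IrrOrNeg a) (hab : classInner a b = 0)
    (hea : classInner e a ≠ 0) : classInner e b = 0 := by
  rcases inner_cases he ha with h | ⟨-, rfl⟩ | ⟨-, rfl⟩
  · exact absurd h hea
  · exact hab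
  · rw [classInner_neg_left, hab, neg_zero]

theorem split_two {e a b : G → ℂ} (he : IrrOrNeg e) (ha : IrrOrNeg a) (hab : classInner a b = 0)
    (h : classInner e a + classInner e b = 0) : classInner e a = 0 ∧ classInner e b = 0 := by
  by_cases hea : classInner e a = 0
  · rw [hea, zero_add] at h; exact ⟨hea, h⟩
  · rw [pin he ha hab hea, add_zero] at h; exact absurd h hea

theorem split_three {e a b c : G → ℂ} (he : IrrOrNeg e) (ha : IrrOrNeg a) (hb : IrrOrNeg b)
    (hab : classInner a b = 0) (hac : classInner a c = 0) (hbc : classInner b c = 0)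
    (h : classInner e a + classInner e b + classInner e c = 0) :
    classInner e a = 0 ∧ classInner e b = 0 ∧ classInner e c = 0 := by
  by_cases hea : classInner e a = 0
  · rw [hea, zero_add] at h
    exact ⟨hea, split_two he hb hbc h⟩
  · rw [pin he ha hab hea, pin he ha hac hea, add_zero, add_zero] at h
    exact absurd h hea

theorem one_signed : IrrOrNeg (fun _ : G => (1 : ℂ)) := Or.inl isIrrCharacter_one

theorem signed_one_int {a : G → ℂ} (ha : IrrOrNeg a) : ∃ n : ℤ, n ≠ 0 ∧ a 1 = n := by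
  rcases ha with h | h
  · exact ⟨charDegree a, Int.natCast_ne_zero.2 (charDegree_pos h).ne', by
      rw [apply_one (isCharacter_of_irr h)]; norm_num⟩
  · refine ⟨-(charDegree (-a) : ℤ), neg_ne_zero.2 (Int.natCast_ne_zero.2 (charDegree_pos h).ne'), ?_⟩
    have := apply_one (isCharacter_of_irr h)
    rw [Pi.neg_apply, neg_eq_iff_eq_neg] at this
    rw [this]; norm_num

theorem smul_signed (χ : IrrCharacter G) {c : ℤ} (hc : c = 1 ∨ c = -1) :
    IrrOrNeg (fun g => (c : ℂ) * (χ : G → ℂ) g) := by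
  rcases hc with rfl | rfl
  · rw [show (fun g => ((1 : ℤ) : ℂ) * (χ : G → ℂ) g) = (χ : G → ℂ) from funext fun g => by simp]
    exact Or.inl χ.2
  · rw [show (fun g => ((-1 : ℤ) : ℂ) * (χ : G → ℂ) g) = -(χ : G → ℂ) from funext fun g => by simp]
    exact Or.inr (by rw [neg_neg]; exact χ.2)

theorem smul_orth (χ ψ : IrrCharacter G) (h : χ ≠ ψ) (c c' : ℤ) :
    classInner (fun g => (c : ℂ) * (χ : G → ℂ) g) (fun g => (c' : ℂ) * (ψ : G → ℂ) g) = 0 := by
  classical
  have := classInner_irr χ ψ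
  rw [if_neg h, classInner_eq] at this
  rw [classInner_eq]
  rw [mul_eq_zero] at this ⊢
  refine this.imp id fun h0 => ?_
  simp only [map_mul, map_intCast]
  rw [Finset.sum_congr rfl (g := fun g => ((c : ℂ) * c') * ((χ : G → ℂ) g * conj ((ψ : G → ℂ) g))) (fun g _ => by ring),
    ← Finset.mul_sum, h0, mul_zero]

theorem inner_nonpos {p q : G → ℂ} (hp : IrrOrNeg p) (hq : IrrOrNeg q) (hne : p ≠ q) :
    ∃ n : ℤ, n ≤ 0 ∧ classInner p q = n := by
  rcases inner_cases hp hq with h | ⟨-, e⟩ | ⟨h, -⟩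
  · exact ⟨0, le_rfl, by rw [h]; simp⟩
  · exact absurd e hne
  · exact ⟨-1, by norm_num, by rw [h]; simp⟩

theorem pythag {n : ℕ} (L : Fin n → (G → ℂ)) (orth : ∀ i j, classInner (L i) (L j) = if i = j then 1 else 0)
    (Φ : G → ℂ) (B : Fin n → ℤ) (hB : ∀ i, classInner (L i) Φ = B i) {N : ℤ} (hN : classInner Φ Φ = N) :
    ∑ i, B i * B i ≤ N ∧ (∑ i, B i * B i = N → Φ = ∑ i, (B i : ℂ) • L i) := by
  have hsl : ∀ F, classInner (∑ i, (B i : ℂ) • L i) F = ∑ i, (B i : ℂ) * classInner (L i) F := fun F => by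
    rw [classInner_sum_left]; exact Finset.sum_congr rfl fun i _ => classInner_smul_left _ _ _
  have hx1 : classInner (∑ i, (B i : ℂ) • L i) Φ = ((∑ i, B i * B i : ℤ) : ℂ) := by
    rw [hsl]; push_cast; exact Finset.sum_congr rfl fun i _ => by rw [hB]
  have hx2 : classInner Φ (∑ i, (B i : ℂ) • L i) = ((∑ i, B i * B i : ℤ) : ℂ) := by
    rw [conj_symm, hx1, map_intCast]
  have hx3 : classInner (∑ i, (B i : ℂ) • L i) (∑ i, (B i : ℂ) • L i) = ((∑ i, B i * B i : ℤ) : ℂ) := by
    rw [hsl]
    push_cast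
    refine Finset.sum_congr rfl fun i _ => ?_
    congr 1
    rw [conj_symm, hsl]
    simp only [orth, mul_ite, mul_one, mul_zero, Finset.sum_ite_eq', Finset.mem_univ, if_true, map_intCast]
  have hnorm : classInner (Φ - ∑ i, (B i : ℂ) • L i) (Φ - ∑ i, (B i : ℂ) • L i) =
      ((N - ∑ i, B i * B i : ℤ) : ℂ) := by
    rw [classInner_sub_left, classInner_sub_right, classInner_sub_right, hN, hx1, hx2, hx3]
    push_cast
    ring
  refine ⟨?_, fun h => ?_⟩
  · have h := Exceptional.classInner_self_nonneg (Φ - ∑ i, (B i : ℂ) • L i)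
    rw [hnorm, Complex.intCast_re] at h
    have : (0 : ℤ) ≤ N - ∑ i, B i * B i := by exact_mod_cast h
    linarith
  · exact sub_eq_zero.1 (Exceptional.eq_zero_of_self (by rw [hnorm, h, sub_self]; simp))

theorem clash {p q w : G → ℂ} (hp : IrrOrNeg p) (hq : IrrOrNeg q) (hw : IrrOrNeg w) (h1 : classInner p w ≠ 0)
    (h2 : classInner q w ≠ 0) (h3 : classInner p q = 0) : False := by
  refine h2 (inner_symm hq hw ▸ pin hw hp h3 ?_)
  rwa [inner_symm hw hp]

theorem expand_two {Φ : G → ℂ} (hΦ : Φ ∈ BrauerInd.genChar G) {c₀ : ℤ}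
    (hone : classInner Φ (fun _ => 1) = (c₀ : ℂ)) (hnorm : classInner Φ Φ = (c₀ : ℂ) * c₀ + 2) :
    ∃ a b, IrrOrNeg a ∧ IrrOrNeg b ∧ classInner a b = 0 ∧ classInner a (fun _ => 1) = 0 ∧
      classInner b (fun _ => 1) = 0 ∧ Φ = (fun _ => (c₀ : ℂ)) + a + b := by
  classical
  obtain ⟨S, c, hS, hone', hpm, -, -, hexp⟩ := ZStar.exists_small_expansion (N := 2) hΦ
    (BrauerInd.genChar_isClassFunction hΦ) (by norm_num) hone (by rw [hnorm]; norm_num)
  obtain ⟨A, B, hAB, rfl⟩ := Finset.card_eq_two.1 hS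
  have h1 : ∀ X : IrrCharacter G, X ∈ ({A, B} : Finset _) →
      classInner (fun g => (c X : ℂ) * (X : G → ℂ) g) (fun _ => 1) = 0 := fun X hX => by
    have := smul_orth X oneChar (fun e => hone' (e ▸ hX)) (c X) 1
    simpa [oneChar_apply] using this
  refine ⟨_, _, smul_signed A (hpm A (by simp)), smul_signed B (hpm B (by simp)), smul_orth A B hAB _ _,
    h1 A (by simp), h1 B (by simp), funext fun g => ?_⟩
  rw [hexp, Finset.sum_pair hAB]
  simp [add_assoc]

theorem expand_three {Φ : G → ℂ} (hΦ : Φ ∈ BrauerInd.genChar G) {c₀ : ℤ}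
    (hone : classInner Φ (fun _ => 1) = (c₀ : ℂ)) (hnorm : classInner Φ Φ = (c₀ : ℂ) * c₀ + 3) :
    ∃ a b c, IrrOrNeg a ∧ IrrOrNeg b ∧ IrrOrNeg c ∧ classInner a b = 0 ∧ classInner a c = 0 ∧
      classInner b c = 0 ∧ classInner a (fun _ => 1) = 0 ∧ classInner b (fun _ => 1) = 0 ∧
      classInner c (fun _ => 1) = 0 ∧ Φ = (fun _ => (c₀ : ℂ)) + a + b + c := by
  classical
  obtain ⟨S, c, hS, hone', hpm, -, -, hexp⟩ := ZStar.exists_small_expansion (N := 3) hΦ
    (BrauerInd.genChar_isClassFunction hΦ) le_rfl hone (by rw [hnorm]; norm_num)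
  obtain ⟨A, B, E, hAB, hAE, hBE, rfl⟩ := Finset.card_eq_three.1 hS
  have h1 : ∀ X : IrrCharacter G, X ∈ ({A, B, E} : Finset _) →
      classInner (fun g => (c X : ℂ) * (X : G → ℂ) g) (fun _ => 1) = 0 := fun X hX => by
    have := smul_orth X oneChar (fun e => hone' (e ▸ hX)) (c X) 1
    simpa [oneChar_apply] using this
  refine ⟨_, _, _, smul_signed A (hpm A (by simp)), smul_signed B (hpm B (by simp)), smul_signed E (hpm E (by simp)),
    smul_orth A B hAB _ _, smul_orth A E hAE _ _, smul_orth B E hBE _ _,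
    h1 A (by simp), h1 B (by simp), h1 E (by simp), funext fun g => ?_⟩
  rw [hexp, Finset.sum_insert (by simp [hAB, hAE]), Finset.sum_pair hBE]
  simp [add_assoc]

/-- The class multiplication for a signed character. -/
theorem signed_relation {f : G → ℂ} (hf : IrrOrNeg f) (t : G) :
    f 1 * ∑ g : G, f (g * t * g⁻¹ * t) = (Nat.card G : ℂ) * f t * f t := by
  rcases hf with h | h
  · exact sum_conj_apply_mul h t t
  · have := sum_conj_apply_mul h t t
    simp only [Pi.neg_apply, Finset.sum_neg_distrib] at this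
    linear_combination this

/-- The three signed characters of the first two functions. -/
theorem exists_frame {W W' : G → ℂ} (hW : W ∈ BrauerInd.genChar G) (hW' : W' ∈ BrauerInd.genChar G)
    (jW : classInner W (fun _ => 1) = 0) (jW' : classInner W' (fun _ => 1) = 0)
    (iW : classInner W W = 2) (iW' : classInner W' W' = 2) (i : classInner W W' = 1) :
    ∃ e : Fin 3 → (G → ℂ), (∀ k, IrrOrNeg (e k)) ∧ (∀ k l, k ≠ l → classInner (e k) (e l) = 0) ∧
      (∀ k, classInner (e k) (fun _ => 1) = 0) ∧ W = e 0 - e 1 ∧ W' = e 0 - e 2 := by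
  obtain ⟨a, b, ha, hb, hab, ha1, hb1, hWe⟩ := expand_two hW (c₀ := 0) (by simpa using jW) (by simpa using iW)
  obtain ⟨a', b', ha', hb', hab', ha'1, hb'1, hW'e⟩ := expand_two hW' (c₀ := 0) (by simpa using jW')
    (by simpa using iW')
  have hW0 : W = a + b := by rw [hWe]; funext g; simp
  have hW'0 : W' = a' + b' := by rw [hW'e]; funext g; simp
  have mk : ∀ x y z : G → ℂ, IrrOrNeg x → IrrOrNeg y → IrrOrNeg z → classInner x y = 0 → classInner x z = 0 →
      classInner x (fun _ => 1) = 0 → classInner y (fun _ => 1) = 0 → classInner z (fun _ => 1) = 0 →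
      W = x + y → W' = x + z → ∃ e : Fin 3 → (G → ℂ), (∀ k, IrrOrNeg (e k)) ∧
        (∀ k l, k ≠ l → classInner (e k) (e l) = 0) ∧
        (∀ k, classInner (e k) (fun _ => 1) = 0) ∧ W = e 0 - e 1 ∧ W' = e 0 - e 2 := by
    intro x y z hx hy hz hxy hxz hx1 hy1 hz1 h1 h2
    have hyz : classInner y z = 0 := by
      have h := i
      rw [h1, h2, classInner_add_left, classInner_add_right', classInner_add_right', irrOrNeg_inner_self hx, hxz,
        inner_symm hy hx, hxy] at h
      linear_combination h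
    have sgn : ∀ k, IrrOrNeg (![x, -y, -z] k) := fun k => by
      fin_cases k
      · exact hx
      · exact signed_neg hy
      · exact signed_neg hz
    refine ⟨![x, -y, -z], sgn, fun k l hkl => ?_, fun k => ?_, ?_, ?_⟩
    · fin_cases k <;> fin_cases l
      all_goals first
        | exact absurd rfl hkl
        | (show classInner x (-y) = 0; rw [classInner_neg_right, hxy, neg_zero])
        | (show classInner x (-z) = 0; rw [classInner_neg_right, hxz, neg_zero])
        | (show classInner (-y) x = 0; rw [classInner_neg_left, inner_symm hy hx, hxy, neg_zero])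
        | (show classInner (-z) x = 0; rw [classInner_neg_left, inner_symm hz hx, hxz, neg_zero])
        | (show classInner (-y) (-z) = 0; rw [classInner_neg_left, classInner_neg_right, neg_neg, hyz])
        | (show classInner (-z) (-y) = 0
           rw [classInner_neg_left, classInner_neg_right, neg_neg, inner_symm hz hy, hyz])
    · fin_cases k
      · exact hx1
      · show classInner (-y) _ = 0; rw [classInner_neg_left, hy1, neg_zero]
      · show classInner (-z) _ = 0; rw [classInner_neg_left, hz1, neg_zero]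
    · show W = x - -y; rw [h1, sub_neg_eq_add]
    · show W' = x - -z; rw [h2, sub_neg_eq_add]
  by_cases h1 : a = a'
  · subst h1; exact mk a b b' ha hb hb' hab hab' ha1 hb1 hb'1 hW0 hW'0
  by_cases h2 : a = b'
  · subst h2; exact mk a b a' ha hb ha' hab (by rw [inner_symm ha ha']; exact hab') ha1 hb1 ha'1 hW0
      (by rw [hW'0, add_comm])
  by_cases h3 : b = a'
  · subst h3; exact mk b a b' hb ha hb' (by rw [inner_symm hb ha]; exact hab) hab' hb1 ha1 hb'1
      (by rw [hW0, add_comm]) hW'0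
  by_cases h4 : b = b'
  · subst h4; exact mk b a a' hb ha ha' (by rw [inner_symm hb ha]; exact hab)
      (by rw [inner_symm hb ha']; exact hab') hb1 ha1 ha'1 (by rw [hW0, add_comm]) (by rw [hW'0, add_comm])
  exfalso
  obtain ⟨n1, l1, c1⟩ := inner_nonpos ha ha' h1
  obtain ⟨n2, l2, c2⟩ := inner_nonpos ha hb' h2
  obtain ⟨n3, l3, c3⟩ := inner_nonpos hb ha' h3
  obtain ⟨n4, l4, c4⟩ := inner_nonpos hb hb' h4
  rw [hW0, hW'0, classInner_add_left, classInner_add_right', classInner_add_right', c1, c2, c3, c4] at i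
  have : n1 + n2 + (n3 + n4) = (1 : ℤ) := by exact_mod_cast i
  omega

/-- The signed characters of the functions of norm three are orthogonal to the frame. -/
theorem exists_second {e : Fin 3 → (G → ℂ)} (he : ∀ k, IrrOrNeg (e k))
    (heo : ∀ k l, k ≠ l → classInner (e k) (e l) = 0) (he1 : ∀ k, classInner (e k) (fun _ => 1) = 0)
    {d : ℤ} (hd0 : d ≠ 0) (hd : ∀ k, e k 1 = d)
    {T S : G → ℂ} (hT : T ∈ BrauerInd.genChar G) (hS : S ∈ BrauerInd.genChar G)
    (jT : classInner T (fun _ => 1) = 0) (jS : classInner S (fun _ => 1) = 1)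
    (iT : classInner T T = 3) (iS : classInner S S = 3) (iTS : classInner T S = 1) (hT1 : T 1 = 0)
    (eT : ∀ k, classInner (e k) T = classInner (e 0) T) (eS : ∀ k, classInner (e k) S = classInner (e 0) S) :
    ∃ f : Fin 4 → (G → ℂ), (∀ k, IrrOrNeg (f k)) ∧ (∀ k l, k ≠ l → classInner (f k) (f l) = 0) ∧
      (∀ k, classInner (f k) (fun _ => 1) = 0) ∧ (∀ k l, classInner (e k) (f l) = 0) ∧
      T = f 0 + f 2 + f 3 ∧ S = (fun _ => 1) + f 0 + f 1 := by
  obtain ⟨x, y, z, hx, hy, hz, oxy, oxz, oyz, x1, y1, z1, hTe⟩ := expand_three hT (c₀ := 0)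
    (by simpa using jT) (by simpa using iT)
  have hT0 : T = x + y + z := by rw [hTe]; funext g; simp
  obtain ⟨u, v, hu, hv, ouv, u1, v1, hSe⟩ := expand_two hS (c₀ := 1) (by simpa using jS) (by rw [iS]; norm_num)
  have hS0 : S = (fun _ => 1) + u + v := by rw [hSe]; funext g; simp
  have h0 : classInner (e 0) T = 0 := by
    obtain ⟨p, hp⟩ := inner_int (he 0) hx; obtain ⟨q, hq⟩ := inner_int (he 0) hy; obtain ⟨r, hr⟩ := inner_int (he 0) hz
    have hn : classInner (e 0) T = ((p + q + r : ℤ) : ℂ) := by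
      rw [hT0, classInner_add_right', classInner_add_right', hp, hq, hr]; push_cast; rfl
    generalize hgen : (p + q + r : ℤ) = n at hn
    obtain ⟨hle, heq⟩ := pythag e (fun i j => by
        by_cases h : i = j
        · rw [if_pos h, h, irrOrNeg_inner_self (he j)]
        · rw [if_neg h, heo i j h])
      T (fun _ => n) (fun k => by rw [eT, hn]) (N := 3) (by rw [iT]; norm_num)
    by_contra hne0
    have hn0 : n ≠ 0 := fun h => hne0 (by rw [hn, h]; simp)
    simp only [Fin.sum_univ_three] at hle heq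
    have hpos : 0 < n * n := mul_self_pos.2 hn0
    have h := congrFun (heq (by nlinarith)) 1
    simp only [Pi.add_apply, Pi.smul_apply, smul_eq_mul, hT1, hd] at h
    have : ((3 * n * d : ℤ) : ℂ) = 0 := by push_cast; linear_combination -h
    exact mul_ne_zero (mul_ne_zero (by norm_num) hn0) hd0 (Int.cast_eq_zero.1 this)
  have ex : ∀ k, classInner (e k) x = 0 ∧ classInner (e k) y = 0 ∧ classInner (e k) z = 0 := fun k => by
    have hev : classInner (e k) T = 0 := (eT k).trans h0
    rw [hT0, classInner_add_right', classInner_add_right'] at hev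
    exact split_three (he k) hx hy oxy oxz oyz hev
  have hval : ∀ k, classInner (e k) S = classInner (e k) u + classInner (e k) v := fun k => by
    rw [hS0, classInner_add_right', classInner_add_right', he1 k, zero_add]
  have h0S : classInner (e 0) u + classInner (e 0) v = 0 := by
    by_contra hne0
    have key : ∀ k, classInner (e k) u ≠ 0 ∨ classInner (e k) v ≠ 0 := fun k => by
      by_contra h
      push Not at h
      exact hne0 (by rw [← hval, ← eS k, hval, h.1, h.2, add_zero])
    rcases key 0 with a1 | a1 <;> rcases key 1 with a2 | a2 <;> rcases key 2 with a3 | a3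
    all_goals first
      | exact clash (he 0) (he 1) hu a1 a2 (heo 0 1 (by decide))
      | exact clash (he 0) (he 1) hv a1 a2 (heo 0 1 (by decide))
      | exact clash (he 0) (he 2) hu a1 a3 (heo 0 2 (by decide))
      | exact clash (he 0) (he 2) hv a1 a3 (heo 0 2 (by decide))
      | exact clash (he 1) (he 2) hu a2 a3 (heo 1 2 (by decide))
      | exact clash (he 1) (he 2) hv a2 a3 (heo 1 2 (by decide))
  have eu : ∀ k, classInner (e k) u = 0 ∧ classInner (e k) v = 0 := fun k =>
    split_two (he k) hu ouv (by rw [← hval, eS k, hval, h0S])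
  have mk : ∀ f p q r : G → ℂ, IrrOrNeg f → IrrOrNeg p → IrrOrNeg q → IrrOrNeg r →
      classInner f p = 0 → classInner f q = 0 → classInner f r = 0 → classInner q r = 0 →
      classInner f (fun _ => 1) = 0 → classInner p (fun _ => 1) = 0 → classInner q (fun _ => 1) = 0 →
      classInner r (fun _ => 1) = 0 → T = f + q + r → S = (fun _ => 1) + f + p →
      (∀ k, classInner (e k) f = 0 ∧ classInner (e k) p = 0 ∧ classInner (e k) q = 0 ∧ classInner (e k) r = 0) →
    ∃ f : Fin 4 → (G → ℂ), (∀ k, IrrOrNeg (f k)) ∧ (∀ k l, k ≠ l → classInner (f k) (f l) = 0) ∧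
      (∀ k, classInner (f k) (fun _ => 1) = 0) ∧ (∀ k l, classInner (e k) (f l) = 0) ∧
      T = f 0 + f 2 + f 3 ∧ S = (fun _ => 1) + f 0 + f 1 := by
    intro f p q r hf hp hq hr ofp ofq ofr oqr f1 p1 q1 r1 h1 h2 h3
    have hsum : classInner p q + classInner p r = 0 := by
      have h := iTS
      rw [h1, h2] at h
      simp only [classInner_add_left, classInner_add_right', irrOrNeg_inner_self hf, ofp, f1, q1, r1,
        inner_symm hq hf, ofq, inner_symm hr hf, ofr, inner_symm hq hp, inner_symm hr hp] at h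
      linear_combination h
    obtain ⟨opq, opr⟩ := split_two hp hq oqr hsum
    have sgn : ∀ k, IrrOrNeg (![f, p, q, r] k) := fun k => by
      fin_cases k
      · exact hf
      · exact hp
      · exact hq
      · exact hr
    have up : ∀ k l : Fin 4, k < l → classInner (![f, p, q, r] k) (![f, p, q, r] l) = 0 := fun k l hkl => by
      fin_cases k <;> fin_cases l
      all_goals first
        | exact absurd hkl (by decide)
        | exact ofp | exact ofq | exact ofr | exact opq | exact opr | exact oqr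
    refine ⟨![f, p, q, r], sgn, fun k l hkl => ?_, fun k => ?_, fun k l => ?_, h1, h2⟩
    · rcases lt_or_gt_of_ne hkl with h | h
      · exact up k l h
      · rw [inner_symm (sgn k) (sgn l)]; exact up l k h
    · fin_cases k
      · exact f1
      · exact p1
      · exact q1
      · exact r1
    · fin_cases l
      · exact (h3 k).1
      · exact (h3 k).2.1
      · exact (h3 k).2.2.1
      · exact (h3 k).2.2.2
  have hex : u = x ∨ u = y ∨ u = z ∨ v = x ∨ v = y ∨ v = z := by
    by_contra hno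
    push Not at hno
    obtain ⟨n1, n2, n3, n4, n5, n6⟩ := hno
    obtain ⟨a1, b1, c1⟩ := inner_nonpos hu hx n1
    obtain ⟨a2, b2, c2⟩ := inner_nonpos hu hy n2
    obtain ⟨a3, b3, c3⟩ := inner_nonpos hu hz n3
    obtain ⟨a4, b4, c4⟩ := inner_nonpos hv hx n4
    obtain ⟨a5, b5, c5⟩ := inner_nonpos hv hy n5
    obtain ⟨a6, b6, c6⟩ := inner_nonpos hv hz n6
    have h := iTS
    rw [hT0, hS0] at h
    simp only [classInner_add_left, classInner_add_right', x1, y1, z1, inner_symm hx hu, inner_symm hy hu,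
      inner_symm hz hu, inner_symm hx hv, inner_symm hy hv, inner_symm hz hv, c1, c2, c3, c4, c5, c6, zero_add] at h
    have : (a1 + a2 + a3 + (a4 + a5 + a6) : ℤ) = 1 := by exact_mod_cast h
    omega
  rcases hex with h | h | h | h | h | h <;> subst h
  · exact mk u v y z hu hv hy hz ouv oxy oxz oyz u1 v1 y1 z1 hT0 hS0
      fun k => ⟨(eu k).1, (eu k).2, (ex k).2.1, (ex k).2.2⟩
  · exact mk u v x z hu hv hx hz ouv (by rw [inner_symm hu hx]; exact oxy) oyz oxz u1 v1 x1 z1
      (by rw [hT0]; abel) hS0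
      fun k => ⟨(eu k).1, (eu k).2, (ex k).1, (ex k).2.2⟩
  · exact mk u v x y hu hv hx hy ouv (by rw [inner_symm hu hx]; exact oxz) (by rw [inner_symm hu hy]; exact oyz)
      oxy u1 v1 x1 y1 (by rw [hT0]; abel) hS0
      fun k => ⟨(eu k).1, (eu k).2, (ex k).1, (ex k).2.1⟩
  · exact mk v u y z hv hu hy hz (by rw [inner_symm hv hu]; exact ouv) oxy oxz oyz v1 u1 y1 z1 hT0
      (by rw [hS0]; abel)
      fun k => ⟨(eu k).2, (eu k).1, (ex k).2.1, (ex k).2.2⟩
  · exact mk v u x z hv hu hx hz (by rw [inner_symm hv hu]; exact ouv) (by rw [inner_symm hv hx]; exact oxy) oyz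
      oxz v1 u1 x1 z1 (by rw [hT0]; abel) (by rw [hS0]; abel)
      fun k => ⟨(eu k).2, (eu k).1, (ex k).1, (ex k).2.2⟩
  · exact mk v u x y hv hu hx hy (by rw [inner_symm hv hu]; exact ouv) (by rw [inner_symm hv hx]; exact oxz)
      (by rw [inner_symm hv hy]; exact oyz) oxy v1 u1 x1 y1 (by rw [hT0]; abel) (by rw [hS0]; abel)
      fun k => ⟨(eu k).2, (eu k).1, (ex k).1, (ex k).2.1⟩

end Signed

namespace Setup

variable {G : Type u} [Group G] [Finite G] (D : Setup G) [Fintype G]

theorem value (f : G → ℂ) (hf : IsClassFunction G f) :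
    f D.t = 3 * classInner f (D.V vT) + 3 * classInner f (D.V vS) - 2 * classInner f (D.V vF)
      + 2 * classInner f (D.V vW') := by
  classical
  haveI := Fintype.ofFinite D.C
  have key : ∀ v, classInner f (D.V v) = (48 : ℂ)⁻¹ * ∑ x : D.C, f x * conj (D.fn v x) := fun v => by
    rw [V, classInner_indFun' D.C _ hf, classInner_eq, D.card_C]
    norm_num
  rw [key, key, key, key]
  have hone : ∀ x : D.C, 3 * conj (D.fn vT x) + 3 * conj (D.fn vS x) - 2 * conj (D.fn vF x) + 2 * conj (D.fn vW' x)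
      = if x = ⟨D.t, D.mem_C⟩ then 48 else 0 := fun x => by
    have h := congrArg (fun r => conj (toC r)) (central_ok _ (code_mem (D.e x)))
    simp only [← D.cd_t] at h
    have hiff : code (D.e x) = D.cd ⟨D.t, D.mem_C⟩ ↔ x = ⟨D.t, D.mem_C⟩ := D.cd_inj
    simp only [hiff] at h
    simp only [fn, cd]
    split_ifs with hx <;> simp only [hx, if_true, if_false, map_sub, map_mul, map_add, map_ofNat, map_zero] at h ⊢ <;>
      linear_combination h
  calc f D.t = (48 : ℂ)⁻¹ * ∑ x : D.C, f x * (if x = ⟨D.t, D.mem_C⟩ then 48 else 0) := by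
        simp only [mul_ite, mul_zero, Finset.sum_ite_eq', Finset.mem_univ, if_true]
        ring
    _ = _ := by
        simp only [← hone, mul_add, mul_sub, Finset.sum_add_distrib, Finset.sum_sub_distrib, Finset.mul_sum]
        congr 1
        · congr 1
          · congr 1 <;> exact Finset.sum_congr rfl fun x _ => by ring
          · exact Finset.sum_congr rfl fun x _ => by ring
        · exact Finset.sum_congr rfl fun x _ => by ring

variable [IsSimpleGroup G]
include D

theorem not_isMulCommutative : ¬ IsMulCommutative G := by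
  intro h
  haveI := h
  letI : CommGroup G := { (inferInstance : Group G) with mul_comm := fun a b => mul_comm' a b }
  haveI : Fact (Nat.Prime 2) := ⟨Nat.prime_two⟩
  have hp : (Nat.card G).Prime := IsSimpleGroup.prime_card
  have hd := Subgroup.card_subgroup_dvd_card D.C
  rw [D.card_C] at hd
  rcases (Nat.dvd_prime hp).1 hd with e | e
  · norm_num at e
  · rw [← e] at hp; norm_num at hp

theorem not_dvd_thirty_two : ¬ 32 ∣ Nat.card G := by
  haveI : Fact (Nat.Prime 2) := ⟨Nat.prime_two⟩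
  obtain ⟨P, hP⟩ := D.isSylow
  intro h
  have hmul := Subgroup.card_mul_index (P : Subgroup G)
  rw [hP, D.card_S] at hmul
  have h2 := P.not_dvd_index
  rw [hP] at h2
  obtain ⟨c, hc⟩ := h
  exact h2 ⟨c, by omega⟩

omit D in
theorem arith_list : ∀ i ∈ List.range 145, ((i : ℤ) - 72) ∣ 72 →
    ((i : ℤ) - 66) ^ 2 ∣ 4608 * (((i : ℤ) - 64) * ((i : ℤ) - 63)) →
    4608 * (((i : ℤ) - 64) * ((i : ℤ) - 63)) / ((i : ℤ) - 66) ^ 2 % 32 ≠ 0 →
    4608 * (((i : ℤ) - 64) * ((i : ℤ) - 63)) / ((i : ℤ) - 66) ^ 2 = 5616 ∨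
      4608 * (((i : ℤ) - 64) * ((i : ℤ) - 63)) / ((i : ℤ) - 66) ^ 2 = 7920 := by decide +kernel

omit D in
theorem arith {n : ℕ} (hn : 0 < n) (h32 : ¬ 32 ∣ n) {d D₄ : ℤ} (hd : d ≠ 0) (hD : D₄ ≠ 0) (h7 : 1 + d ≠ 0)
    (h5 : -1 - D₄ ≠ 0) (h6 : -1 - d - D₄ ≠ 0)
    (e2 : (n : ℂ) * (16 / (D₄ : ℂ) + 1 / ((-1 - d - D₄ : ℤ) : ℂ) + 9 / ((1 + d : ℤ) : ℂ)) = 9216)
    (e3 : (n : ℂ) * (1 + 16 / (D₄ : ℂ) + 9 / ((-1 - D₄ : ℤ) : ℂ)) = 9216)
    (e4 : (n : ℂ) * (1 + 4 / (d : ℂ) + 16 / (D₄ : ℂ) + 1 / ((-1 - d - D₄ : ℤ) : ℂ)) = 13824) :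
    n = 5616 ∨ n = 7920 := by
  have cd : (d : ℂ) ≠ 0 := Int.cast_ne_zero.2 hd
  have cD : (D₄ : ℂ) ≠ 0 := Int.cast_ne_zero.2 hD
  have c7 : ((1 + d : ℤ) : ℂ) ≠ 0 := Int.cast_ne_zero.2 h7
  have c5 : ((-1 - D₄ : ℤ) : ℂ) ≠ 0 := Int.cast_ne_zero.2 h5
  have c6 : ((-1 - d - D₄ : ℤ) : ℂ) ≠ 0 := Int.cast_ne_zero.2 h6
  have a4 : (n : ℂ) * (1 + 4 / (d : ℂ) - 9 / ((1 + d : ℤ) : ℂ)) = 4608 := by linear_combination e4 - e2
  have a2 : (n : ℂ) * (1 / ((-1 - d - D₄ : ℤ) : ℂ) + 9 / ((1 + d : ℤ) : ℂ) - 1 - 9 / ((-1 - D₄ : ℤ) : ℂ)) = 0 := by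
    linear_combination e2 - e3
  have b2 := (mul_eq_zero.1 a2).resolve_left (Nat.cast_ne_zero.2 hn.ne')
  field_simp at a4 b2 e3
  push_cast at a4 b2 e3
  have A4 : (n : ℤ) * (d - 2) ^ 2 = 4608 * d * (d + 1) := by
    apply Int.cast_injective (α := ℂ)
    push_cast
    linear_combination a4
  have A3 : (n : ℤ) * (D₄ + 4) ^ 2 = 9216 * D₄ * (D₄ + 1) := by
    apply Int.cast_injective (α := ℂ)
    push_cast
    linear_combination -e3
  have A2 : (2 + d + D₄) * (9 * (1 + d + D₄) - (1 + d) * (1 + D₄)) = 0 := by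
    apply Int.cast_injective (α := ℂ)
    push_cast
    first | linear_combination b2 | linear_combination -b2
  rcases mul_eq_zero.1 A2 with h | h
  · exfalso
    have hD' : D₄ = -2 - d := by linarith
    subst hD'
    have h' : (d + 1) * (2 * (d + 2) - d) = 0 := by
      have : 4608 * ((d + 1) * (2 * (d + 2) - d)) = 0 := by linear_combination A4 - A3
      exact (mul_eq_zero.1 this).resolve_left (by norm_num)
    rcases mul_eq_zero.1 h' with e | e
    · exact h7 (by linarith)
    · have hd4 : d = -4 := by linarith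
      subst hd4
      norm_num at A4
      exact h32 ⟨48, by omega⟩
  · have hk : (d - 8) * (D₄ - 8) = 72 := by linear_combination -h
    have hdvd : (d - 8) ∣ 72 := ⟨_, hk.symm⟩
    have hb := Int.le_of_dvd (by norm_num) ((abs_dvd _ _).2 hdvd)
    rw [abs_le] at hb
    obtain ⟨i, hi⟩ : ∃ i : ℕ, (i : ℤ) = d + 64 := ⟨(d + 64).toNat, Int.toNat_of_nonneg (by linarith)⟩
    have hd' : d = (i : ℤ) - 64 := by linarith
    subst hd'
    have hne : ((i : ℤ) - 66) ^ 2 ≠ 0 := by
      intro h0
      rw [show ((i : ℤ) - 64 - 2) = (i : ℤ) - 66 by ring, h0, mul_zero] at A4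
      have h0' := pow_eq_zero_iff two_ne_zero |>.1 h0
      rw [show (i : ℤ) = 66 by linarith] at A4
      norm_num at A4
    have hq : 4608 * (((i : ℤ) - 64) * ((i : ℤ) - 63)) = ((i : ℤ) - 66) ^ 2 * n := by linear_combination -A4
    have := arith_list i (List.mem_range.2 (by omega)) (by rwa [show (i : ℤ) - 72 = (i : ℤ) - 64 - 8 by ring])
      ⟨_, hq⟩
    rw [hq, Int.mul_ediv_cancel_left _ hne] at this
    rcases this (by omega) with e | e
    · exact Or.inl (by exact_mod_cast e)
    · exact Or.inr (by exact_mod_cast e)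

omit D in
theorem toC_natCast (k : ℕ) : toC (k : R) = k := map_natCast toC k

set_option maxHeartbeats 800000 in
/-- The order of the group. -/
theorem card_eq : Nat.card G = 5616 ∨ Nat.card G = 7920 := by
  classical
  have hne := D.not_isMulCommutative
  obtain ⟨dWW, dWW', dWW2, dTT, dSS, dFF, dWT, dWS, dWF, dW'T, dW'S, dW'F, dTS, dTF, dSF⟩ := dot_ok
  obtain ⟨oW, oW', oT, oS, oF⟩ := one_ok
  obtain ⟨pW, pW', pT, pS, pF⟩ := pair_ok
  have mW : vW ∈ [vW, vW', vT, vS, vF] := by simp
  have mW' : vW' ∈ [vW, vW', vT, vS, vF] := by simp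
  have mT : vT ∈ [vW, vW', vT, vS, vF] := by simp
  have mS : vS ∈ [vW, vW', vT, vS, vF] := by simp
  have mF : vF ∈ [vW, vW', vT, vS, vF] := by simp
  have iWW : classInner (D.V vW) (D.V vW) = 2 := by rw [D.inner_V mW mW, dWW, map_ofNat]; norm_num
  have iW'W' : classInner (D.V vW') (D.V vW') = 2 := by rw [D.inner_V mW' mW', dWW', map_ofNat]; norm_num
  have iWW' : classInner (D.V vW) (D.V vW') = 1 := by rw [D.inner_V mW mW', dWW2, map_ofNat]; norm_num
  have iTT : classInner (D.V vT) (D.V vT) = 3 := by rw [D.inner_V mT mT, dTT, map_ofNat]; norm_num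
  have iSS : classInner (D.V vS) (D.V vS) = 3 := by rw [D.inner_V mS mS, dSS, map_ofNat]; norm_num
  have iFF : classInner (D.V vF) (D.V vF) = ((4 : ℤ) : ℂ) := by rw [D.inner_V mF mF, dFF, map_ofNat]; norm_num
  have iWT : classInner (D.V vW) (D.V vT) = 0 := by rw [D.inner_V mW mT, dWT, map_zero, zero_div]
  have iWS : classInner (D.V vW) (D.V vS) = 0 := by rw [D.inner_V mW mS, dWS, map_zero, zero_div]
  have iWF : classInner (D.V vW) (D.V vF) = -1 := by rw [D.inner_V mW mF, dWF, map_neg, map_ofNat]; norm_num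
  have iW'T : classInner (D.V vW') (D.V vT) = 0 := by rw [D.inner_V mW' mT, dW'T, map_zero, zero_div]
  have iW'S : classInner (D.V vW') (D.V vS) = 0 := by rw [D.inner_V mW' mS, dW'S, map_zero, zero_div]
  have iW'F : classInner (D.V vW') (D.V vF) = 0 := by rw [D.inner_V mW' mF, dW'F, map_zero, zero_div]
  have iTS : classInner (D.V vT) (D.V vS) = 1 := by rw [D.inner_V mT mS, dTS, map_ofNat]; norm_num
  have iTF : classInner (D.V vT) (D.V vF) = 2 := by rw [D.inner_V mT mF, dTF, map_ofNat]; norm_num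
  have iSF : classInner (D.V vS) (D.V vF) = 2 := by rw [D.inner_V mS mF, dSF, map_ofNat]; norm_num
  have jW : classInner (D.V vW) (fun _ => 1) = 0 := by rw [D.inner_V_one, oW, map_zero, zero_div]
  have jW' : classInner (D.V vW') (fun _ => 1) = 0 := by rw [D.inner_V_one, oW', map_zero, zero_div]
  have jT : classInner (D.V vT) (fun _ => 1) = 0 := by rw [D.inner_V_one, oT, map_zero, zero_div]
  have jS : classInner (D.V vS) (fun _ => 1) = 1 := by rw [D.inner_V_one, oS, map_ofNat]; norm_num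
  have jF : classInner (D.V vF) (fun _ => 1) = 1 := by rw [D.inner_V_one, oF, map_ofNat]; norm_num
  obtain ⟨e, he, heo, he1, rW, rW'⟩ := exists_frame (D.V_genChar mW) (D.V_genChar mW') jW jW' iWW iW'W' iWW'
  obtain ⟨d, hd0, hd⟩ := signed_one_int (he 0)
  have hdall : ∀ k, e k 1 = d := fun k => by
    fin_cases k
    · exact hd
    · show e 1 1 = d
      have h := congrFun rW 1
      rw [D.V_one mW, Pi.sub_apply, hd] at h
      linear_combination h
    · show e 2 1 = d
      have h := congrFun rW' 1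
      rw [D.V_one mW', Pi.sub_apply, hd] at h
      linear_combination h
  have eqv : ∀ {Φ : G → ℂ}, classInner (D.V vW) Φ = 0 → classInner (D.V vW') Φ = 0 →
      ∀ k, classInner (e k) Φ = classInner (e 0) Φ := fun {Φ} h1 h2 k => by
    rw [rW, classInner_sub_left, sub_eq_zero] at h1
    rw [rW', classInner_sub_left, sub_eq_zero] at h2
    fin_cases k
    · rfl
    · exact h1.symm
    · exact h2.symm
  obtain ⟨f, hf, hfo, hf1, hef, hT, hS⟩ := exists_second he heo he1 hd0 hdall (D.V_genChar mT) (D.V_genChar mS)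
    jT jS iTT iSS iTS (D.V_one mT) (eqv iWT iW'T) (eqv iWS iW'S)
  have cls : ∀ {f : G → ℂ}, IrrOrNeg f → IsClassFunction G f := fun {f} hf => by
    rcases hf with h | h
    · exact CharBasics.isClassFunction (isCharacter_of_irr h)
    · intro g k; exact neg_inj.1 (CharBasics.isClassFunction (isCharacter_of_irr h) g k)
  have int4 : ∀ {w : G → ℂ}, IrrOrNeg w → ∃ n : ℤ, classInner w (D.V vF) = n := fun {w} hw => by
    rcases hw with h | h
    · obtain ⟨n, hn⟩ := BrauerInd.genChar_inner_int (D.V_genChar mF) ⟨w, h⟩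
      exact ⟨n, by rw [conj_symm, hn, map_intCast]⟩
    · obtain ⟨n, hn⟩ := BrauerInd.genChar_inner_int (D.V_genChar mF) ⟨-w, h⟩
      refine ⟨-n, ?_⟩
      rw [conj_symm, show classInner (D.V vF) w = -classInner (D.V vF) (-w) by
        rw [classInner_neg_right, neg_neg], hn]
      simp
  have hfe : ∀ k l, classInner (f l) (e k) = 0 := fun k l => (inner_symm (hf l) (he k)).trans (hef k l)
  set one : G → ℂ := fun _ => 1 with hone
  set L : Fin 8 → (G → ℂ) := ![one, e 0, e 1, e 2, f 0, f 1, f 2, f 3] with hL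
  have sgn : ∀ i, IrrOrNeg (L i) := fun i => by
    fin_cases i
    · exact one_signed
    · exact he 0
    · exact he 1
    · exact he 2
    · exact hf 0
    · exact hf 1
    · exact hf 2
    · exact hf 3
  have key : ∀ i j : Fin 8, i < j → classInner (L i) (L j) = 0 := by
    intro i j hij
    fin_cases i <;> fin_cases j
    all_goals first
      | exact absurd hij (by decide)
      | exact (inner_symm one_signed (he _)).trans (he1 _)
      | exact (inner_symm one_signed (hf _)).trans (hf1 _)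
      | exact heo _ _ (by decide)
      | exact hfo _ _ (by decide)
      | exact hef _ _
  have orth : ∀ i j, classInner (L i) (L j) = if i = j then 1 else 0 := by
    intro i j
    rcases lt_trichotomy i j with h | h | h
    · rw [key i j h, if_neg h.ne]
    · rw [h, if_pos rfl, irrOrNeg_inner_self (sgn j)]
    · rw [inner_symm (sgn i) (sgn j), key j i h, if_neg h.ne']
  obtain ⟨b₁, k1⟩ := int4 (he 0); obtain ⟨b₂, k2⟩ := int4 (he 1); obtain ⟨b₃, k3⟩ := int4 (he 2)
  obtain ⟨b₄, k4⟩ := int4 (hf 0); obtain ⟨b₅, k5⟩ := int4 (hf 1)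
  obtain ⟨b₆, k6⟩ := int4 (hf 2); obtain ⟨b₇, k7⟩ := int4 (hf 3)
  have k0 : classInner one (D.V vF) = ((1 : ℤ) : ℂ) := by rw [conj_symm, jF]; simp
  have c12 : b₁ - b₂ = -1 := by
    have h := iWF; rw [rW, classInner_sub_left, k1, k2] at h; exact_mod_cast h
  have c13 : b₁ - b₃ = 0 := by
    have h := iW'F; rw [rW', classInner_sub_left, k1, k3] at h; exact_mod_cast h
  have c45 : 1 + b₄ + b₅ = 2 := by
    have h := iSF
    rw [hS, classInner_add_left, classInner_add_left, k0, k4, k5] at h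
    exact_mod_cast h
  have c467 : b₄ + b₆ + b₇ = 2 := by
    have h := iTF
    rw [hT, classInner_add_left, classInner_add_left, k4, k6, k7] at h
    exact_mod_cast h
  obtain ⟨hle, heq⟩ := pythag L orth (D.V vF) ![1, b₁, b₂, b₃, b₄, b₅, b₆, b₇] (fun i => by
    fin_cases i
    · exact k0
    · exact k1
    · exact k2
    · exact k3
    · exact k4
    · exact k5
    · exact k6
    · exact k7) iFF
  simp [Fin.sum_univ_eight] at hle
  obtain ⟨hb1, hb2, hb3, hb4, hb5, hb67⟩ : b₁ = 0 ∧ b₂ = 1 ∧ b₃ = 0 ∧ b₄ = 1 ∧ b₅ = 0 ∧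
      ((b₆ = 1 ∧ b₇ = 0) ∨ (b₆ = 0 ∧ b₇ = 1)) := by
    have bd : ∀ {c : ℤ}, c * c ≤ 3 → -1 ≤ c ∧ c ≤ 1 := fun {c} h => ⟨by nlinarith, by nlinarith⟩
    have s1 := mul_self_nonneg b₁; have s2 := mul_self_nonneg b₂; have s3 := mul_self_nonneg b₃
    have s4 := mul_self_nonneg b₄; have s5 := mul_self_nonneg b₅; have s6 := mul_self_nonneg b₆
    have s7 := mul_self_nonneg b₇
    obtain ⟨l1, u1⟩ := bd (c := b₁) (by linarith); obtain ⟨l4, u4⟩ := bd (c := b₄) (by linarith)
    obtain ⟨l6, u6⟩ := bd (c := b₆) (by linarith)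
    obtain rfl : b₂ = b₁ + 1 := by linarith
    obtain rfl : b₁ = b₃ := by linarith
    obtain rfl : b₅ = 1 - b₄ := by linarith
    obtain rfl : b₇ = 2 - b₄ - b₆ := by linarith
    interval_cases b₁ <;> interval_cases b₄ <;> interval_cases b₆ <;> first | (norm_num at *; done) | norm_num
  -- choose the labels of the last two
  obtain ⟨j, j', hj, hT', hF', hjF, hj'F, hj0, hj'0, hj1, hj'1⟩ : ∃ j j' : Fin 4, j ≠ j' ∧
      D.V vT = f 0 + f j + f j' ∧ D.V vF = one + e 1 + f 0 + f j ∧ classInner (f j) (D.V vF) = 1 ∧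
      classInner (f j') (D.V vF) = 0 ∧ j ≠ 0 ∧ j' ≠ 0 ∧ j ≠ 1 ∧ j' ≠ 1 := by
    rcases hb67 with ⟨e6, e7⟩ | ⟨e6, e7⟩
    · refine ⟨2, 3, by decide, hT, ?_, by rw [k6, e6]; simp, by rw [k7, e7]; simp, by decide, by decide,
        by decide, by decide⟩
      rw [heq (by simp [Fin.sum_univ_eight, hb1, hb2, hb3, hb4, hb5, e6, e7])]
      simp [hL, Fin.sum_univ_eight, hb1, hb2, hb3, hb4, hb5, e6, e7]
    · refine ⟨3, 2, by decide, by rw [hT]; abel, ?_, by rw [k7, e7]; simp, by rw [k6, e6]; simp, by decide,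
        by decide, by decide, by decide⟩
      rw [heq (by simp [Fin.sum_univ_eight, hb1, hb2, hb3, hb4, hb5, e6, e7])]
      simp [hL, Fin.sum_univ_eight, hb1, hb2, hb3, hb4, hb5, e6, e7]
  -- degrees
  obtain ⟨D₄, hD0, hD⟩ := signed_one_int (hf 0)
  obtain ⟨n5, hn5, g5⟩ := signed_one_int (hf 1)
  obtain ⟨n6, hn6, g6⟩ := signed_one_int (hf j)
  obtain ⟨n7, hn7, g7⟩ := signed_one_int (hf j')
  have dS : n5 = -1 - D₄ := by
    have h := congrFun hS 1
    simp only [D.V_one mS, hone, Pi.add_apply, hD, g5] at h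
    have : ((n5 : ℤ) : ℂ) = ((-1 - D₄ : ℤ) : ℂ) := by push_cast; linear_combination -h
    exact_mod_cast this
  have dF : n6 = -1 - d - D₄ := by
    have h := congrFun hF' 1
    simp only [hone, D.V_one mF, Pi.add_apply, hD, hdall, g6] at h
    have : ((n6 : ℤ) : ℂ) = ((-1 - d - D₄ : ℤ) : ℂ) := by push_cast; linear_combination -h
    exact_mod_cast this
  have dT : n7 = 1 + d := by
    have h := congrFun hT' 1
    simp only [D.V_one mT, Pi.add_apply, hD, g6, g7, dF] at h
    have : ((n7 : ℤ) : ℂ) = ((1 + d : ℤ) : ℂ) := by push_cast at h ⊢; linear_combination -h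
    exact_mod_cast this
  -- values at the involution
  have te : e 1 D.t = -2 := by
    rw [D.value (e 1) (cls (he 1)), k2, hb2, hT, hS, rW']
    simp only [classInner_add_right', classInner_sub_right, hef, he1, heo 1 0 (by decide), heo 1 2 (by decide)]
    push_cast; ring
  have tf : ∀ l, f l D.t = 3 * (if l = 1 then 0 else 1) + 3 * (if l = 0 ∨ l = 1 then 1 else 0) -
      2 * classInner (f l) (D.V vF) := fun l => by
    rw [D.value (f l) (cls (hf l)), hT, hS, rW']
    fin_cases l <;>
      simp [classInner_add_right', classInner_sub_right, irrOrNeg_inner_self (hf _), hfe, hf1, hfo]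
  have t4v : f 0 D.t = 4 := by rw [tf, k4, hb4]; norm_num
  have t5v : f 1 D.t = 3 := by rw [tf, k5, hb5]; norm_num
  have t6v : f j D.t = 1 := by rw [tf, hjF]; simp [hj0, hj1]; norm_num
  have t7v : f j' D.t = 3 := by rw [tf, hj'F]; simp [hj'0, hj'1]
  -- class multiplication
  have rel : ∀ {f : G → ℂ}, IrrOrNeg f → ∀ {n : ℤ}, n ≠ 0 → f 1 = n →
      ∑ g : G, f (g * D.t * g⁻¹ * D.t) = (Nat.card G : ℂ) * (f D.t * f D.t / n) := fun {f} hf {n} hn h1 => by
    have h := signed_relation hf D.t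
    rw [h1] at h
    rw [mul_div, eq_div_iff (Int.cast_ne_zero.2 hn), ← mul_assoc, ← h]
    ring
  have rone : ∑ g : G, one (g * D.t * g⁻¹ * D.t) = (Nat.card G : ℂ) := by
    simp only [hone, Finset.sum_const, Finset.card_univ, ← Nat.card_eq_fintype_card, nsmul_eq_mul, mul_one]
  have E2 := D.sum_pairs hne mT
  rw [hT', pT, map_ofNat] at E2
  simp only [Pi.add_apply, Finset.sum_add_distrib, rel (hf 0) hD0 hD, rel (hf j) hn6 g6, rel (hf j') hn7 g7, t4v, t6v,
    t7v] at E2
  have E3 := D.sum_pairs hne mS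
  rw [hS, pS, map_ofNat] at E3
  simp only [Pi.add_apply, Finset.sum_add_distrib, rone, rel (hf 0) hD0 hD, rel (hf 1) hn5 g5, t4v, t5v] at E3
  have E4 := D.sum_pairs hne mF
  rw [hF', pF, map_ofNat] at E4
  simp only [Pi.add_apply, Finset.sum_add_distrib, rone, rel (he 1) hd0 (hdall 1), rel (hf 0) hD0 hD,
    rel (hf j) hn6 g6, te, t4v, t6v] at E4
  subst dS dF dT
  refine arith Nat.card_pos D.not_dvd_thirty_two hd0 hD0 hn7 hn5 hn6 ?_ ?_ ?_
  · linear_combination E2
  · linear_combination E3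
  · linear_combination E4

end Setup

end CfsgLib.LThree.GLTwo
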