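import Cfsg.Agent.LThree.GLInvol

/-!
# Simplicity from an involution centralised by `GL(2,3)`

* `Setup.isSimple` : without a normal subgroup of index two the group is simple
-/

set_option autoImplicit false
set_option linter.style.haveILetI false

open Cfsg CfsgLib

namespace CfsgLib.LThree.GLTwo

universe u

theorem odd_ok : ∀ x ∈ elems, x ≠ 28 → (∃ k < 9, invol (powc x k) = true) ∨
    ∃ y ∈ elems, ∃ y' ∈ elems, mulc y y' = 28 ∧ ∃ k < 9, invol (powc (mulc (mulc (mulc y x) y') x) k) = true := by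
  decide +kernel

theorem gen_ok : ∀ x ∈ elems, ∃ a ∈ 28 :: elems.filter invol, ∃ b ∈ 28 :: elems.filter invol,
    ∃ c ∈ 28 :: elems.filter invol, mulc (mulc a b) c = x := by
  decide +kernel

namespace Setup

variable {G : Type u} [Group G] [Finite G] (D : Setup G)

omit [Finite G] in
theorem exists_cd {x : ℕ} (hx : x ∈ elems) : ∃ y : D.C, D.cd y = x := by
  obtain ⟨g, hg⟩ := code_surj hx
  exact ⟨D.e.symm g, by rw [cd, D.e.apply_symm_apply, hg]⟩

omit [Finite G] in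
theorem cd_pow (x : D.C) (k : ℕ) : D.cd (x ^ k) = powc (D.cd x) k := by
  rw [cd, map_pow, code_pow]; rfl

include D

/-- A normal subgroup of odd order is trivial. -/
theorem eq_bot_of_odd (hno : ∀ N : Subgroup G, N.Normal → N.index ≠ 2) (N : Subgroup G) [N.Normal]
    (hodd : Odd (Nat.card N)) : N = ⊥ := by
  classical
  haveI := Fintype.ofFinite G
  haveI : Fact (Nat.Prime 2) := ⟨Nat.prime_two⟩
  have hnoinv : ∀ w ∈ N, orderOf w ≠ 2 := fun w hw ho => by
    have := orderOf_dvd_natCard (⟨w, hw⟩ : N)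
    rw [Subgroup.orderOf_mk, ho] at this
    obtain ⟨c, hc⟩ := hodd
    omega
  have hC : ∀ x ∈ N, x ∈ D.C → x = 1 := by
    intro x hxN hxC
    by_contra h1
    have hne : D.cd ⟨x, hxC⟩ ≠ 28 := fun h => h1 (congrArg Subtype.val (D.cd_inj.1 (h.trans D.cd_one.symm)))
    rcases odd_ok _ (code_mem _) hne with ⟨k, -, hk⟩ | ⟨a, ha, b, hb, hab, k, -, hk⟩
    · have hk' : invol (D.cd (⟨x, hxC⟩ ^ k)) = true := by rw [D.cd_pow]; exact hk
      exact hnoinv (x ^ k) (pow_mem hxN k) ((D.invol_cd _).1 hk')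
    · obtain ⟨y, rfl⟩ := D.exists_cd ha
      obtain ⟨y', rfl⟩ := D.exists_cd hb
      have hy : y' = y⁻¹ := by
        rw [← cd_mul, ← D.cd_one, cd_inj] at hab
        exact eq_inv_of_mul_eq_one_right hab
      subst hy
      have hk' : invol (D.cd ((y * ⟨x, hxC⟩ * y⁻¹ * ⟨x, hxC⟩) ^ k)) = true := by
        rw [D.cd_pow, cd_mul, cd_mul, cd_mul]; exact hk
      refine hnoinv (((y * ⟨x, hxC⟩ * y⁻¹ * ⟨x, hxC⟩ : D.C) : G) ^ k) (pow_mem ?_ k) ?_
      · exact mul_mem ((inferInstance : N.Normal).conj_mem x hxN y) hxN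
      · rw [← SubmonoidClass.coe_pow]
        exact (D.invol_cd _).1 hk'
  have hinv : ∀ s : G, orderOf s = 2 → ∀ n ∈ N, s * n * s⁻¹ = n⁻¹ := by
    intro s hs n hn
    obtain ⟨g, rfl⟩ := D.conj_of_invol' hno hs
    set φ := (MulAut.conjNormal (H := N) D.t).toMonoidHom
    have hfpf : MonoidHom.FixedPointFree φ := fun w hw => by
      refine Subtype.ext (hC w w.2 (Subgroup.mem_centralizer_singleton_iff.2 ?_))
      have e : D.t * (w : G) * D.t⁻¹ = w := congrArg Subtype.val hw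
      exact (mul_inv_eq_iff_eq_mul.1 e).symm
    have ht2 : D.t * D.t = 1 := by rw [← pow_two]; exact orderOf_dvd_iff_pow_eq_one.1 D.ht.dvd
    have hinvol : Function.Involutive φ := fun w => Subtype.ext (by
      show D.t * (D.t * (w : G) * D.t⁻¹) * D.t⁻¹ = w
      rw [show D.t * (D.t * (w : G) * D.t⁻¹) * D.t⁻¹ = (D.t * D.t) * w * (D.t * D.t)⁻¹ by group, ht2]
      group)
    have h := congrFun (hfpf.coe_eq_inv_of_involutive hinvol) ⟨g⁻¹ * n * g, by
      simpa using (inferInstance : N.Normal).conj_mem n hn g⁻¹⟩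
    have h' : D.t * (g⁻¹ * n * g) * D.t⁻¹ = (g⁻¹ * n * g)⁻¹ := congrArg Subtype.val h
    calc g * D.t * g⁻¹ * n * (g * D.t * g⁻¹)⁻¹ = g * (D.t * (g⁻¹ * n * g) * D.t⁻¹) * g⁻¹ := by group
      _ = _ := by rw [h']; group
  obtain ⟨-, -, -, -, -, j₀, hj₀, hjq, hji⟩ := sub_ok
  obtain ⟨j, rfl⟩ := D.exists_cd (sub_ok.2.2.2.1 hj₀)
  have hj : orderOf (j : G) = 2 := (D.invol_cd j).1 hji
  have hjt : (j : G) * D.t = D.t * j := Subgroup.mem_centralizer_singleton_iff.1 j.2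
  have hprod : orderOf ((j : G) * D.t) = 2 := by
    refine orderOf_eq_prime ?_ fun h => hjq ?_
    · rw [(show Commute (j : G) D.t from hjt).mul_pow, orderOf_dvd_iff_pow_eq_one.1 hj.dvd,
        orderOf_dvd_iff_pow_eq_one.1 D.ht.dvd, one_mul]
    · have hjt' : (j : G) = D.t := by
        rw [eq_inv_of_mul_eq_one_left h]
        exact inv_eq_of_mul_eq_one_right (by rw [← pow_two]; exact orderOf_dvd_iff_pow_eq_one.1 D.ht.dvd)
      rw [show j = ⟨D.t, D.mem_C⟩ from Subtype.ext hjt', D.cd_t]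
      decide
  refine (Subgroup.eq_bot_iff_forall N).2 fun n hn => ?_
  have h1 := hinv D.t D.ht n hn
  have h2 := hinv j hj n⁻¹ (inv_mem hn)
  have h3 := hinv _ hprod n hn
  rw [show (j : G) * D.t * n * ((j : G) * D.t)⁻¹ = j * (D.t * n * D.t⁻¹) * (j : G)⁻¹ by group, h1, h2, inv_inv] at h3
  have hd2 : orderOf n ∣ 2 := orderOf_dvd_of_pow_eq_one (by rw [pow_two]; nth_rewrite 1 [h3]; exact inv_mul_cancel n)
  rcases (Nat.dvd_prime Nat.prime_two).1 hd2 with e | e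
  · exact orderOf_eq_one_iff.1 e
  · exact absurd e (hnoinv n hn)

/-- Without a normal subgroup of index two the group is simple. -/
theorem isSimple (hno : ∀ N : Subgroup G, N.Normal → N.index ≠ 2) : IsSimpleGroup G := by
  classical
  haveI : Fact (Nat.Prime 2) := ⟨Nat.prime_two⟩
  haveI : Nontrivial G := ⟨⟨D.t, 1, fun h => by have := D.ht; rw [h, orderOf_one] at this; norm_num at this⟩⟩
  refine ⟨fun N hN => ?_⟩
  by_cases hev : 2 ∣ Nat.card N
  swap
  · exact Or.inl (D.eq_bot_of_odd hno N (Nat.odd_iff.2 (by omega)))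
  right
  obtain ⟨⟨w, hwN⟩, hw⟩ := exists_prime_orderOf_dvd_card' (G := N) 2 hev
  rw [Subgroup.orderOf_mk] at hw
  have hall : ∀ s : G, orderOf s = 2 → s ∈ N := by
    intro s hs
    obtain ⟨g, rfl⟩ := D.conj_of_invol' hno hw
    obtain ⟨h, rfl⟩ := D.conj_of_invol' hno hs
    have := hN.conj_mem _ (hN.conj_mem _ hwN g⁻¹) h
    simpa [mul_assoc] using this
  have hCN : D.C ≤ N := by
    intro x hx
    obtain ⟨a, ha, b, hb, c, hc, he⟩ := gen_ok _ (code_mem (D.e ⟨x, hx⟩))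
    have hmem : ∀ r ∈ 28 :: elems.filter invol, ∃ y : D.C, D.cd y = r ∧ (y : G) ∈ N := by
      intro r hr
      rcases List.mem_cons.1 hr with rfl | hr
      · exact ⟨1, D.cd_one, one_mem N⟩
      · obtain ⟨h1, h2⟩ := List.mem_filter.1 hr
        obtain ⟨y, rfl⟩ := D.exists_cd h1
        exact ⟨y, rfl, hall _ ((D.invol_cd y).1 h2)⟩
    obtain ⟨ya, rfl, ma⟩ := hmem a ha
    obtain ⟨yb, rfl, mb⟩ := hmem b hb
    obtain ⟨yc, rfl, mc⟩ := hmem c hc
    rw [← cd_mul, ← cd_mul] at he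
    have e : ya * yb * yc = ⟨x, hx⟩ := D.cd_inj.1 he
    have e' : (ya : G) * yb * yc = x := congrArg Subtype.val e
    exact e' ▸ mul_mem (mul_mem ma mb) mc
  obtain ⟨P, hP⟩ := D.isSylow
  have hPN : (P : Subgroup G) ≤ N := fun x hx => hCN (D.mem_sylSub.1 (hP ▸ hx)).1
  have hsup := Sylow.normalizer_sup_eq_top' P hPN
  rw [eq_top_iff, ← hsup, sup_le_iff]
  refine ⟨fun y hy => hCN ?_, le_rfl⟩
  have hy' : ∀ s ∈ D.S, y * s * y⁻¹ ∈ D.S := fun s hs => by
    rw [← hP] at hs ⊢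
    exact (Subgroup.mem_normalizer_iff.1 hy s).1 hs
  have hy'' : ∀ s ∈ D.S, y⁻¹ * s * y ∈ D.S := fun s hs => by
    rw [← hP] at hs ⊢
    have := (Subgroup.mem_normalizer_iff.1 ((Subgroup.normalizer _).inv_mem hy) s).1 hs
    rwa [inv_inv] at this
  obtain ⟨hc, hcm⟩ := D.mem_sylSub.1 (hy' D.t D.t_mem_S)
  have key : (⟨y * D.t * y⁻¹, hc⟩ : D.C) = ⟨D.t, D.mem_C⟩ := D.cd_inj.1 (by
    rw [D.cd_t]
    refine sylow_centre_ok _ hcm ((D.invol_cd _).2 ?_) fun z hz => ?_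
    · show orderOf (y * D.t * y⁻¹) = 2
      rw [← MulAut.conj_apply, MulEquiv.orderOf_eq]
      exact D.ht
    · obtain ⟨g, rfl⟩ := D.exists_cd (sub_ok.2.2.2.1 hz)
      rw [← cd_mul, ← cd_mul]
      congr 1
      refine Subtype.ext ?_
      show y * D.t * y⁻¹ * (g : G) = (g : G) * (y * D.t * y⁻¹)
      obtain ⟨hs, -⟩ := D.mem_sylSub.1 (hy'' _ (D.mem_sylSub.2 ⟨g.2, hz⟩))
      calc y * D.t * y⁻¹ * (g : G) = y * (D.t * (y⁻¹ * (g : G) * y)) * y⁻¹ := by group
        _ = y * ((y⁻¹ * (g : G) * y) * D.t) * y⁻¹ := by rw [Subgroup.mem_centralizer_singleton_iff.1 hs]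
        _ = _ := by group)
  exact Subgroup.mem_centralizer_singleton_iff.2 (mul_inv_eq_iff_eq_mul.1 (congrArg Subtype.val key))

end Setup

end CfsgLib.LThree.GLTwo
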