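import Mathlib
import Cfsg.Agent.CharBasics.Ortho
import Cfsg.Agent.BrauerInd.Regular

/-!
# Characters of `GL(2,3)` supported on the special classes

Elements are coded by `27 a + 9 b + 3 c + d`. The faithful character of degree two is given by a table over
`ℤ[√-2]`; the other functions needed are polynomials in it and its determinant.
-/

set_option autoImplicit false
set_option linter.style.haveILetI false
set_option linter.constructorNameAsVariable false
set_option maxRecDepth 10000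

open Cfsg CfsgLib

namespace CfsgLib.LThree.GLTwo

abbrev M := Matrix.GeneralLinearGroup (Fin 2) (ZMod 3)
abbrev R := Zsqrtd (-2)

/-- Code of a pair of residues. -/
def enc (a b c d : ℕ) : ℕ := 27 * a + 9 * b + 3 * c + d

/-- Multiplication of codes. -/
def mulc (x y : ℕ) : ℕ :=
  enc ((x / 27 * (y / 27) + x / 9 % 3 * (y / 3 % 3)) % 3) ((x / 27 * (y / 9 % 3) + x / 9 % 3 * (y % 3)) % 3)
    ((x / 3 % 3 * (y / 27) + x % 3 * (y / 3 % 3)) % 3) ((x / 3 % 3 * (y / 9 % 3) + x % 3 * (y % 3)) % 3)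

/-- Powers of codes. -/
def powc (x : ℕ) : ℕ → ℕ
  | 0 => 28
  | k + 1 => mulc (powc x k) x

/-- The codes of invertible matrices. -/
def elems : List ℕ := (List.range 81).filter fun x => (x / 27 * (x % 3) + 2 * (x / 9 % 3 * (x / 3 % 3))) % 3 != 0

/-- Rows of a representation of degree two. -/
def tab : List (List ℤ) :=
  [[],
  [],
  [],
  [],
  [],
  [],
  [],
  [],
  [],
  [],
  [],
  [],
  [-1,0,-1,-1,0,0,1,0],
  [0,0,1,0,1,0,0,1],
  [1,0,0,1,-1,0,-1,-1],
  [-1,-1,0,-1,2,0,1,1],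
  [2,0,1,1,-1,1,-1,0],
  [-1,1,-1,0,-1,-1,0,-1],
  [],
  [],
  [],
  [1,1,0,1,-2,0,-1,-1],
  [1,-1,1,0,1,1,0,1],
  [-2,0,-1,-1,1,-1,1,0],
  [1,0,1,1,0,0,-1,0],
  [-1,0,0,-1,1,0,1,1],
  [0,0,-1,0,-1,0,0,-1],
  [],
  [1,0,0,0,0,0,1,0],
  [1,1,-1,1,-2,0,-1,-1],
  [],
  [0,0,1,0,-1,0,-1,0],
  [-2,0,-1,-1,1,-1,2,0],
  [],
  [-1,0,-1,0,1,0,0,0],
  [1,-1,2,0,1,1,-1,1],
  [],
  [-1,-1,1,-1,1,0,0,1],
  [0,-1,1,-1,1,1,0,1],
  [1,1,0,1,-1,0,-1,0],
  [],
  [1,0,0,1,0,1,-1,0],
  [0,1,-1,0,-1,-1,1,-1],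
  [-1,0,-1,0,0,-1,1,-1],
  [],
  [],
  [0,1,-1,1,-1,0,-1,-1],
  [-1,0,0,0,1,-1,1,0],
  [-1,0,-1,-1,1,-1,2,0],
  [1,-1,1,0,0,1,-1,0],
  [],
  [0,1,-1,0,-1,0,0,0],
  [],
  [1,-1,2,0,0,1,-1,1],
  [],
  [-1,-1,1,-1,2,0,1,1],
  [-1,0,0,0,0,0,-1,0],
  [],
  [-1,1,-2,0,-1,-1,1,-1],
  [1,0,1,0,-1,0,0,0],
  [],
  [2,0,1,1,-1,1,-2,0],
  [0,0,-1,0,1,0,1,0],
  [],
  [1,0,0,0,-1,1,-1,0],
  [0,-1,1,-1,1,0,1,1],
  [0,-1,1,0,1,0,0,0],
  [-1,1,-2,0,0,-1,1,-1],
  [],
  [1,0,1,1,-1,1,-2,0],
  [],
  [-1,1,-1,0,0,-1,1,0],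
  [],
  [0,1,-1,1,-1,-1,0,-1],
  [1,1,-1,1,-1,0,0,-1],
  [0,-1,1,0,1,1,-1,1],
  [],
  [1,0,1,0,0,1,-1,1],
  [-1,-1,0,-1,1,0,1,0],
  [-1,0,0,-1,0,-1,1,0],
  []]

/-- An entry of the representation. -/
def ent (x i : ℕ) : R := ⟨(tab.getD x []).getD (2 * i) 0, (tab.getD x []).getD (2 * i + 1) 0⟩

/-- The trace. -/
def psi (x : ℕ) : R := ent x 0 + ent x 3
/-- The determinant. -/
def eps (x : ℕ) : R := ent x 0 * ent x 3 - ent x 1 * ent x 2
def rho (x : ℕ) : R := psi x * psi x - eps x
def sig (x : ℕ) : R := rho x * rho x - 1 - rho x - rho x * eps x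
/-- The five functions vanishing outside the special classes. -/
def vW (x : ℕ) : R := sig x - psi x
def vW' (x : ℕ) : R := sig x - psi x * eps x
def vT (x : ℕ) : R := psi x * psi x - psi x * sig x
def vS (x : ℕ) : R := psi x * psi x * eps x - psi x * sig x
def vF (x : ℕ) : R := 1 + eps x + psi x - psi x * sig x

/-- Special elements. -/
def special (x : ℕ) : Bool := (List.range 8).any fun k => powc x k == 56
/-- Involutions. -/
def invol (x : ℕ) : Bool := mulc x x == 28 && x != 28

/-- Forty-eight times the inner product. -/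
def dot (f g : ℕ → R) : R := (elems.map fun x => f x * star (g x)).sum
/-- The sum over pairs of involutions of the value at the product. -/
def pairSum (f : ℕ → R) : R :=
  (elems.map fun a => (elems.map fun b => if invol a && invol b then f (mulc a b) else 0).sum).sum

theorem hom_ok : ∀ x ∈ elems, ∀ y ∈ elems,
    ent (mulc x y) 0 = ent x 0 * ent y 0 + ent x 1 * ent y 2 ∧
    ent (mulc x y) 1 = ent x 0 * ent y 1 + ent x 1 * ent y 3 ∧
    ent (mulc x y) 2 = ent x 2 * ent y 0 + ent x 3 * ent y 2 ∧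
    ent (mulc x y) 3 = ent x 2 * ent y 1 + ent x 3 * ent y 3 := by decide +kernel

theorem supp_ok : ∀ x ∈ elems, special x = false →
    vW x = 0 ∧ vW' x = 0 ∧ vT x = 0 ∧ vS x = 0 ∧ vF x = 0 := by decide +kernel

theorem dot_ok : dot vW vW = 96 ∧ dot vW' vW' = 96 ∧ dot vW vW' = 48 ∧ dot vT vT = 144 ∧ dot vS vS = 144 ∧
    dot vF vF = 192 ∧ dot vW vT = 0 ∧ dot vW vS = 0 ∧ dot vW vF = -48 ∧ dot vW' vT = 0 ∧ dot vW' vS = 0 ∧
    dot vW' vF = 0 ∧ dot vT vS = 48 ∧ dot vT vF = 96 ∧ dot vS vF = 96 := by decide +kernel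

theorem one_ok : dot vW (fun _ => 1) = 0 ∧ dot vW' (fun _ => 1) = 0 ∧ dot vT (fun _ => 1) = 0 ∧
    dot vS (fun _ => 1) = 48 ∧ dot vF (fun _ => 1) = 48 := by decide +kernel

theorem central_ok : ∀ x ∈ elems, 3 * (vT x + vS x) - 2 * (vF x - vW' x) = if x = 56 then 48 else 0 := by
  decide +kernel

theorem pair_ok : pairSum vW = 0 ∧ pairSum vW' = 0 ∧ pairSum vT = 192 ∧ pairSum vS = 192 ∧ pairSum vF = 288 := by
  decide +kernel

/-- A Sylow 2-subgroup. -/
def sylList : List ℕ := [13, 15, 21, 26, 28, 32, 38, 41, 51, 53, 56, 61, 66, 67, 73, 79]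

theorem sylow_centre_ok : ∀ x ∈ sylList, invol x = true → (∀ y ∈ sylList, mulc x y = mulc y x) → x = 56 := by
  decide +kernel

theorem centre_ok : ∀ x ∈ elems, invol x = true → (∀ y ∈ elems, mulc x y = mulc y x) → x = 56 := by decide +kernel

/-- A quaternion subgroup of it. -/
def quatList : List ℕ := [15, 21, 28, 41, 53, 56, 67, 79]

theorem sub_ok : (∀ x ∈ sylList, ∀ y ∈ sylList, mulc x y ∈ sylList) ∧ (∀ x ∈ quatList, ∀ y ∈ quatList, mulc x y ∈ quatList) ∧
    (∀ x ∈ quatList, x ∈ sylList) ∧ sylList ⊆ elems ∧ (∀ x ∈ quatList, invol x = true → x = 56) ∧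
    (∃ x ∈ sylList, x ∉ quatList ∧ invol x = true) := by decide +kernel

/-! ## Transfer to the matrices -/

/-- The code of a matrix. -/
def code (g : M) : ℕ :=
  enc ((g : Matrix (Fin 2) (Fin 2) (ZMod 3)) 0 0).val ((g : Matrix (Fin 2) (Fin 2) (ZMod 3)) 0 1).val
    ((g : Matrix (Fin 2) (Fin 2) (ZMod 3)) 1 0).val ((g : Matrix (Fin 2) (Fin 2) (ZMod 3)) 1 1).val

theorem code_mul_aux : ∀ a b c d a' b' c' d' : ZMod 3,
    enc (a * a' + b * c').val (a * b' + b * d').val (c * a' + d * c').val (c * b' + d * d').val =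
      mulc (enc a.val b.val c.val d.val) (enc a'.val b'.val c'.val d'.val) := by decide +kernel

theorem code_mem_aux : ∀ a b c d : ZMod 3, a * d - b * c ≠ 0 → enc a.val b.val c.val d.val ∈ elems := by
  decide +kernel

theorem code_inj_aux : ∀ a b c d a' b' c' d' : ZMod 3,
    enc a.val b.val c.val d.val = enc a'.val b'.val c'.val d'.val → a = a' ∧ b = b' ∧ c = c' ∧ d = d' := by
  decide +kernel

theorem code_mul (g h : M) : code (g * h) = mulc (code g) (code h) := by
  simp only [code, Units.val_mul, Matrix.mul_apply, Fin.sum_univ_two]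
  exact code_mul_aux _ _ _ _ _ _ _ _

theorem code_mem (g : M) : code g ∈ elems := by
  refine code_mem_aux _ _ _ _ ?_
  have := (Matrix.GeneralLinearGroup.det g).ne_zero
  simpa [Matrix.det_fin_two] using this

theorem code_injective : Function.Injective code := fun g h e => by
  obtain ⟨e1, e2, e3, e4⟩ := code_inj_aux _ _ _ _ _ _ _ _ e
  refine Units.ext (Matrix.ext fun i j => ?_)
  fin_cases i <;> fin_cases j <;> assumption

theorem card_M : Nat.card M = 48 := by
  rw [Matrix.card_GL_field, Fin.prod_univ_two, ZMod.card]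
  rfl

theorem code_surj {x : ℕ} (hx : x ∈ elems) : ∃ g, code g = x := by
  classical
  have h : Finset.univ.image code = elems.toFinset := by
    refine Finset.eq_of_subset_of_card_le (fun y hy => ?_) ?_
    · obtain ⟨g, -, rfl⟩ := Finset.mem_image.1 hy
      exact List.mem_toFinset.2 (code_mem g)
    · rw [Finset.card_image_of_injective _ code_injective, Finset.card_univ, ← Nat.card_eq_fintype_card, card_M]
      decide +kernel
  obtain ⟨g, -, hg⟩ := Finset.mem_image.1 (h ▸ List.mem_toFinset.2 hx : x ∈ Finset.univ.image code)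
  exact ⟨g, hg⟩

theorem code_one : code 1 = 28 := by decide +kernel

theorem code_pow (g : M) : ∀ k : ℕ, code (g ^ k) = powc (code g) k
  | 0 => by rw [pow_zero]; exact code_one
  | k + 1 => by rw [pow_succ, code_mul, code_pow g k]; rfl

theorem invol_iff (g : M) : invol (code g) = true ↔ orderOf g = 2 := by
  have h2 : mulc (code g) (code g) = 28 ↔ g * g = 1 := by rw [← code_mul, ← code_one, code_injective.eq_iff]
  have h1 : code g ≠ 28 ↔ g ≠ 1 := by rw [← code_one, Ne, code_injective.eq_iff]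
  simp only [invol, Bool.and_eq_true, beq_iff_eq, bne_iff_ne]
  rw [h2, h1]
  constructor
  · rintro ⟨a, b⟩
    exact orderOf_eq_prime (by rw [pow_two]; exact a) b
  · intro h
    refine ⟨by rw [← pow_two]; exact orderOf_dvd_iff_pow_eq_one.1 h.dvd, fun e => ?_⟩
    rw [e, orderOf_one] at h
    norm_num at h

theorem sum_code {A : Type*} [AddCommMonoid A] [Fintype M] (f : ℕ → A) :
    ∑ g : M, f (code g) = (elems.map f).sum := by
  classical
  rw [← List.sum_toFinset f (show elems.Nodup by decide +kernel)]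
  refine Finset.sum_bij (fun g _ => code g) (fun g _ => List.mem_toFinset.2 (code_mem g))
    (fun a _ b _ h => code_injective h) (fun x hx => ?_) (fun g _ => rfl)
  obtain ⟨g, hg⟩ := code_surj (List.mem_toFinset.1 hx)
  exact ⟨g, Finset.mem_univ _, hg⟩

/-- A square root of `-2`. -/
noncomputable def root : {r : ℂ // r * r = ((-2 : ℤ) : ℂ)} :=
  ⟨(Real.sqrt 2 : ℂ) * Complex.I, by
    have h : ((Real.sqrt 2 : ℝ) : ℂ) * (Real.sqrt 2 : ℝ) = 2 := by
      rw [← Complex.ofReal_mul, Real.mul_self_sqrt (by norm_num)]; norm_num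
    push_cast
    linear_combination Complex.I * Complex.I * h + 2 * Complex.I_mul_I⟩

/-- The embedding of the coefficient ring. -/
noncomputable def toC : R →+* ℂ := Zsqrtd.lift root

theorem toC_star (a : R) : toC (star a) = (starRingEnd ℂ) (toC a) := by
  simp [toC, Zsqrtd.lift, root]

/-- A representation by matrices over the ring gives a character. -/
theorem isCharacter_trace {H : Type} [Group H] {n : ℕ} (F : H →* Matrix (Fin n) (Fin n) R) :
    IsCharacter H (fun g => toC ((F g).trace)) := by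
  refine ⟨n, MonoidHom.comp (Matrix.toLinAlgEquiv' (R := ℂ) (n := Fin n)).toMonoidHom
    ((toC.mapMatrix.toMonoidHom).comp F), funext fun g => ?_⟩
  rw [Representation.character]
  show LinearMap.trace ℂ (Fin n → ℂ) (Matrix.toLin' ((F g).map toC)) = _
  rw [Matrix.trace_toLin'_eq]
  simp [Matrix.trace, map_sum]

/-- The representation of degree two. -/
def psiHom : M →* Matrix (Fin 2) (Fin 2) R where
  toFun g := !![ent (code g) 0, ent (code g) 1; ent (code g) 2, ent (code g) 3]
  map_one' := by rw [code_one]; decide +kernel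
  map_mul' g h := by
    obtain ⟨h0, h1, h2, h3⟩ := hom_ok _ (code_mem g) _ (code_mem h)
    rw [code_mul, h0, h1, h2, h3, Matrix.mul_fin_two]

/-- The linear representation. -/
def epsHom : M →* Matrix (Fin 1) (Fin 1) R :=
  (Matrix.scalar (Fin 1)).toMonoidHom.comp (Matrix.detMonoidHom.comp psiHom)

open BrauerInd in
/-- The functions of interest are generalized characters. -/
theorem virt_mem : ∀ f ∈ [vW, vW', vT, vS, vF], (fun g : M => toC (f (code g))) ∈ genChar M := by
  have hp : (fun g : M => toC (psi (code g))) ∈ genChar M := by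
    refine mem_genChar.2 ⟨_, 0, isCharacter_trace psiHom, CharBasics.isCharacter_zero, ?_⟩
    funext g
    simp [psiHom, psi, Matrix.trace_fin_two]
  have he : (fun g : M => toC (eps (code g))) ∈ genChar M := by
    refine mem_genChar.2 ⟨_, 0, isCharacter_trace epsHom, CharBasics.isCharacter_zero, ?_⟩
    funext g
    simp [epsHom, psiHom, eps, Matrix.det_fin_two, Matrix.trace]
  have h1 : (fun _ : M => (1 : ℂ)) ∈ genChar M :=
    mem_genChar.2 ⟨_, 0, CharBasics.isCharacter_of_irr CharBasics.isIrrCharacter_one, CharBasics.isCharacter_zero,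
      by simp⟩
  have hr : (fun g : M => toC (rho (code g))) ∈ genChar M := by
    have := sub_mem (genChar_mul hp hp) he
    convert this using 2 with g
    simp [rho]
  have hs : (fun g : M => toC (sig (code g))) ∈ genChar M := by
    have := sub_mem (sub_mem (sub_mem (genChar_mul hr hr) h1) hr) (genChar_mul hr he)
    convert this using 2 with g
    simp [sig]
  intro f hf
  simp only [List.mem_cons, List.not_mem_nil, or_false] at hf
  rcases hf with rfl | rfl | rfl | rfl | rfl
  · convert sub_mem hs hp using 2 with g; simp [vW]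
  · convert sub_mem hs (genChar_mul hp he) using 2 with g; simp [vW']
  · convert sub_mem (genChar_mul hp hp) (genChar_mul hp hs) using 2 with g; simp [vT]
  · convert sub_mem (genChar_mul (genChar_mul hp hp) he) (genChar_mul hp hs) using 2 with g; simp [vS]
  · convert sub_mem (add_mem (add_mem h1 he) hp) (genChar_mul hp hs) using 2 with g; simp [vF]

end CfsgLib.LThree.GLTwo
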