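import Cfsg.Agent.LThree.Local

/-!
# A subgroup of index 13 in a simple group of order 5616

The normaliser of an intersection of order 9 of two Sylow 3-subgroups, or a centraliser, has index 13.
-/

set_option autoImplicit false
set_option linter.style.haveILetI false

open Cfsg CfsgLib CfsgLib.SmallOrd
open scoped Pointwise

namespace CfsgLib.LThree

universe u

section Coercions

variable {p : ℕ} [Fact p.Prime] {H : Type u} [Group H] [Finite H]

theorem card_eq_index (P : Sylow p H) :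
    Nat.card (Sylow p H) = (Subgroup.normalizer ((P : Subgroup H) : Set H)).index :=
  P.card_eq_index_normalizer

theorem inf_normalizer {A : Subgroup H} (hA : IsPGroup p A) (P : Sylow p H) :
    A ⊓ Subgroup.normalizer ((P : Subgroup H) : Set H) = A ⊓ (P : Subgroup H) :=
  hA.inf_normalizer_sylow P

end Coercions

section General

variable {H : Type u} [Group H] [Finite H] [Fact (Nat.Prime 3)]

theorem stab_eq (P Q : Sylow 3 H) :
    Nat.card ↥(MulAction.stabilizer ↥(P : Subgroup H) Q) = Nat.card ↥((P : Subgroup H) ⊓ (Q : Subgroup H)) := by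
  have h : (P : Subgroup H) ⊓ Subgroup.normalizer ((Q : Subgroup H) : Set H) = (P : Subgroup H) ⊓ Q :=
    inf_normalizer P.isPGroup' Q
  refine Nat.card_congr ⟨fun x => ⟨(x.1 : H), ?_⟩, fun x => ⟨⟨x.1, x.2.1⟩, ?_⟩, fun _ => rfl, fun _ => rfl⟩
  · exact h.le ⟨x.1.2, Sylow.smul_eq_iff_mem_normalizer.1 x.2⟩
  · rw [MulAction.mem_stabilizer_iff]
    exact Sylow.smul_eq_iff_mem_normalizer.2 (h.ge x.2).2

theorem orbit_mul (P Q : Sylow 3 H) :
    Nat.card ↥(MulAction.orbit ↥(P : Subgroup H) Q) * Nat.card ↥((P : Subgroup H) ⊓ (Q : Subgroup H)) =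
      Nat.card (P : Subgroup H) := by
  classical
  haveI := Fintype.ofFinite ↥(P : Subgroup H)
  haveI := Fintype.ofFinite ↥(MulAction.orbit ↥(P : Subgroup H) Q)
  rw [← stab_eq, Nat.card_eq_fintype_card, Nat.card_eq_fintype_card, Nat.card_eq_fintype_card]
  exact MulAction.card_orbit_mul_card_stabilizer_eq_card_group _ _

theorem inter_cases (P Q : Sylow 3 H) (hP : Nat.card (P : Subgroup H) = 27) (hne : Q ≠ P) :
    Nat.card ↥((P : Subgroup H) ⊓ (Q : Subgroup H)) ∣ 9 := by
  have hd : Nat.card ↥((P : Subgroup H) ⊓ (Q : Subgroup H)) ∣ 3 ^ 3 :=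
    (Subgroup.card_dvd_of_le inf_le_left).trans (dvd_of_eq hP)
  obtain ⟨i, hi, he⟩ := (Nat.dvd_prime_pow (Fact.out : Nat.Prime 3)).1 hd
  interval_cases i <;> rw [he] <;> norm_num
  exfalso
  refine hne (Sylow.ext ?_)
  have h1 : (P : Subgroup H) ⊓ Q = P := Subgroup.eq_of_le_of_card_ge inf_le_left (by rw [he, hP]; norm_num)
  have h2 : (P : Subgroup H) ≤ Q := inf_eq_left.1 h1
  exact (P.is_maximal' Q.isPGroup' h2)

/-- Two Sylow 3-subgroups meet in a subgroup of order 9 unless their number is 1 modulo 9. -/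
theorem exists_nine (P : Sylow 3 H) (hP : Nat.card (P : Subgroup H) = 27)
    (h : Nat.card (Sylow 3 H) % 9 ≠ 1) :
    ∃ Q : Sylow 3 H, Q ≠ P ∧ Nat.card ↥((P : Subgroup H) ⊓ (Q : Subgroup H)) = 9 := by
  classical
  by_contra hno
  push Not at hno
  apply h
  haveI := Fintype.ofFinite (Sylow 3 H)
  haveI := Fintype.ofFinite (MulAction.orbitRel.Quotient ↥(P : Subgroup H) (Sylow 3 H))
  rw [Nat.card_congr (MulAction.selfEquivSigmaOrbits ↥(P : Subgroup H) (Sylow 3 H)), Nat.card_sigma, Finset.sum_nat_mod]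
  set ω₀ : MulAction.orbitRel.Quotient ↥(P : Subgroup H) (Sylow 3 H) := Quotient.mk'' P
  have hout : ∀ ω, Nat.card ↥(MulAction.orbit ↥(P : Subgroup H) (Quotient.out ω)) % 9 = if ω = ω₀ then 1 else 0 := by
    intro ω
    have hm := orbit_mul P (Quotient.out ω)
    rw [hP] at hm
    by_cases hω : Quotient.out ω = P
    · rw [if_pos (by rw [← Quotient.out_eq' ω, hω])]
      rw [hω, inf_idem, hP] at hm
      rw [hω, show Nat.card ↥(MulAction.orbit ↥(P : Subgroup H) P) = 1 by omega]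
    · rw [if_neg (fun e => hω (by
        have hmem : Quotient.out ω ∈ MulAction.orbit ↥(P : Subgroup H) P :=
          MulAction.orbitRel_apply.1 (Quotient.exact' (by rw [Quotient.out_eq']; exact e))
        obtain ⟨x, hx⟩ := hmem
        rw [← hx]
        exact Sylow.smul_eq_iff_mem_normalizer.2 (Subgroup.le_normalizer x.2)))]
      have h9 := inter_cases P _ hP hω
      obtain ⟨i, hi, he⟩ := (Nat.dvd_prime_pow (Fact.out : Nat.Prime 3)).1 (h9.trans (dvd_of_eq (by norm_num : 9 = 3 ^ 2)))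
      have hne := hno _ hω
      interval_cases i <;> rw [he] at hm hne <;> omega
  rw [Finset.sum_congr rfl fun ω _ => hout ω, Finset.sum_ite_eq' Finset.univ ω₀ fun _ => 1]
  simp

theorem index_three_normal (P Q : Sylow 3 H) (hP : Nat.card (P : Subgroup H) = 27)
    (hD : Nat.card ↥((P : Subgroup H) ⊓ (Q : Subgroup H)) = 9) {x : H} (hx : x ∈ (P : Subgroup H)) {d : H}
    (hd : d ∈ (P : Subgroup H) ⊓ (Q : Subgroup H)) : x * d * x⁻¹ ∈ (P : Subgroup H) ⊓ (Q : Subgroup H) := by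
  set D := ((P : Subgroup H) ⊓ (Q : Subgroup H)).subgroupOf (P : Subgroup H)
  haveI : D.Normal := by
    refine Subgroup.normal_of_index_eq_minFac_card ?_
    have h := Subgroup.card_mul_index D
    rw [Nat.card_congr (Subgroup.subgroupOfEquivOfLe inf_le_left).toEquiv, hD, hP] at h
    rw [hP]
    norm_num
    omega
  exact (‹D.Normal›.conj_mem ⟨d, hd.1⟩ hd ⟨x, hx⟩)

end General

variable {G : Type u} [Group G] [Finite G] [IsSimpleGroup G]

theorem le_432 (hG : Nat.card G = 5616) {M : Subgroup G} (hM : M ≠ ⊤) : 13 ≤ M.index := by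
  by_contra hlt
  have h := (two_mul_card_dvd_factorial (not_comm (by rw [hG]; norm_num)) M hM).trans
    (Nat.factorial_dvd_factorial (show M.index ≤ 12 by omega))
  rw [hG] at h
  norm_num [Nat.factorial] at h

theorem sylow27 (hG : Nat.card G = 5616) [Fact (Nat.Prime 3)] (P : Sylow 3 G) :
    Nat.card (P : Subgroup G) = 27 := by
  rw [sylow_card (k := 3) (m := 208) (by rw [hG]; norm_num) (by norm_num) P]
  norm_num

/-- An element of order 13 normalising a small set of elements centralises it. -/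
theorem not_fix_small (hG : Nat.card G = 5616) {u s : G} (hu : orderOf u = 13) (T : Subgroup G)
    (hT : Nat.card T < 13) (hs : s ∈ T) (hs3 : 1 < orderOf s) (hinv : ∀ t ∈ T, u * t * u⁻¹ ∈ T) : False := by
  have hcomm : u * s * u⁻¹ = s := by
    by_contra hne
    have hmem : ∀ i : ℕ, u ^ i * s * (u ^ i)⁻¹ ∈ T := fun i => by
      induction i with
      | zero => simpa using hs
      | succ i ih =>
        have := hinv _ ih
        rwa [show u * (u ^ i * s * (u ^ i)⁻¹) * u⁻¹ = u ^ (i + 1) * s * (u ^ (i + 1))⁻¹ by rw [pow_succ']; group] at this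
    have hinj : Function.Injective fun i : Fin 13 => (⟨_, hmem i⟩ : T) := by
      intro i j hij
      have e : u ^ (i : ℕ) * s * (u ^ (i : ℕ))⁻¹ = u ^ (j : ℕ) * s * (u ^ (j : ℕ))⁻¹ := congrArg Subtype.val hij
      have h : Commute (u ^ ((i : ℤ) - (j : ℤ))) s := by
        have e' : (u ^ (j : ℕ))⁻¹ * u ^ (i : ℕ) * s = s * ((u ^ (j : ℕ))⁻¹ * u ^ (i : ℕ)) := by
          calc (u ^ (j : ℕ))⁻¹ * u ^ (i : ℕ) * s =
              (u ^ (j : ℕ))⁻¹ * (u ^ (i : ℕ) * s * (u ^ (i : ℕ))⁻¹) * u ^ (i : ℕ) := by group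
            _ = _ := by rw [e]; group
        show u ^ ((i : ℤ) - (j : ℤ)) * s = s * u ^ ((i : ℤ) - (j : ℤ))
        rw [show u ^ ((i : ℤ) - (j : ℤ)) = (u ^ (j : ℕ))⁻¹ * u ^ (i : ℕ) by
          rw [← zpow_natCast, ← zpow_natCast, ← zpow_neg, ← zpow_add, neg_add_eq_sub]]
        exact e'
      by_contra hne'
      apply hne
      have hu1 : u ∈ Subgroup.zpowers (u ^ ((i : ℤ) - (j : ℤ))) := by
        have hle : Subgroup.zpowers (u ^ ((i : ℤ) - (j : ℤ))) ≤ Subgroup.zpowers u :=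
          Subgroup.zpowers_le.2 (Subgroup.zpow_mem _ (Subgroup.mem_zpowers u) _)
        have hd : Nat.card (Subgroup.zpowers (u ^ ((i : ℤ) - (j : ℤ)))) ∣ 13 := by
          have := Subgroup.card_dvd_of_le hle
          rw [Nat.card_zpowers, Nat.card_zpowers, hu] at this
          rwa [Nat.card_zpowers]
        rcases (Nat.dvd_prime (by norm_num)).1 hd with hc | hc
        · exfalso
          rw [Nat.card_zpowers, orderOf_eq_one_iff] at hc
          have h13 := orderOf_dvd_iff_zpow_eq_one.2 hc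
          rw [hu] at h13
          refine hne' (Fin.ext ?_)
          have := i.2; have := j.2
          omega
        · rw [Subgroup.eq_of_le_of_card_ge hle (by rw [hc, Nat.card_zpowers, hu])]
          exact Subgroup.mem_zpowers u
      obtain ⟨k, hk⟩ := Subgroup.mem_zpowers_iff.1 hu1
      have := h.zpow_left k
      rw [hk] at this
      rw [this.eq, mul_inv_cancel_right]
    have := Nat.card_le_card_of_injective _ hinj
    rw [Nat.card_fin] at this
    omega
  have hmem : s ∈ Subgroup.zpowers u := by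
    rw [← cent_thirteen hG hu, Subgroup.mem_centralizer_singleton_iff]
    exact (mul_inv_eq_iff_eq_mul.1 hcomm).symm
  have hd := orderOf_dvd_of_mem_zpowers hmem
  rw [hu] at hd
  rcases (Nat.dvd_prime (by norm_num)).1 hd with e | e
  · omega
  · have := orderOf_dvd_natCard (⟨s, hs⟩ : T)
    rw [Subgroup.orderOf_mk, e] at this
    have := Nat.le_of_dvd Nat.card_pos this
    omega

/-- In a subgroup containing `P` and not of index 13, all intersections with `P` agree. -/
theorem inter_eq (hG : Nat.card G = 5616) [Fact (Nat.Prime 3)] (P Q Q' : Sylow 3 G) {M : Subgroup G} (hM : M ≠ ⊤)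
    (h13 : M.index ≠ 13) (hPM : (P : Subgroup G) ≤ M) (hQM : (Q : Subgroup G) ≤ M) (hQ'M : (Q' : Subgroup G) ≤ M)
    (hQ : Q ≠ P) (hQ' : Q' ≠ P) : (P : Subgroup G) ⊓ Q = (P : Subgroup G) ⊓ Q' := by
  classical
  have hP := sylow27 hG P
  have hidx := le_432 hG hM
  have hmul := Subgroup.card_mul_index M
  rw [hG] at hmul
  obtain ⟨k, hk⟩ : 27 ∣ Nat.card M := hP ▸ Subgroup.card_dvd_of_le hPM
  have hPc : Nat.card ((P.subtype hPM : Sylow 3 M) : Subgroup M) = 27 := by
    show Nat.card ((P : Subgroup G).subgroupOf M) = 27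
    rw [Nat.card_congr (Subgroup.subgroupOfEquivOfLe hPM).toEquiv, hP]
  have hn2 := card_eq_index (P.subtype hPM : Sylow 3 M)
  have hnk : Nat.card (Sylow 3 M) ∣ k := by
    have h1 := Subgroup.card_mul_index (Subgroup.normalizer (((P.subtype hPM : Sylow 3 M) : Subgroup M) : Set M))
    rw [show (Subgroup.normalizer (((P.subtype hPM : Sylow 3 M) : Subgroup M) : Set M)).index = Nat.card (Sylow 3 M)
      from hn2.symm, hk] at h1
    obtain ⟨j, hj⟩ : 27 ∣ Nat.card (Subgroup.normalizer (((P.subtype hPM : Sylow 3 M) : Subgroup M) : Set M)) :=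
      hPc ▸ Subgroup.card_dvd_of_le Subgroup.le_normalizer
    rw [hj, mul_assoc] at h1
    exact ⟨j, by rw [mul_comm]; exact (Nat.eq_of_mul_eq_mul_left (by norm_num) h1).symm⟩
  have hn1 : Nat.card (Sylow 3 M) ≠ 1 := by
    intro h
    haveI : Subsingleton (Sylow 3 M) := (Nat.card_eq_one_iff_unique.1 h).1
    refine hQ (Sylow.ext ?_)
    have e := congrArg (fun S : Sylow 3 M => ((S : Subgroup M).map M.subtype))
      (Subsingleton.elim (Q.subtype hQM) (P.subtype hPM))
    simpa [Subgroup.map_subgroupOf_eq_of_le hQM, Subgroup.map_subgroupOf_eq_of_le hPM] using e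
  have hmod := card_sylow_modEq_one 3 M
  rw [Nat.ModEq, Nat.one_mod] at hmod
  have hk208 : k * M.index = 208 := by rw [hk, mul_assoc] at hmul; omega
  have hk16 : k < 16 := by
    by_contra hlt
    rcases Nat.lt_or_ge 16 k with h | h
    · nlinarith
    · rw [show k = 16 by omega] at hk208; omega
  have hn : Nat.card (Sylow 3 M) = 4 ∨ (Nat.card (Sylow 3 M) = 13 ∧ k = 13) := by
    have hk0 : 0 < k := by
      rcases Nat.eq_zero_or_pos k with e | e
      · rw [e] at hk208; omega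
      · exact e
    have hle := Nat.le_of_dvd hk0 hnk
    have hd : k ∣ 208 := ⟨_, hk208.symm⟩
    interval_cases k <;> norm_num at hd <;> interval_cases h : Nat.card (Sylow 3 M) <;> omega
  rcases hn with hn | ⟨hn, hk13⟩
  · -- `P` is transitive on the other three
    have key : ∀ R : Sylow 3 M, R ≠ P.subtype hPM →
        Nat.card ↥(((P.subtype hPM : Sylow 3 M) : Subgroup M) ⊓ (R : Subgroup M)) = 9 ∧
        ∀ R' : Sylow 3 M, R' ≠ P.subtype hPM → R' ∈ MulAction.orbit ↥((P.subtype hPM : Sylow 3 M) : Subgroup M) R := by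
      intro R hR
      have hm := orbit_mul (P.subtype hPM) R
      rw [hPc] at hm
      set O := MulAction.orbit ↥((P.subtype hPM : Sylow 3 M) : Subgroup M) R
      have hPO : P.subtype hPM ∉ O := by
        rintro ⟨x, hx⟩
        apply hR
        have e : R = x⁻¹ • (P.subtype hPM) := (inv_smul_smul x R).symm.trans (congrArg (x⁻¹ • ·) hx)
        rw [e]
        exact Sylow.smul_eq_iff_mem_normalizer.2 (Subgroup.le_normalizer (inv_mem x.2))
      have hsub : O ⊆ {P.subtype hPM}ᶜ := fun z hz e => hPO ((Set.mem_singleton_iff.1 e) ▸ hz)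
      have hc3 : ({P.subtype hPM}ᶜ : Set (Sylow 3 M)).ncard = 3 := by
        rw [Set.ncard_compl, Set.ncard_singleton, hn]
      have hle := Set.ncard_le_ncard hsub (Set.toFinite _)
      rw [hc3, ← Nat.card_coe_set_eq] at hle
      obtain ⟨i, hi, he⟩ := (Nat.dvd_prime_pow (Fact.out : Nat.Prime 3)).1 ((inter_cases _ _ hPc hR).trans
        (dvd_of_eq (by norm_num : 9 = 3 ^ 2)))
      have h9 : Nat.card ↥(((P.subtype hPM : Sylow 3 M) : Subgroup M) ⊓ (R : Subgroup M)) = 9 := by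
        interval_cases i <;> rw [he] at hm ⊢ <;> omega
      refine ⟨h9, fun R' hR' => ?_⟩
      have hOc : O.ncard = 3 := by rw [← Nat.card_coe_set_eq]; rw [h9] at hm; omega
      rw [Set.eq_of_subset_of_ncard_le hsub (by rw [hOc, hc3]) (Set.toFinite _)]
      exact hR'
    have hne : ∀ {R : Sylow 3 G} (hRM : (R : Subgroup G) ≤ M), R ≠ P → R.subtype hRM ≠ P.subtype hPM := by
      intro R hRM hR e
      refine hR (Sylow.ext ?_)
      have := congrArg (fun S : Sylow 3 M => ((S : Subgroup M).map M.subtype)) e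
      simpa [Subgroup.map_subgroupOf_eq_of_le hRM, Subgroup.map_subgroupOf_eq_of_le hPM] using this
    obtain ⟨h9, horb⟩ := key _ (hne hQM hQ)
    obtain ⟨x, hx⟩ := horb _ (hne hQ'M hQ')
    have hQx : (Q' : Subgroup G) = MulAut.conj (x : M).1 • (Q : Subgroup G) := by
      ext z
      rw [Subgroup.mem_pointwise_smul_iff_inv_smul_mem, MulAut.smul_def, MulAut.conj_inv_apply]
      have hxx : ((x : M) • Q.subtype hQM : Sylow 3 M) = Q'.subtype hQ'M := hx
      constructor
      · intro hz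
        have h1 : (⟨z, hQ'M hz⟩ : M) ∈ ((Q'.subtype hQ'M : Sylow 3 M) : Subgroup M) := hz
        rw [← hxx, Sylow.coe_subgroup_smul, Subgroup.mem_pointwise_smul_iff_inv_smul_mem, MulAut.smul_def,
          MulAut.conj_inv_apply] at h1
        exact h1
      · intro hz
        have hzM : z ∈ M := by
          have := M.mul_mem (M.mul_mem (x : M).2 (hQM hz)) (M.inv_mem (x : M).2)
          simpa [mul_assoc] using this
        have h1 : (⟨z, hzM⟩ : M) ∈ (((x : M) • Q.subtype hQM : Sylow 3 M) : Subgroup M) := by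
          rw [Sylow.coe_subgroup_smul, Subgroup.mem_pointwise_smul_iff_inv_smul_mem, MulAut.smul_def,
            MulAut.conj_inv_apply]
          exact hz
        rw [hxx] at h1
        exact h1
    have hD9 : Nat.card ↥((P : Subgroup G) ⊓ (Q : Subgroup G)) = 9 := by
      rw [← h9, ← Nat.card_congr (Subgroup.subgroupOfEquivOfLe (inf_le_left.trans hPM)).toEquiv]
      rfl
    have hxP : (x : M).1 ∈ (P : Subgroup G) := x.2
    rw [hQx]
    ext z
    rw [Subgroup.mem_inf, Subgroup.mem_inf, Subgroup.mem_pointwise_smul_iff_inv_smul_mem, MulAut.smul_def,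
      MulAut.conj_inv_apply]
    constructor
    · intro hz
      refine ⟨hz.1, ?_⟩
      have h2 := (index_three_normal P Q hP hD9 ((P : Subgroup G).inv_mem hxP) hz).2
      rw [inv_inv] at h2
      exact h2
    · intro hz
      have hm : (x : M).1⁻¹ * z * (x : M).1 ∈ (P : Subgroup G) ⊓ Q :=
        ⟨(P : Subgroup G).mul_mem ((P : Subgroup G).mul_mem ((P : Subgroup G).inv_mem hxP) hz.1) hxP, hz.2⟩
      have := index_three_normal P Q hP hD9 hxP hm
      simpa [mul_assoc] using this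
  · -- order 351
    exfalso
    haveI : Fact (Nat.Prime 13) := ⟨by norm_num⟩
    obtain ⟨R, hR, hR9⟩ := exists_nine (P.subtype hPM) hPc (by rw [hn]; norm_num)
    set D := ((P.subtype hPM : Sylow 3 M) : Subgroup M) ⊓ (R : Subgroup M)
    have hRc : Nat.card (R : Subgroup M) = 27 := by
      rw [← hPc, R.card_eq_multiplicity, (P.subtype hPM).card_eq_multiplicity]
    have hD' : Nat.card ↥((R : Subgroup M) ⊓ ((P.subtype hPM : Sylow 3 M) : Subgroup M)) = 9 := by
      rw [inf_comm]; exact hR9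
    have hle : ((P.subtype hPM : Sylow 3 M) : Subgroup M) ⊔ (R : Subgroup M) ≤ Subgroup.normalizer (D : Set M) := by
      refine sup_le (fun x hx => Subgroup.mem_normalizer_fintype fun d hd => ?_)
        (fun x hx => Subgroup.mem_normalizer_fintype fun d hd => ?_)
      · exact index_three_normal _ R hPc hR9 hx hd
      · obtain ⟨a, b⟩ := index_three_normal R _ hRc hD' hx (⟨hd.2, hd.1⟩ : d ∈ (R : Subgroup M) ⊓ _)
        exact ⟨b, a⟩
    have hlt : 27 < Nat.card ↥(Subgroup.normalizer (D : Set M)) := by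
      by_contra h
      have e := Subgroup.eq_of_le_of_card_ge (le_sup_left.trans hle) (by rw [hPc]; omega)
      exact hR (Sylow.ext (Subgroup.eq_of_le_of_card_ge (e ▸ (le_sup_right.trans hle)) (by rw [hPc, hRc])))
    have h27 : 27 ∣ Nat.card ↥(Subgroup.normalizer (D : Set M)) :=
      hPc ▸ Subgroup.card_dvd_of_le (le_sup_left.trans hle)
    have hd := Subgroup.card_subgroup_dvd_card (Subgroup.normalizer (D : Set M))
    rw [hk, hk13] at hd
    have h351 : Nat.card ↥(Subgroup.normalizer (D : Set M)) = 351 := by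
      obtain ⟨j, hj⟩ := h27
      rw [hj] at hd hlt ⊢
      have hj13 : j ∣ 13 := Nat.dvd_of_mul_dvd_mul_left (by norm_num) hd
      rcases (Nat.dvd_prime (by norm_num)).1 hj13 with e | e <;> rw [e] at hlt ⊢ <;> omega
    have hNtop : Subgroup.normalizer (D : Set M) = ⊤ :=
      Subgroup.eq_top_of_card_eq _ (by rw [h351, hk, hk13])
    obtain ⟨⟨u, huM⟩, hu⟩ := exists_prime_orderOf_dvd_card' (G := M) 13 (by rw [hk, hk13]; norm_num)
    obtain ⟨⟨d, hd9⟩, hd1⟩ := exists_prime_orderOf_dvd_card' (G := D) 3 (by rw [hR9]; norm_num)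
    rw [Subgroup.orderOf_mk] at hd1 hu
    refine not_fix_small hG hu (D.map M.subtype) (s := (d : G))
      (by rw [Subgroup.card_map_of_injective M.subtype_injective, hR9]; norm_num) ⟨d, hd9, rfl⟩
      (by rw [Subgroup.orderOf_coe, hd1]; norm_num) ?_
    rintro t ⟨t', ht', rfl⟩
    have hN : (⟨u, huM⟩ : M) ∈ Subgroup.normalizer (D : Set M) := hNtop ▸ Subgroup.mem_top _
    exact ⟨_, (Subgroup.mem_normalizer_iff.1 hN t').1 ht', rfl⟩

/-- A nontrivial subgroup centralised by `P` and two Sylow subgroups meeting it differently. -/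
theorem of_centralised (hG : Nat.card G = 5616) [Fact (Nat.Prime 3)] (P Q Q' : Sylow 3 G) (L : Subgroup G)
    (hL : L ≠ ⊥) (hP : (P : Subgroup G) ≤ Subgroup.centralizer (L : Set G))
    (hQ : (Q : Subgroup G) ≤ Subgroup.centralizer (L : Set G))
    (hQ' : (Q' : Subgroup G) ≤ Subgroup.centralizer (L : Set G)) (h1 : Q ≠ P) (h2 : Q' ≠ P)
    (hne : (P : Subgroup G) ⊓ Q ≠ (P : Subgroup G) ⊓ Q') : ∃ H : Subgroup G, H.index = 13 := by
  refine ⟨Subgroup.centralizer (L : Set G), ?_⟩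
  by_contra h13
  refine hne (inter_eq hG P Q Q' (fun htop => ?_) h13 hP hQ hQ' h1 h2)
  have hnc : ¬ IsMulCommutative G := not_comm (by rw [hG]; norm_num)
  have hLc : L ≤ Subgroup.center G := fun l hl => Subgroup.mem_center_iff.2 fun g =>
    (Subgroup.mem_centralizer_iff.1 (htop ▸ Subgroup.mem_top g) l hl).symm
  rcases (inferInstance : (Subgroup.center G).Normal).eq_bot_or_eq_top with e | e
  · exact hL (le_bot_iff.1 (e ▸ hLc))
  · exact hnc ⟨⟨fun a b => (Subgroup.mem_center_iff.1 (e ▸ Subgroup.mem_top a) b).symm⟩⟩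

theorem smul_mem_iff [Fact (Nat.Prime 3)] (g : G) (P : Sylow 3 G) (z : G) :
    z ∈ ((g • P : Sylow 3 G) : Subgroup G) ↔ g⁻¹ * z * g ∈ (P : Subgroup G) := by
  rw [Sylow.coe_subgroup_smul, Subgroup.mem_pointwise_smul_iff_inv_smul_mem, MulAut.smul_def,
    MulAut.conj_inv_apply]

theorem conj_mem_smul [Fact (Nat.Prime 3)] (g : G) {P : Sylow 3 G} {z : G} (h : z ∈ (P : Subgroup G)) :
    g * z * g⁻¹ ∈ ((g • P : Sylow 3 G) : Subgroup G) := by
  rw [smul_mem_iff, show g⁻¹ * (g * z * g⁻¹) * g = z by group]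
  exact h

/-- The centre of a Sylow subgroup, in the group. -/
def zC [Fact (Nat.Prime 3)] (P : Sylow 3 G) : Subgroup G := (P : Subgroup G) ⊓ Subgroup.centralizer (P : Set G)

theorem zC_smul [Fact (Nat.Prime 3)] (g : G) (P : Sylow 3 G) {z : G} :
    z ∈ zC (g • P) ↔ g⁻¹ * z * g ∈ zC P := by
  simp only [zC, Subgroup.mem_inf, smul_mem_iff, Subgroup.mem_centralizer_iff]
  refine and_congr_right fun _ => ⟨fun h x hx => ?_, fun h x hx => ?_⟩
  · have := h (g * x * g⁻¹) (conj_mem_smul g hx)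
    calc x * (g⁻¹ * z * g) = g⁻¹ * (g * x * g⁻¹ * z) * g := by group
      _ = _ := by rw [this]; group
  · have := h (g⁻¹ * x * g) ((smul_mem_iff g P x).1 hx)
    calc x * z = g * (g⁻¹ * x * g * (g⁻¹ * z * g)) * g⁻¹ := by group
      _ = _ := by rw [this]; group

theorem exists_mover (hG : Nat.card G = 5616) [Fact (Nat.Prime 3)]
    (hno : ∀ H : Subgroup G, H.index ≠ 13) (P Q : Sylow 3 G) (hne : Q ≠ P)
    (h52 : Nat.card (Sylow 3 G) = 52)
    (hD : Nat.card ↥((P : Subgroup G) ⊓ (Q : Subgroup G)) = 9) :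
    ∃ c : G, c • P = P ∧ c • Q ≠ P ∧ (P : Subgroup G) ⊓ Q ≠ (P : Subgroup G) ⊓ (c • Q : Sylow 3 G) := by
  classical
  set D := (P : Subgroup G) ⊓ Q with hDdef
  set N := Subgroup.normalizer (D : Set G) with hNdef
  have hPc := sylow27 hG P
  have hPN : (P : Subgroup G) ≤ N := fun x hx => Subgroup.mem_normalizer_fintype fun d hd =>
    index_three_normal P Q hPc hD hx hd
  have hQN : (Q : Subgroup G) ≤ N := fun x hx => Subgroup.mem_normalizer_fintype fun d hd => by
    obtain ⟨a, b⟩ := index_three_normal Q P (sylow27 hG Q) (by rw [inf_comm]; exact hD) hx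
      (⟨hd.2, hd.1⟩ : d ∈ (Q : Subgroup G) ⊓ P)
    exact ⟨b, a⟩
  have hNtop : N ≠ ⊤ := by
    intro h
    haveI := Subgroup.normalizer_eq_top_iff.1 h
    rcases (inferInstance : D.Normal).eq_bot_or_eq_top with e | e
    · rw [e, Subgroup.card_bot] at hD; omega
    · rw [e, Subgroup.card_top, hG] at hD; omega
  by_contra hall
  push Not at hall
  have hle : Subgroup.normalizer ((P : Subgroup G) : Set G) ≤ N := by
    intro c hc
    have hcP : c • P = P := Sylow.smul_eq_iff_mem_normalizer.2 hc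
    have hcQ : c • Q ≠ P := fun e => hne (by rw [← inv_smul_smul c Q, e, ← hcP, inv_smul_smul, hcP])
    have he := hall c hcP hcQ
    refine Subgroup.mem_normalizer_fintype fun d hd => ?_
    show c * d * c⁻¹ ∈ D
    rw [he]
    refine ⟨?_, conj_mem_smul c hd.2⟩
    have := conj_mem_smul c hd.1
    rwa [hcP] at this
  have h108 : Nat.card (Subgroup.normalizer ((P : Subgroup G) : Set G)) = 108 := by
    have h := Subgroup.card_mul_index (Subgroup.normalizer ((P : Subgroup G) : Set G))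
    rw [← card_eq_index P, h52, hG] at h
    omega
  obtain ⟨x, hx⟩ := h108 ▸ Subgroup.card_dvd_of_le hle
  have hm := Subgroup.card_mul_index N
  rw [hx, hG] at hm
  have hidx := le_432 hG hNtop
  have hne13 := hno N
  have hx52 : x * N.index = 52 := by rw [mul_assoc] at hm; omega
  have hx2 : x ≤ 4 := by nlinarith
  have h1 : x ≠ 1 := by
    intro h
    rw [h, mul_one] at hx
    have heq := Subgroup.eq_of_le_of_card_ge hle (by rw [hx, h108])
    have hQP : (Q : Subgroup G) ≤ Subgroup.normalizer ((P : Subgroup G) : Set G) := heq.symm ▸ hQN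
    have := inf_normalizer Q.isPGroup' P
    rw [inf_eq_left.2 hQP] at this
    exact hne (Sylow.ext (Subgroup.eq_of_le_of_card_ge (inf_eq_left.1 this.symm) (by rw [hPc, sylow27 hG Q])))
  have hxe : x = 2 := by interval_cases x <;> omega
  have hn := card_eq_index (P.subtype hPN : Sylow 3 N)
  have hsub : (Subgroup.normalizer ((P : Subgroup G) : Set G)).subgroupOf N ≤
      Subgroup.normalizer (((P.subtype hPN : Sylow 3 N) : Subgroup N) : Set N) := by
    intro y hy
    refine Subgroup.mem_normalizer_fintype fun d hd => ?_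
    exact (Subgroup.mem_normalizer_iff.1 hy (d : G)).1 hd
  have hdv := Subgroup.index_dvd_of_le hsub
  have hsi : ((Subgroup.normalizer ((P : Subgroup G) : Set G)).subgroupOf N).index = 2 := by
    have h := Subgroup.card_mul_index ((Subgroup.normalizer ((P : Subgroup G) : Set G)).subgroupOf N)
    rw [Nat.card_congr (Subgroup.subgroupOfEquivOfLe hle).toEquiv, h108, hx, hxe] at h
    omega
  rw [← hn, hsi] at hdv
  have hmod := card_sylow_modEq_one 3 N
  rw [Nat.ModEq, Nat.one_mod] at hmod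
  rcases (Nat.dvd_prime Nat.prime_two).1 hdv with e | e
  · haveI : Subsingleton (Sylow 3 N) := (Nat.card_eq_one_iff_unique.1 e).1
    refine hne (Sylow.ext ?_)
    have e' := congrArg (fun S : Sylow 3 N => ((S : Subgroup N).map N.subtype))
      (Subsingleton.elim (Q.subtype hQN) (P.subtype hPN))
    simpa [Subgroup.map_subgroupOf_eq_of_le hQN, Subgroup.map_subgroupOf_eq_of_le hPN] using e'
  · rw [e] at hmod; omega

/-- The case of equal centres. -/
theorem of_equal_centre (hG : Nat.card G = 5616) [Fact (Nat.Prime 3)]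
    (hno : ∀ H : Subgroup G, H.index ≠ 13) (P Q : Sylow 3 G) (hne : Q ≠ P)
    (h52 : Nat.card (Sylow 3 G) = 52)
    (hD : Nat.card ↥((P : Subgroup G) ⊓ (Q : Subgroup G)) = 9) (hz : zC Q = zC P) : False := by
  obtain ⟨c, hcP, hcQ, hmove⟩ := exists_mover hG hno P Q hne h52 hD
  have hz' : zC (c • Q) = zC P := by
    ext z
    rw [zC_smul, hz, ← zC_smul, hcP]
  have hcen : ∀ R : Sylow 3 G, zC R = zC P →
      (R : Subgroup G) ≤ Subgroup.centralizer ((zC P : Subgroup G) : Set G) := fun R hR r hr =>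
    Subgroup.mem_centralizer_iff.2 fun z hz => by
      rw [← hR] at hz
      exact (Subgroup.mem_centralizer_iff.1 hz.2 r hr).symm
  have hL : zC P ≠ ⊥ := by
    intro h
    haveI : Nontrivial (P : Subgroup G) := by
      rw [← Finite.one_lt_card_iff_nontrivial, sylow27 hG P]; norm_num
    haveI := P.isPGroup'.center_nontrivial
    obtain ⟨w, hw⟩ := exists_ne (1 : Subgroup.center (P : Subgroup G))
    have hm : ((w : (P : Subgroup G)) : G) ∈ zC P :=
      ⟨w.1.2, Subgroup.mem_centralizer_iff.2 fun x hx =>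
        congrArg Subtype.val (Subgroup.mem_center_iff.1 w.2 ⟨x, hx⟩)⟩
    rw [h, Subgroup.mem_bot] at hm
    exact hw (Subtype.ext (Subtype.ext hm))
  obtain ⟨H, hH⟩ := of_centralised hG P Q (c • Q) _ hL (hcen P rfl) (hcen Q hz) (hcen _ hz') hne hcQ hmove
  exact hno H hH

theorem centre_card (hG : Nat.card G = 5616) [Fact (Nat.Prime 3)] (P : Sylow 3 G)
    (hna : ¬ IsMulCommutative (P : Subgroup G)) :
    Nat.card (zC P) = 3 := by
  have h : Nat.card (zC P) = Nat.card (Subgroup.center (P : Subgroup G)) := by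
    refine Nat.card_congr ⟨fun x => ⟨⟨x.1, x.2.1⟩, Subgroup.mem_center_iff.2 fun y => Subtype.ext
      (Subgroup.mem_centralizer_iff.1 x.2.2 y y.2)⟩, fun x => ⟨x.1.1, x.1.2,
      Subgroup.mem_centralizer_iff.2 fun y hy => congrArg Subtype.val (Subgroup.mem_center_iff.1 x.2 ⟨y, hy⟩)⟩,
      fun _ => rfl, fun _ => rfl⟩
  rw [h]
  haveI : Nontrivial (P : Subgroup G) := by
    rw [← Finite.one_lt_card_iff_nontrivial, sylow27 hG P]; norm_num
  haveI := P.isPGroup'.center_nontrivial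
  have hd := Subgroup.card_subgroup_dvd_card (Subgroup.center (P : Subgroup G))
  rw [sylow27 hG P, show (27 : ℕ) = 3 ^ 3 from rfl] at hd
  obtain ⟨i, hi, he⟩ := (Nat.dvd_prime_pow (Fact.out : Nat.Prime 3)).1 hd
  have hidx := Subgroup.card_mul_index (Subgroup.center (P : Subgroup G))
  rw [he, sylow27 hG P] at hidx
  rw [he]
  have h1 : 1 < Nat.card (Subgroup.center (P : Subgroup G)) := Finite.one_lt_card
  rw [he] at h1
  have hcyc : IsCyclic ((P : Subgroup G) ⧸ Subgroup.center (P : Subgroup G)) → False := fun hc =>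
    hna ⟨⟨commutative_of_cyclic_center_quotient (QuotientGroup.mk' (Subgroup.center (P : Subgroup G)))
      (by rw [QuotientGroup.ker_mk'])⟩⟩
  interval_cases i
  · omega
  · norm_num
  · haveI : IsCyclic ((P : Subgroup G) ⧸ Subgroup.center (P : Subgroup G)) :=
      isCyclic_of_prime_card (p := 3) (by rw [← Subgroup.index_eq_card]; omega)
    exact (hcyc this).elim
  · exfalso
    refine hna ⟨⟨fun a b => (Subgroup.mem_center_iff.1 (?_ : a ∈ Subgroup.center (P : Subgroup G)) b).symm⟩⟩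
    rw [Subgroup.index_eq_one.1 (show (Subgroup.center (P : Subgroup G)).index = 1 by omega)]
    exact Subgroup.mem_top a

theorem abelian_case (hG : Nat.card G = 5616) [Fact (Nat.Prime 3)]
    (hno : ∀ H : Subgroup G, H.index ≠ 13) (P Q : Sylow 3 G) (hne : Q ≠ P)
    (h52 : Nat.card (Sylow 3 G) = 52)
    (hD : Nat.card ↥((P : Subgroup G) ⊓ (Q : Subgroup G)) = 9)
    (hab : IsMulCommutative (P : Subgroup G)) : False := by
  obtain ⟨c, hcP, hcQ, hmove⟩ := exists_mover hG hno P Q hne h52 hD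
  have habR : ∀ R : Sylow 3 G, ∀ a ∈ (R : Subgroup G), ∀ b ∈ (R : Subgroup G), a * b = b * a := fun R a ha b hb => by
    obtain ⟨g, rfl⟩ := MulAction.exists_smul_eq G P R
    rw [smul_mem_iff] at ha hb
    have := congrArg Subtype.val (hab.is_comm.comm (⟨_, ha⟩ : (P : Subgroup G)) ⟨_, hb⟩)
    simp only [Subgroup.coe_mul] at this
    calc a * b = g * ((g⁻¹ * a * g) * (g⁻¹ * b * g)) * g⁻¹ := by group
      _ = _ := by rw [this]; group
  set L := ((P : Subgroup G) ⊓ Q) ⊓ ((P : Subgroup G) ⊓ (c • Q : Sylow 3 G)) with hLdef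
  have hcen : ∀ R : Sylow 3 G, L ≤ (R : Subgroup G) → (R : Subgroup G) ≤ Subgroup.centralizer (L : Set G) :=
    fun R hR r hr => Subgroup.mem_centralizer_iff.2 fun l hl => habR R l (hR hl) r hr
  have hL : L ≠ ⊥ := by
    intro h
    have hle : ((P : Subgroup G) ⊓ (c • Q : Sylow 3 G)).relIndex ((P : Subgroup G) ⊓ Q) ≤
        ((P : Subgroup G) ⊓ (c • Q : Sylow 3 G)).relIndex P :=
      Subgroup.relIndex_le_of_le_right inf_le_left Subgroup.index_ne_zero_of_finite
    have h9 : Nat.card ↥((P : Subgroup G) ⊓ (c • Q : Sylow 3 G)) = 9 := by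
      rw [← hD]
      refine Nat.card_congr ⟨fun x => ⟨c⁻¹ * x.1 * c, ?_, (smul_mem_iff c Q _).1 x.2.2⟩,
        fun x => ⟨c * x.1 * c⁻¹, ?_, conj_mem_smul c x.2.2⟩, fun x => Subtype.ext ?_, fun x => Subtype.ext ?_⟩
      · show c⁻¹ * x.1 * c ∈ (P : Subgroup G); rw [← smul_mem_iff c P, hcP]; exact x.2.1
      · have := conj_mem_smul c x.2.1; rwa [hcP] at this
      · group
      · group
    have e1 : ((P : Subgroup G) ⊓ (c • Q : Sylow 3 G)).relIndex P = 3 := by
      have h := Subgroup.card_mul_index (((P : Subgroup G) ⊓ (c • Q : Sylow 3 G)).subgroupOf (P : Subgroup G))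
      rw [Nat.card_congr (Subgroup.subgroupOfEquivOfLe inf_le_left).toEquiv, h9, sylow27 hG P] at h
      rw [Subgroup.relIndex]
      omega
    have e2 : ((P : Subgroup G) ⊓ (c • Q : Sylow 3 G)).relIndex ((P : Subgroup G) ⊓ Q) = 9 := by
      have hbot : ((P : Subgroup G) ⊓ (c • Q : Sylow 3 G)).subgroupOf ((P : Subgroup G) ⊓ Q) = ⊥ := by
        rw [Subgroup.subgroupOf_eq_bot]
        rw [disjoint_iff, inf_comm]
        exact h
      rw [Subgroup.relIndex, hbot, Subgroup.index_bot, hD]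
    omega
  obtain ⟨H, hH⟩ := of_centralised hG P Q (c • Q) L hL (hcen P (inf_le_left.trans inf_le_left))
    (hcen Q (inf_le_left.trans inf_le_right)) (hcen _ (inf_le_right.trans inf_le_right)) hne hcQ hmove
  exact hno H hH

theorem distinct_centre_case (hG : Nat.card G = 5616) [Fact (Nat.Prime 3)]
    (hno : ∀ H : Subgroup G, H.index ≠ 13) (P Q : Sylow 3 G) (hne : Q ≠ P)
    (h52 : Nat.card (Sylow 3 G) = 52)
    (hD : Nat.card ↥((P : Subgroup G) ⊓ (Q : Subgroup G)) = 9)
    (hna : ¬ IsMulCommutative (P : Subgroup G)) (hz : zC Q ≠ zC P) : False := by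
  classical
  set D := (P : Subgroup G) ⊓ Q with hDdef
  have hPc := sylow27 hG P
  have hQc := sylow27 hG Q
  have hD' : Nat.card ↥((Q : Subgroup G) ⊓ (P : Subgroup G)) = 9 := by rw [inf_comm]; exact hD
  have hnaQ : ¬ IsMulCommutative (Q : Subgroup G) := fun h => hna ⟨⟨fun a b => (P.equiv Q).injective
    (by rw [map_mul, map_mul]; exact h.is_comm.comm _ _)⟩⟩
  have hDab : ∀ a ∈ D, ∀ b ∈ D, a * b = b * a := fun a ha b hb =>
    congrArg Subtype.val (IsPGroup.commutative_of_card_eq_prime_sq (p := 3) (G := D) (by rw [hD]; norm_num)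
      (⟨a, ha⟩ : D) ⟨b, hb⟩)
  -- centres lie in the intersection
  have centre_le : ∀ (R S : Sylow 3 G), Nat.card ↥((R : Subgroup G) ⊓ (S : Subgroup G)) = 9 →
      ¬ IsMulCommutative (R : Subgroup G) → zC R ≤ (R : Subgroup G) ⊓ S := by
    intro R S h9 hR z hzm
    by_contra hzS
    apply hR
    set E := (R : Subgroup G) ⊓ (S : Subgroup G)
    have hgen : E ⊔ Subgroup.zpowers z = R := by
      refine Subgroup.eq_of_le_of_card_ge (sup_le inf_le_left (Subgroup.zpowers_le.2 hzm.1)) ?_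
      rw [sylow27 hG R]
      have hd : Nat.card ↥(E ⊔ Subgroup.zpowers z) ∣ 3 ^ 3 :=
        (Subgroup.card_dvd_of_le (sup_le inf_le_left (Subgroup.zpowers_le.2 hzm.1))).trans
          (dvd_of_eq (sylow27 hG R))
      obtain ⟨i, hi, he⟩ := (Nat.dvd_prime_pow (Fact.out : Nat.Prime 3)).1 hd
      have h9d : 9 ∣ Nat.card ↥(E ⊔ Subgroup.zpowers z) := h9 ▸ Subgroup.card_dvd_of_le le_sup_left
      rw [he] at h9d ⊢
      interval_cases i <;> norm_num at h9d <;> norm_num
      exfalso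
      have : E = E ⊔ Subgroup.zpowers z := Subgroup.eq_of_le_of_card_ge le_sup_left (by rw [he, h9]; norm_num)
      exact hzS (this ▸ Subgroup.mem_sup_right (Subgroup.mem_zpowers z))
    have hcomm : ∀ a ∈ (E : Set G) ∪ {z}, ∀ b ∈ (E : Set G) ∪ {z}, a * b = b * a := by
      have hE : ∀ a ∈ E, ∀ b ∈ E, a * b = b * a := fun a ha b hb =>
        congrArg Subtype.val (IsPGroup.commutative_of_card_eq_prime_sq (p := 3) (G := E) (by rw [h9]; norm_num)
          (⟨a, ha⟩ : E) ⟨b, hb⟩)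
      intro a ha b hb
      rcases ha with ha | ha <;> rcases hb with hb | hb
      · exact hE a ha b hb
      · rw [Set.mem_singleton_iff.1 hb]; exact Subgroup.mem_centralizer_iff.1 hzm.2 a ha.1
      · rw [Set.mem_singleton_iff.1 ha]; exact (Subgroup.mem_centralizer_iff.1 hzm.2 b hb.1).symm
      · rw [Set.mem_singleton_iff.1 ha, Set.mem_singleton_iff.1 hb]
    have hcl : Subgroup.closure ((E : Set G) ∪ {z}) = R := by
      rw [Subgroup.closure_union, Subgroup.closure_eq, ← Subgroup.zpowers_eq_closure, hgen]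
    have := Subgroup.isMulCommutative_closure hcomm
    rwa [hcl] at this
  have hZD : zC P ≤ D := centre_le P Q hD hna
  have hZ'D : zC Q ≤ D := by rw [hDdef, inf_comm]; exact centre_le Q P hD' hnaQ
  have hdis : zC P ⊓ zC Q = ⊥ := by
    by_contra h
    apply hz
    have hd := Subgroup.card_dvd_of_le (inf_le_left : zC P ⊓ zC Q ≤ zC P)
    rw [centre_card hG P hna] at hd
    rcases (Nat.dvd_prime (Fact.out : Nat.Prime 3)).1 hd with e | e
    · exact absurd ((Subgroup.card_eq_one).1 e) h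
    · have e1 : zC P ⊓ zC Q = zC P := Subgroup.eq_of_le_of_card_ge inf_le_left (by rw [e, centre_card hG P hna])
      exact (Subgroup.eq_of_le_of_card_ge (inf_eq_left.1 e1)
        (by rw [centre_card hG P hna, centre_card hG Q hnaQ])).symm
  have exists_out : ∀ R S : Sylow 3 G, Nat.card ↥((R : Subgroup G) ⊓ (S : Subgroup G)) = 9 →
      ∃ x ∈ (R : Subgroup G), x ∉ (R : Subgroup G) ⊓ (S : Subgroup G) := fun R S h9 =>
    SetLike.exists_of_lt (lt_of_le_of_ne inf_le_left (fun e => by rw [e, sylow27 hG R] at h9; omega))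
      |>.imp fun a ha => ha
  obtain ⟨x, hxP, hxD⟩ := exists_out P Q hD
  obtain ⟨y₀, hy₀Q, hy₀D⟩ := exists_out Q P hD'
  have gen : ∀ (R S : Sylow 3 G), Nat.card ↥((R : Subgroup G) ⊓ (S : Subgroup G)) = 9 → ∀ a ∈ (R : Subgroup G),
      a ∉ (R : Subgroup G) ⊓ (S : Subgroup G) → ((R : Subgroup G) ⊓ S) ⊔ Subgroup.zpowers a = R := by
    intro R S h9 a ha haS
    refine Subgroup.eq_of_le_of_card_ge (sup_le inf_le_left (Subgroup.zpowers_le.2 ha)) ?_
    rw [sylow27 hG R]
    have hd : Nat.card ↥(((R : Subgroup G) ⊓ S) ⊔ Subgroup.zpowers a) ∣ 3 ^ 3 :=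
      (Subgroup.card_dvd_of_le (sup_le inf_le_left (Subgroup.zpowers_le.2 ha))).trans (dvd_of_eq (sylow27 hG R))
    obtain ⟨i, hi, he⟩ := (Nat.dvd_prime_pow (Fact.out : Nat.Prime 3)).1 hd
    have h9d := h9 ▸ Subgroup.card_dvd_of_le (le_sup_left :
      (R : Subgroup G) ⊓ S ≤ ((R : Subgroup G) ⊓ S) ⊔ Subgroup.zpowers a)
    rw [he] at h9d ⊢
    interval_cases i <;> norm_num at h9d <;> norm_num
    exfalso
    have : (R : Subgroup G) ⊓ S = ((R : Subgroup G) ⊓ S) ⊔ Subgroup.zpowers a :=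
      Subgroup.eq_of_le_of_card_ge le_sup_left (by rw [he, h9]; norm_num)
    exact haS (this ▸ Subgroup.mem_sup_right (Subgroup.mem_zpowers a))
  -- the commutator of `x` with a central element of `Q` is central in `P`
  have comm_mem : ∀ (R : Sylow 3 G), ¬ IsMulCommutative (R : Subgroup G) → ∀ a ∈ (R : Subgroup G),
      ∀ b ∈ (R : Subgroup G), a * b * a⁻¹ * b⁻¹ ∈ zC R := by
    intro R hR a ha b hb
    set Z := Subgroup.center (R : Subgroup G)
    have hZ : Nat.card Z = 3 := by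
      refine Eq.trans ?_ (centre_card hG R hR)
      exact (Nat.card_congr ⟨fun x => ⟨⟨x.1, x.2.1⟩, Subgroup.mem_center_iff.2 fun y => Subtype.ext
        (Subgroup.mem_centralizer_iff.1 x.2.2 y y.2)⟩, fun x => ⟨x.1.1, x.1.2,
        Subgroup.mem_centralizer_iff.2 fun y hy => congrArg Subtype.val (Subgroup.mem_center_iff.1 x.2 ⟨y, hy⟩)⟩,
        fun _ => rfl, fun _ => rfl⟩).symm
    have h9 : Nat.card ((R : Subgroup G) ⧸ Z) = 3 ^ 2 := by
      have h := Subgroup.card_mul_index Z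
      rw [hZ, sylow27 hG R] at h
      rw [← Subgroup.index_eq_card]
      norm_num
      omega
    have hc := IsPGroup.commutative_of_card_eq_prime_sq h9 (QuotientGroup.mk' Z ⟨a, ha⟩) (QuotientGroup.mk' Z ⟨b, hb⟩)
    have hm : (⟨a, ha⟩ * ⟨b, hb⟩ * ⟨a, ha⟩⁻¹ * ⟨b, hb⟩⁻¹ : (R : Subgroup G)) ∈ Z := by
      rw [← QuotientGroup.eq_one_iff]
      change QuotientGroup.mk' Z _ = 1
      rw [map_mul, map_mul, map_mul, map_inv, map_inv, hc]
      group
    exact ⟨(R : Subgroup G).mul_mem ((R : Subgroup G).mul_mem ((R : Subgroup G).mul_mem ha hb)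
      ((R : Subgroup G).inv_mem ha)) ((R : Subgroup G).inv_mem hb), Subgroup.mem_centralizer_iff.2 fun r hr =>
      congrArg Subtype.val (Subgroup.mem_center_iff.1 hm ⟨r, hr⟩)⟩
  have ne_bot : ∀ R : Sylow 3 G, ¬ IsMulCommutative (R : Subgroup G) → zC R ≠ ⊥ := fun R hR h => by
    have := centre_card hG R hR
    rw [h, Subgroup.card_bot] at this
    omega
  obtain ⟨w, hw, hw1⟩ := (zC Q).bot_or_exists_ne_one.resolve_left (ne_bot Q hnaQ)
  obtain ⟨z, hzdef⟩ : ∃ z, z = x * w * x⁻¹ * w⁻¹ := ⟨_, rfl⟩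
  have hwD : w ∈ D := hZ'D hw
  have hzZ : z ∈ zC P := hzdef ▸ comm_mem P hna x hxP w hwD.1
  have hz1 : z ≠ 1 := by
    intro h
    have hcomm : x * w = w * x := by
      rw [hzdef, mul_inv_eq_one, mul_inv_eq_iff_eq_mul] at h
      exact h
    refine hw1 ((Subgroup.mem_bot).1 (hdis ▸ (⟨?_, hw⟩ : w ∈ zC P ⊓ zC Q)))
    refine ⟨hwD.1, Subgroup.mem_centralizer_iff.2 fun r hr => ?_⟩
    have hrP : r ∈ ((P : Subgroup G) ⊓ Q) ⊔ Subgroup.zpowers x := (gen P Q hD x hxP hxD).symm ▸ hr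
    have hle : ((P : Subgroup G) ⊓ Q) ⊔ Subgroup.zpowers x ≤ Subgroup.centralizer ({w} : Set G) :=
      sup_le (fun d hd => Subgroup.mem_centralizer_singleton_iff.2 (hDab d hd w hwD))
        (Subgroup.zpowers_le.2 (Subgroup.mem_centralizer_singleton_iff.2 hcomm))
    exact Subgroup.mem_centralizer_singleton_iff.1 (hle hrP)
  have hzD : z ∈ D := hZD hzZ
  have hxw : x * w * x⁻¹ = z * w := by rw [hzdef]; group
  have hxz : x * z * x⁻¹ = z := by rw [Subgroup.mem_centralizer_iff.1 hzZ.2 x hxP]; group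
  obtain ⟨v, hvdef⟩ : ∃ v, v = y₀ * z * y₀⁻¹ * z⁻¹ := ⟨_, rfl⟩
  have hvZ : v ∈ zC Q := hvdef ▸ comm_mem Q hnaQ y₀ hy₀Q z hzD.2
  have hv1 : v ≠ 1 := by
    intro h
    have hcomm : y₀ * z = z * y₀ := by
      rw [hvdef, mul_inv_eq_one, mul_inv_eq_iff_eq_mul] at h
      exact h
    refine hz1 ((Subgroup.mem_bot).1 (hdis ▸ (⟨hzZ, ?_⟩ : z ∈ zC P ⊓ zC Q)))
    refine ⟨hzD.2, Subgroup.mem_centralizer_iff.2 fun r hr => ?_⟩
    have hrQ : r ∈ ((Q : Subgroup G) ⊓ P) ⊔ Subgroup.zpowers y₀ := (gen Q P hD' y₀ hy₀Q hy₀D).symm ▸ hr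
    have hle : ((Q : Subgroup G) ⊓ P) ⊔ Subgroup.zpowers y₀ ≤ Subgroup.centralizer ({z} : Set G) :=
      sup_le (fun d hd => Subgroup.mem_centralizer_singleton_iff.2 (hDab d ⟨hd.2, hd.1⟩ z hzD))
        (Subgroup.zpowers_le.2 (Subgroup.mem_centralizer_singleton_iff.2 hcomm))
    exact Subgroup.mem_centralizer_singleton_iff.1 (hle hrQ)
  have zP : zC P = Subgroup.zpowers z := by
    refine (Subgroup.eq_of_le_of_card_ge (Subgroup.zpowers_le.2 hzZ) ?_).symm
    rw [centre_card hG P hna, Nat.card_zpowers]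
    have hd := orderOf_dvd_natCard (⟨z, hzZ⟩ : zC P)
    rw [centre_card hG P hna, Subgroup.orderOf_mk] at hd
    rcases (Nat.dvd_prime (Fact.out : Nat.Prime 3)).1 hd with e | e
    · exact absurd (orderOf_eq_one_iff.1 e) hz1
    · exact e.ge
  have ordw : orderOf w = 3 := by
    have hd := orderOf_dvd_natCard (⟨w, hw⟩ : zC Q)
    rw [centre_card hG Q hnaQ, Subgroup.orderOf_mk] at hd
    exact ((Nat.dvd_prime (Fact.out : Nat.Prime 3)).1 hd).resolve_left fun e => hw1 (orderOf_eq_one_iff.1 e)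
  have zQ : zC Q = Subgroup.zpowers w :=
    (Subgroup.eq_of_le_of_card_ge (Subgroup.zpowers_le.2 hw)
      (by rw [centre_card hG Q hnaQ, Nat.card_zpowers, ordw])).symm
  obtain ⟨y, hyQ, hyD, hyz⟩ : ∃ y ∈ (Q : Subgroup G), y ∉ D ∧ y * z * y⁻¹ = w⁻¹ * z := by
    obtain ⟨k, hk3, hk⟩ : ∃ k < 3, w ^ k = v := by
      obtain ⟨i, hi, he⟩ := (Submonoid.mem_powers_iff _ _).1 (mem_powers_iff_mem_zpowers.2 (zQ ▸ hvZ)) |>.imp
        fun n hn => (⟨hn, hn⟩ : w ^ n = v ∧ w ^ n = v)
      exact ⟨i % 3, Nat.mod_lt _ (by norm_num), by rw [← ordw, pow_mod_orderOf]; exact hi⟩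
    have hw3 : w ^ 3 = 1 := by rw [← ordw, pow_orderOf_eq_one]
    have hy₀z : y₀ * z * y₀⁻¹ = v * z := by rw [hvdef]; group
    have hy₀w : y₀⁻¹ * w = w * y₀⁻¹ := Subgroup.mem_centralizer_iff.1 hw.2 y₀⁻¹ ((Q : Subgroup G).inv_mem hy₀Q)
    rcases (show k = 0 ∨ k = 1 ∨ k = 2 by omega) with e | e | e <;> subst e
    · exact absurd (by rw [← hk, pow_zero]) hv1
    · refine ⟨y₀⁻¹, (Q : Subgroup G).inv_mem hy₀Q,
        fun h => hy₀D ⟨hy₀Q, (Subgroup.inv_mem_iff (P : Subgroup G)).1 h.1⟩, ?_⟩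
      rw [pow_one] at hk
      rw [← hk] at hy₀z
      calc y₀⁻¹ * z * y₀⁻¹⁻¹ = y₀⁻¹ * (w⁻¹ * (w * z)) * y₀ := by group
        _ = y₀⁻¹ * (w⁻¹ * (y₀ * z * y₀⁻¹)) * y₀ := by rw [hy₀z]
        _ = (y₀⁻¹ * w⁻¹ * y₀) * z := by group
        _ = _ := by
          congr 1
          have : y₀⁻¹ * w⁻¹ = w⁻¹ * y₀⁻¹ := ((Commute.inv_right (show Commute y₀⁻¹ w from hy₀w)).eq)
          rw [this, mul_assoc, inv_mul_cancel, mul_one]
    · refine ⟨y₀, hy₀Q, fun h => hy₀D ⟨hy₀Q, h.1⟩, ?_⟩
      rw [hy₀z, ← hk, show w ^ 2 = w⁻¹ from eq_inv_of_mul_eq_one_left (by rw [← pow_succ]; exact hw3)]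
  have hyw : y * w * y⁻¹ = w := by
    rw [Subgroup.mem_centralizer_iff.1 hw.2 y hyQ]; group
  have hzw : z * w = w * z := hDab z hzD w hwD
  set g₀ := x * y * x with hg₀
  have h0z : g₀ * z * g₀⁻¹ = w⁻¹ := by
    calc g₀ * z * g₀⁻¹ = x * (y * (x * z * x⁻¹) * y⁻¹) * x⁻¹ := by rw [hg₀]; group
      _ = x * (w⁻¹ * z) * x⁻¹ := by rw [hxz, hyz]
      _ = (x * w * x⁻¹)⁻¹ * (x * z * x⁻¹) := by group
      _ = w⁻¹ := by rw [hxw, hxz]; group
  have h0w : g₀ * w * g₀⁻¹ = z := by
    calc g₀ * w * g₀⁻¹ = x * (y * (x * w * x⁻¹) * y⁻¹) * x⁻¹ := by rw [hg₀]; group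
      _ = x * ((y * z * y⁻¹) * (y * w * y⁻¹)) * x⁻¹ := by rw [hxw]; group
      _ = x * (w⁻¹ * (z * w)) * x⁻¹ := by rw [hyz, hyw]; group
      _ = x * z * x⁻¹ := by rw [hzw]; group
      _ = z := hxz
  obtain ⟨g, hg⟩ : ∃ g, g = g₀ * g₀ := ⟨_, rfl⟩
  have hgz : g * z * g⁻¹ = z⁻¹ := by
    calc g * z * g⁻¹ = g₀ * (g₀ * z * g₀⁻¹) * g₀⁻¹ := by rw [hg]; group
      _ = (g₀ * w * g₀⁻¹)⁻¹ := by rw [h0z]; group
      _ = z⁻¹ := by rw [h0w]
  have hgw : g * w * g⁻¹ = w⁻¹ := by
    calc g * w * g⁻¹ = g₀ * (g₀ * w * g₀⁻¹) * g₀⁻¹ := by rw [hg]; group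
      _ = w⁻¹ := by rw [h0w, h0z]
  have hDgen : D = Subgroup.zpowers z ⊔ Subgroup.zpowers w := by
    have hle : Subgroup.zpowers z ⊔ Subgroup.zpowers w ≤ D :=
      sup_le (Subgroup.zpowers_le.2 hzD) (Subgroup.zpowers_le.2 hwD)
    refine (Subgroup.eq_of_le_of_card_ge hle ?_).symm
    rw [hD]
    obtain ⟨i, hi, he⟩ := (Nat.dvd_prime_pow (Fact.out : Nat.Prime 3)).1 ((Subgroup.card_dvd_of_le hle).trans
      (dvd_of_eq (hD.trans (by norm_num : 9 = 3 ^ 2))))
    have h3 : 3 ∣ Nat.card ↥(Subgroup.zpowers z ⊔ Subgroup.zpowers w) := by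
      rw [← ordw, ← Nat.card_zpowers]; exact Subgroup.card_dvd_of_le le_sup_right
    rw [he] at h3 ⊢
    interval_cases i <;> norm_num at h3 <;> norm_num
    exfalso
    have e : Subgroup.zpowers w = Subgroup.zpowers z ⊔ Subgroup.zpowers w :=
      Subgroup.eq_of_le_of_card_ge le_sup_right (by rw [he, Nat.card_zpowers, ordw]; norm_num)
    exact hz1 ((Subgroup.mem_bot).1 (hdis ▸ (⟨hzZ, zQ.symm ▸ (e ▸ Subgroup.mem_sup_left (Subgroup.mem_zpowers z))⟩ :
      z ∈ zC P ⊓ zC Q)))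
  have hgD : ∀ d ∈ D, g * d * g⁻¹ = d⁻¹ := by
    intro d hd
    rw [hDgen, Subgroup.zpowers_eq_closure, Subgroup.zpowers_eq_closure, ← Subgroup.closure_union] at hd
    have hDle : Subgroup.closure ({z} ∪ {w}) ≤ D := (Subgroup.closure_le _).2 (by
      rintro a (rfl | rfl) <;> assumption)
    induction hd using Subgroup.closure_induction with
    | mem a ha => rcases ha with rfl | rfl <;> assumption
    | one => simp
    | mul a b ha hb iha ihb =>
      rw [show g * (a * b) * g⁻¹ = (g * a * g⁻¹) * (g * b * g⁻¹) by group, iha, ihb, mul_inv_rev,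
        hDab a⁻¹ (inv_mem (hDle ha)) b⁻¹ (inv_mem (hDle hb))]
    | inv a _ iha => rw [show g * a⁻¹ * g⁻¹ = (g * a * g⁻¹)⁻¹ by group, iha]
  set N := Subgroup.normalizer (D : Set G)
  have hPN : (P : Subgroup G) ≤ N := fun a ha => Subgroup.mem_normalizer_fintype fun d hd =>
    index_three_normal P Q hPc hD ha hd
  have hQN : (Q : Subgroup G) ≤ N := fun a ha => Subgroup.mem_normalizer_fintype fun d hd => by
    obtain ⟨a', b'⟩ := index_three_normal Q P hQc hD' ha (⟨hd.2, hd.1⟩ : d ∈ (Q : Subgroup G) ⊓ P)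
    exact ⟨b', a'⟩
  have hNtop : N ≠ ⊤ := by
    intro h
    haveI := Subgroup.normalizer_eq_top_iff.1 h
    rcases (inferInstance : D.Normal).eq_bot_or_eq_top with e | e
    · rw [e, Subgroup.card_bot] at hD; omega
    · rw [e, Subgroup.card_top, hG] at hD; omega
  have hgN : g ∈ N := by
    have : g₀ ∈ N := mul_mem (mul_mem (hPN hxP) (hQN hyQ)) (hPN hxP)
    rw [hg]; exact mul_mem this this
  have hgP : g • P = P := by
    by_contra hgP
    have hle : ((g • P : Sylow 3 G) : Subgroup G) ≤ N := fun a ha => by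
      rw [smul_mem_iff] at ha
      have := mul_mem (mul_mem hgN (hPN ha)) (inv_mem hgN)
      simpa [mul_assoc] using this
    have hint := inter_eq hG P Q (g • P) hNtop (hno N) hPN hQN hle hne hgP
    refine of_equal_centre hG hno P (g • P) hgP h52 (by rw [← hint]; exact hD) ?_
    ext a
    rw [zC_smul, zP]
    constructor
    · intro h
      obtain ⟨n, hn⟩ := Subgroup.mem_zpowers_iff.1 h
      refine Subgroup.mem_zpowers_iff.2 ⟨-n, ?_⟩
      rw [zpow_neg, ← inv_zpow, ← hgz, conj_zpow, hn]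
      group
    · intro h
      obtain ⟨n, hn⟩ := Subgroup.mem_zpowers_iff.1 h
      refine Subgroup.mem_zpowers_iff.2 ⟨-n, ?_⟩
      rw [← hn, zpow_neg, ← inv_zpow]
      calc (z⁻¹) ^ n = g⁻¹ * (g * (z⁻¹) ^ n * g⁻¹) * g := by group
        _ = g⁻¹ * ((g * z⁻¹ * g⁻¹) ^ n) * g := by rw [conj_zpow]
        _ = _ := by rw [show g * z⁻¹ * g⁻¹ = (g * z * g⁻¹)⁻¹ by group, hgz, inv_inv]
  -- `g` centralises `P` modulo `D`
  set DP := D.subgroupOf (P : Subgroup G)
  haveI hDPn : DP.Normal := ⟨fun d hd a => index_three_normal P Q hPc hD a.2 hd⟩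
  have h3q : Nat.card ((P : Subgroup G) ⧸ DP) = 3 := by
    have h := Subgroup.card_mul_index DP
    rw [Nat.card_congr (Subgroup.subgroupOfEquivOfLe inf_le_left).toEquiv, hD, hPc] at h
    rw [← Subgroup.index_eq_card]
    omega
  have hcycq : IsCyclic ((P : Subgroup G) ⧸ DP) := isCyclic_of_prime_card h3q
  have hgconj : ∀ a : (P : Subgroup G), g * a * g⁻¹ ∈ (P : Subgroup G) := fun a => by
    have := conj_mem_smul g a.2; rwa [hgP] at this
  have hgx : (QuotientGroup.mk' DP ⟨g * x * g⁻¹, hgconj ⟨x, hxP⟩⟩) = QuotientGroup.mk' DP ⟨x, hxP⟩ := by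
    set q := QuotientGroup.mk' DP ⟨x, hxP⟩
    have hq1 : q ≠ 1 := fun h => hxD ((QuotientGroup.eq_one_iff (N := DP) _).1 h)
    have hqo : orderOf q = 3 := ((Nat.dvd_prime (Fact.out : Nat.Prime 3)).1
      ((orderOf_dvd_natCard q).trans h3q.dvd)).resolve_left
      fun e => hq1 (orderOf_eq_one_iff.1 e)
    have hgen := Subgroup.eq_top_of_card_eq (Subgroup.zpowers q) (by rw [Nat.card_zpowers, hqo, h3q])
    obtain ⟨n, hn⟩ := (Submonoid.mem_powers_iff _ _).1 (mem_powers_iff_mem_zpowers.2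
      (hgen ▸ Subgroup.mem_top (QuotientGroup.mk' DP ⟨g * x * g⁻¹, hgconj ⟨x, hxP⟩⟩)))
    rw [← pow_mod_orderOf, hqo] at hn
    have hlt : n % 3 < 3 := Nat.mod_lt _ (by norm_num)
    interval_cases hm : n % 3
    · exfalso
      rw [pow_zero] at hn
      have hin : g * x * g⁻¹ ∈ D := (QuotientGroup.eq_one_iff (N := DP) _).1 hn.symm
      have h2 := (Subgroup.mem_normalizer_iff.1 hgN x).2 hin
      exact hxD h2
    · rw [pow_one] at hn; exact hn.symm
    · exfalso
      rw [← map_pow] at hn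
      have hin : (x ^ 2)⁻¹ * (g * x * g⁻¹) ∈ D := (QuotientGroup.eq (s := DP)).1 hn
      obtain ⟨d, hd, hdx⟩ : ∃ d ∈ D, g * x * g⁻¹ = x ^ 2 * d := ⟨_, hin, by group⟩
      have hdw : d * w * d⁻¹ = w := by rw [hDab d hd w hwD]; group
      have e1 : (g * x * g⁻¹) * w * (g * x * g⁻¹)⁻¹ = z * (z * w) := by
        rw [hdx, show x ^ 2 * d * w * (x ^ 2 * d)⁻¹ = x * (x * (d * w * d⁻¹) * x⁻¹) * x⁻¹ by rw [pow_two]; group, hdw, hxw]
        calc x * (z * w) * x⁻¹ = (x * z * x⁻¹) * (x * w * x⁻¹) := by group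
          _ = _ := by rw [hxz, hxw]
      have e2 : (g * x * g⁻¹) * w * (g * x * g⁻¹)⁻¹ = z * w := by
        have h1 : g⁻¹ * w * g = w⁻¹ := by
          have : w = g * w⁻¹ * g⁻¹ := by
            rw [show g * w⁻¹ * g⁻¹ = (g * w * g⁻¹)⁻¹ by group, hgw, inv_inv]
          conv_lhs => rw [this]
          group
        calc (g * x * g⁻¹) * w * (g * x * g⁻¹)⁻¹ = g * (x * (g⁻¹ * w * g) * x⁻¹) * g⁻¹ := by group
          _ = (g * (x * w * x⁻¹) * g⁻¹)⁻¹ := by rw [h1]; group
          _ = ((g * z * g⁻¹) * (g * w * g⁻¹))⁻¹ := by rw [hxw]; group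
          _ = w * z := by rw [hgz, hgw]; group
          _ = _ := hzw.symm
      rw [e1, mul_eq_right] at e2
      exact hz1 e2
  have hgq : ∀ a : (P : Subgroup G),
      QuotientGroup.mk' DP ⟨g * a * g⁻¹, hgconj a⟩ = QuotientGroup.mk' DP a := by
    let f : (P : Subgroup G) →* (P : Subgroup G) :=
      MonoidHom.mk' (fun a => ⟨g * a * g⁻¹, hgconj a⟩) (fun a b => Subtype.ext (by
        simp only [Subgroup.coe_mul]; group))
    have hker : (⊤ : Subgroup (P : Subgroup G)) ≤
        MonoidHom.eqLocus ((QuotientGroup.mk' DP).comp f) (QuotientGroup.mk' DP) := by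
      have htop : DP ⊔ Subgroup.zpowers (⟨x, hxP⟩ : (P : Subgroup G)) = ⊤ := by
        apply Subgroup.map_injective (P : Subgroup G).subtype_injective
        rw [Subgroup.map_sup, MonoidHom.map_zpowers, ← MonoidHom.range_eq_map, Subgroup.range_subtype,
          Subgroup.map_subgroupOf_eq_of_le inf_le_left]
        exact gen P Q hD x hxP hxD
      rw [← htop]
      refine sup_le (fun d hd => ?_) (Subgroup.zpowers_le.2 hgx)
      show QuotientGroup.mk' DP (f d) = QuotientGroup.mk' DP d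
      rw [(QuotientGroup.eq_one_iff d).2 hd |> fun h => (h : QuotientGroup.mk' DP d = 1)]
      refine (QuotientGroup.eq_one_iff _).2 ?_
      show g * (d : G) * g⁻¹ ∈ D
      rw [hgD (d : G) hd]
      exact inv_mem hd
    exact fun a => hker (Subgroup.mem_top a)
  obtain ⟨c, hcP, hcQ, hmove⟩ := exists_mover hG hno P Q hne h52 hD
  apply hmove
  refine Subgroup.eq_of_le_of_card_ge ?_ (le_of_eq ?_) |>.symm
  swap
  · refine Nat.card_congr ⟨fun a => ⟨c * a.1 * c⁻¹, ?_, conj_mem_smul c a.2.2⟩,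
      fun a => ⟨c⁻¹ * a.1 * c, ?_, (smul_mem_iff c Q _).1 a.2.2⟩, fun a => Subtype.ext ?_, fun a => Subtype.ext ?_⟩
    · have := conj_mem_smul c a.2.1; rwa [hcP] at this
    · show c⁻¹ * a.1 * c ∈ (P : Subgroup G); rw [← smul_mem_iff c P, hcP]; exact a.2.1
    · group
    · group
  intro a ha
  have hd1 : c⁻¹ * a * c ∈ (P : Subgroup G) := by rw [← smul_mem_iff c P, hcP]; exact ha.1
  have hd : c⁻¹ * a * c ∈ D := ⟨hd1, (smul_mem_iff c Q a).1 ha.2⟩
  obtain ⟨p, hp, hgc⟩ : ∃ p ∈ (P : Subgroup G), g * c = p * (c * g) := by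
    set NP := Subgroup.normalizer ((P : Subgroup G) : Set G)
    haveI : ((P : Subgroup G).subgroupOf NP).Normal := Subgroup.normal_in_normalizer
    have h4 : Nat.card (NP ⧸ (P : Subgroup G).subgroupOf NP) = 2 ^ 2 := by
      have h := Subgroup.card_mul_index ((P : Subgroup G).subgroupOf NP)
      have hN := Subgroup.card_mul_index NP
      rw [← card_eq_index P, h52, hG] at hN
      rw [Nat.card_congr (Subgroup.subgroupOfEquivOfLe Subgroup.le_normalizer).toEquiv, hPc] at h
      rw [← Subgroup.index_eq_card]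
      norm_num
      omega
    haveI : Fact (Nat.Prime 2) := ⟨Nat.prime_two⟩
    have hcN : c ∈ NP := Sylow.smul_eq_iff_mem_normalizer.1 hcP
    have hgN' : g ∈ NP := Sylow.smul_eq_iff_mem_normalizer.1 hgP
    have hc := IsPGroup.commutative_of_card_eq_prime_sq h4
      (QuotientGroup.mk' _ (⟨g, hgN'⟩ : NP)) (QuotientGroup.mk' _ (⟨c, hcN⟩ : NP))
    rw [← map_mul, ← map_mul] at hc
    have hm : (⟨g, hgN'⟩ * ⟨c, hcN⟩ * (⟨c, hcN⟩ * ⟨g, hgN'⟩)⁻¹ : NP) ∈ (P : Subgroup G).subgroupOf NP := by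
      rw [← QuotientGroup.eq_one_iff]
      change QuotientGroup.mk' _ _ = 1
      rw [map_mul, map_inv, hc, mul_inv_cancel]
    exact ⟨g * c * (c * g)⁻¹, hm, by group⟩
  have hga : g * a * g⁻¹ = p * a⁻¹ * p⁻¹ := by
    calc g * a * g⁻¹ = (g * c) * (c⁻¹ * a * c) * (g * c)⁻¹ := by group
      _ = p * c * (g * (c⁻¹ * a * c) * g⁻¹) * c⁻¹ * p⁻¹ := by rw [hgc]; group
      _ = _ := by rw [hgD _ hd]; group
  have hq := hgq ⟨a, ha.1⟩
  rw [show (⟨g * a * g⁻¹, hgconj ⟨a, ha.1⟩⟩ : (P : Subgroup G)) = ⟨p, hp⟩ * ⟨a, ha.1⟩⁻¹ * ⟨p, hp⟩⁻¹ from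
    Subtype.ext hga, map_mul, map_mul, map_inv, map_inv] at hq
  letI := hcycq.commGroup
  set q := QuotientGroup.mk' DP ⟨a, ha.1⟩
  rw [mul_comm (QuotientGroup.mk' DP ⟨p, hp⟩) q⁻¹, mul_assoc, mul_inv_cancel, mul_one] at hq
  have hq2 : orderOf q ∣ 2 := orderOf_dvd_of_pow_eq_one (by rw [sq]; nth_rewrite 1 [← hq]; rw [inv_mul_cancel])
  have hq3 : orderOf q ∣ 3 := (orderOf_dvd_natCard q).trans h3q.dvd
  have hq1 : q = 1 := orderOf_eq_one_iff.1 (Nat.dvd_one.1 (by simpa using Nat.dvd_gcd hq2 hq3))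
  exact (QuotientGroup.eq_one_iff (N := DP) _).1 hq1

/-- The number of Sylow 3-subgroups is not 16. -/
theorem not_sixteen (hG : Nat.card G = 5616) [Fact (Nat.Prime 3)] (P : Sylow 3 G)
    (h16 : Nat.card (Sylow 3 G) = 16) : False := by
  haveI : Fact (Nat.Prime 13) := ⟨by norm_num⟩
  set N := Subgroup.normalizer ((P : Subgroup G) : Set G) with hNdef
  have hPc := sylow27 hG P
  have h351 : Nat.card N = 351 := by
    have h := Subgroup.card_mul_index N
    rw [← card_eq_index P, h16, hG] at h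
    omega
  obtain ⟨⟨u, huN⟩, hu⟩ := exists_prime_orderOf_dvd_card' (G := N) 13 (by rw [h351]; norm_num)
  rw [Subgroup.orderOf_mk] at hu
  obtain ⟨U, hU⟩ := MEleven.exists_sylow_zpowers hu fun U => (thirteen hG U).1
  obtain ⟨-, -, h39⟩ := thirteen hG U
  set K := Subgroup.normalizer ((U : Subgroup G) : Set G) with hKdef
  obtain ⟨m, hmK, hmN⟩ : ∃ m ∈ K, m ∉ N := by
    by_contra hall
    push Not at hall
    have hUN : (U : Subgroup G) ≤ N := hU ▸ Subgroup.zpowers_le.2 huN
    have hn := card_eq_index (U.subtype hUN : Sylow 13 N)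
    have hsub : K.subgroupOf N ≤ Subgroup.normalizer (((U.subtype hUN : Sylow 13 N) : Subgroup N) : Set N) := by
      intro y hy
      refine Subgroup.mem_normalizer_fintype fun d hd => ?_
      exact (Subgroup.mem_normalizer_iff.1 hy (d : G)).1 hd
    have hdv := Subgroup.index_dvd_of_le hsub
    have hsi : (K.subgroupOf N).index = 9 := by
      have h := Subgroup.card_mul_index (K.subgroupOf N)
      rw [Nat.card_congr (Subgroup.subgroupOfEquivOfLe hall).toEquiv, h39, h351] at h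
      omega
    rw [← hn, hsi] at hdv
    have hmod := card_sylow_modEq_one 13 N
    rw [Nat.ModEq, Nat.one_mod] at hmod
    have h1 : Nat.card (Sylow 13 N) = 1 := by
      have := Nat.le_of_dvd (by norm_num) hdv
      interval_cases h : Nat.card (Sylow 13 N) <;> omega
    rw [h1] at hn
    have htop := Subgroup.index_eq_one.1 hn.symm
    have hle : N ≤ K := fun y hy => by
      have hm : (⟨y, hy⟩ : N) ∈ Subgroup.normalizer (((U.subtype hUN : Sylow 13 N) : Subgroup N) : Set N) :=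
        htop ▸ Subgroup.mem_top _
      refine Subgroup.mem_normalizer_fintype fun d hd => ?_
      exact (Subgroup.mem_normalizer_iff.1 hm ⟨d, hUN hd⟩).1 hd
    have := Nat.le_of_dvd (by rw [h39]; norm_num) (Subgroup.card_dvd_of_le hle)
    rw [h351, h39] at this
    omega
  have hum : m⁻¹ * u * m ∈ N := by
    have hmu : m⁻¹ * u * m⁻¹⁻¹ ∈ (U : Subgroup G) :=
      (Subgroup.mem_normalizer_iff.1 (inv_mem hmK) u).1 (hU ▸ Subgroup.mem_zpowers u)
    rw [inv_inv] at hmu
    exact (hU ▸ Subgroup.zpowers_le.2 huN : (U : Subgroup G) ≤ N) hmu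
  have huN' : u ∈ MulAut.conj m • N := by
    rw [Subgroup.mem_pointwise_smul_iff_inv_smul_mem, MulAut.smul_def, MulAut.conj_inv_apply]
    exact hum
  set I := N ⊓ MulAut.conj m • N with hI
  have hI13 : 13 ∣ Nat.card I := by
    rw [← hu, ← Nat.card_zpowers]
    exact Subgroup.card_dvd_of_le (Subgroup.zpowers_le.2 ⟨huN, huN'⟩)
  have hIle : 351 ≤ 16 * Nat.card I := by
    have h1 : I.relIndex N ≤ (MulAut.conj m • N).index := by
      rw [hI, Subgroup.inf_relIndex_left, ← Subgroup.relIndex_top_right]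
      exact Subgroup.relIndex_le_of_le_right le_top Subgroup.index_ne_zero_of_finite
    have h2 : (MulAut.conj m • N).index = 16 := by
      rw [← h16, card_eq_index P, ← hNdef]
      exact Subgroup.index_map_equiv (H := N) (MulAut.conj m)
    have h3 := Subgroup.card_mul_index (I.subgroupOf N)
    rw [Nat.card_congr (Subgroup.subgroupOfEquivOfLe inf_le_left).toEquiv, h351] at h3
    rw [h2, Subgroup.relIndex] at h1
    nlinarith
  have h3I : 3 ∣ Nat.card I := by
    have hd : Nat.card I ∣ 13 * 27 := by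
      rw [show 13 * 27 = Nat.card N by rw [h351]]; exact Subgroup.card_dvd_of_le inf_le_left
    obtain ⟨j, hj⟩ := hI13
    rw [hj] at hd hIle ⊢
    obtain ⟨i, hi, he⟩ := (Nat.dvd_prime_pow (Fact.out : Nat.Prime 3)).1
      (show j ∣ 3 ^ 3 from Nat.dvd_of_mul_dvd_mul_left (by norm_num) hd)
    subst he
    interval_cases i <;> norm_num at hIle <;> norm_num
  obtain ⟨⟨s, hs⟩, hso⟩ := exists_prime_orderOf_dvd_card' (G := I) 3 h3I
  rw [Subgroup.orderOf_mk] at hso
  have hin : ∀ {R : Sylow 3 G}, ∀ a ∈ Subgroup.normalizer ((R : Subgroup G) : Set G), orderOf a = 3 →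
      a ∈ (R : Subgroup G) := by
    intro R a ha ho
    have h := (IsPGroup.of_card (p := 3) (n := 1) (G := Subgroup.zpowers a)
      (by rw [Nat.card_zpowers, ho, pow_one]))
    replace h := inf_normalizer h R
    have hm : a ∈ Subgroup.zpowers a ⊓ Subgroup.normalizer ((R : Subgroup G) : Set G) :=
      ⟨Subgroup.mem_zpowers a, ha⟩
    rw [h] at hm
    exact hm.2
  have hsP : s ∈ (P : Subgroup G) := hin s hs.1 hso
  have hsP' : s ∈ ((m • P : Sylow 3 G) : Subgroup G) := by
    rw [smul_mem_iff]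
    have h2 : s ∈ MulAut.conj m • N := hs.2
    rw [Subgroup.mem_pointwise_smul_iff_inv_smul_mem, MulAut.smul_def, MulAut.conj_inv_apply] at h2
    refine hin _ h2 ?_
    have h := orderOf_injective (MulAut.conj m⁻¹).toMonoidHom (MulAut.conj m⁻¹).injective s
    simpa [hso] using h
  have hne : m • P ≠ P := fun e => hmN (Sylow.smul_eq_iff_mem_normalizer.1 e)
  refine not_fix_small hG hu ((P : Subgroup G) ⊓ (m • P : Sylow 3 G)) ?_ (s := s) ⟨hsP, hsP'⟩
    (by rw [hso]; norm_num) fun t ht => ?_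
  · have := Nat.le_of_dvd (by norm_num) (inter_cases P (m • P) hPc hne)
    omega
  · refine ⟨(Subgroup.mem_normalizer_iff.1 huN t).1 ht.1, ?_⟩
    show u * t * u⁻¹ ∈ ((m • P : Sylow 3 G) : Subgroup G)
    rw [smul_mem_iff]
    have ht2 := (smul_mem_iff m P t).1 ht.2
    have := (Subgroup.mem_normalizer_iff.1 hum _).1 ht2
    rw [show m⁻¹ * u * m * (m⁻¹ * t * m) * (m⁻¹ * u * m)⁻¹ = m⁻¹ * (u * t * u⁻¹) * m by group] at this
    exact this

/-- The number of Sylow 3-subgroups is not 208. -/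
theorem not_self_normalizing (hG : Nat.card G = 5616) [Fact (Nat.Prime 3)] (P : Sylow 3 G)
    (h208 : Nat.card (Sylow 3 G) = 208) : False := by
  classical
  have hPc := sylow27 hG P
  have hNP : Subgroup.normalizer ((P : Subgroup G) : Set G) = (P : Subgroup G) := by
    refine (Subgroup.eq_of_le_of_card_ge Subgroup.le_normalizer ?_).symm
    have h := Subgroup.card_mul_index (Subgroup.normalizer ((P : Subgroup G) : Set G))
    rw [← card_eq_index P, h208, hG] at h
    omega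
  have hw : Cfsg.IsWeaklyClosed (P : Subgroup G) (P : Subgroup G) := ⟨le_rfl, fun g hg =>
    Subgroup.eq_of_le_of_card_ge hg (le_of_eq (Subgroup.card_map_of_injective (MulAut.conj g).injective).symm)⟩
  have he : ∀ a ∈ (P : Subgroup G), ∀ z ∈ (P : Subgroup G),
      (fun y : G => y⁻¹ * z⁻¹ * y * z)^[3 - 1] a = 1 := by
    intro a ha z hz
    show (a⁻¹ * z⁻¹ * a * z)⁻¹ * z⁻¹ * (a⁻¹ * z⁻¹ * a * z) * z = 1
    suffices h : z * (a⁻¹ * z⁻¹ * a * z) = (a⁻¹ * z⁻¹ * a * z) * z by
      calc (a⁻¹ * z⁻¹ * a * z)⁻¹ * z⁻¹ * (a⁻¹ * z⁻¹ * a * z) * z =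
          (z * (a⁻¹ * z⁻¹ * a * z))⁻¹ * ((a⁻¹ * z⁻¹ * a * z) * z) := by group
        _ = 1 := by rw [h]; group
    by_cases hab : IsMulCommutative (P : Subgroup G)
    · exact congrArg Subtype.val (hab.is_comm.comm (⟨z, hz⟩ : (P : Subgroup G))
        ⟨_, mul_mem (mul_mem (mul_mem (inv_mem ha) (inv_mem hz)) ha) hz⟩)
    · set Z := Subgroup.center (P : Subgroup G)
      have hZ : Nat.card Z = 3 := by
        refine Eq.trans ?_ (centre_card hG P hab)
        exact (Nat.card_congr ⟨fun x => ⟨⟨x.1, x.2.1⟩, Subgroup.mem_center_iff.2 fun y => Subtype.ext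
          (Subgroup.mem_centralizer_iff.1 x.2.2 y y.2)⟩, fun x => ⟨x.1.1, x.1.2,
          Subgroup.mem_centralizer_iff.2 fun y hy => congrArg Subtype.val (Subgroup.mem_center_iff.1 x.2 ⟨y, hy⟩)⟩,
          fun _ => rfl, fun _ => rfl⟩).symm
      have h9 : Nat.card ((P : Subgroup G) ⧸ Z) = 3 ^ 2 := by
        have h := Subgroup.card_mul_index Z
        rw [hZ, hPc] at h
        rw [← Subgroup.index_eq_card]
        norm_num
        omega
      have hc := IsPGroup.commutative_of_card_eq_prime_sq h9 (QuotientGroup.mk' Z ⟨a, ha⟩)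
        (QuotientGroup.mk' Z ⟨z, hz⟩)
      have hm : ((⟨a, ha⟩ : (P : Subgroup G))⁻¹ * ⟨z, hz⟩⁻¹ * ⟨a, ha⟩ * ⟨z, hz⟩) ∈ Z := by
        rw [← QuotientGroup.eq_one_iff]
        change QuotientGroup.mk' Z _ = 1
        rw [map_mul, map_mul, map_mul, map_inv, map_inv, mul_assoc _ (QuotientGroup.mk' Z ⟨a, ha⟩), hc]
        group
      exact congrArg Subtype.val (Subgroup.mem_center_iff.1 hm ⟨z, hz⟩)
  have hres := CfsgLib.HallWielandt.pResidualOf_eq P (P : Subgroup G) hw he
  have htop : Cfsg.pResidual 3 G = ⊤ := by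
    haveI : (Cfsg.pResidual 3 G).Normal := CfsgLib.Transfer.pResidual_normal
    refine ((inferInstance : (Cfsg.pResidual 3 G).Normal).eq_bot_or_eq_top).resolve_left fun h => ?_
    haveI : Fact (Nat.Prime 13) := ⟨by norm_num⟩
    obtain ⟨u, hu⟩ := exists_prime_orderOf_dvd_card' (G := G) 13 (by rw [hG]; norm_num)
    have hm : u ∈ Cfsg.pResidual 3 G := Subgroup.subset_closure (by
      show Nat.Coprime (orderOf u) 3
      rw [hu]; norm_num)
    rw [h, Subgroup.mem_bot] at hm
    rw [hm, orderOf_one] at hu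
    omega
  have hbot : Cfsg.pResidualOf 3 (Subgroup.normalizer ((P : Subgroup G) : Set G)) = ⊥ := by
    rw [Cfsg.pResidualOf, Subgroup.map_eq_bot_iff_of_injective _ (Subgroup.subtype_injective _), eq_bot_iff,
      Cfsg.pResidual, Subgroup.closure_le]
    intro g hg
    rw [Set.mem_setOf_eq] at hg
    have hd : orderOf g ∣ 3 ^ 3 := by
      have := orderOf_dvd_natCard g
      rw [Nat.card_congr (MulEquiv.subgroupCongr hNP).toEquiv, hPc] at this
      exact this
    exact orderOf_eq_one_iff.1 (Nat.Coprime.eq_one_of_dvd (hg.pow_right 3) hd)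
  rw [hbot, htop, top_inf_eq] at hres
  rw [hNP] at hres
  rw [← hres, Subgroup.card_bot] at hPc
  omega

theorem exists_index_thirteen (hG : Nat.card G = 5616) : ∃ H : Subgroup G, H.index = 13 := by
  classical
  haveI : Fact (Nat.Prime 3) := ⟨by norm_num⟩
  by_contra hall
  push Not at hall
  obtain ⟨P⟩ : Nonempty (Sylow 3 G) := inferInstance
  have hPc := sylow27 hG P
  obtain ⟨hN, h1, h2, h3, h4⟩ := sylow_data P (fun e => by rw [e, Subgroup.card_bot] at hPc; omega)
    (fun e => by rw [e, Subgroup.card_top, hG] at hPc; omega)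
  have hd : Nat.card (Sylow 3 G) ∣ 208 := by
    obtain ⟨j, hj⟩ := hPc ▸ Subgroup.card_dvd_of_le (Subgroup.le_normalizer (H := (P : Subgroup G)))
    rw [hj, hG] at h4
    exact ⟨j, by nlinarith⟩
  have hmem := mem_list (by norm_num) hd h2 h1
  rw [show (List.range (208 + 1)).filter (fun d => decide (d ∣ 208 ∧ d % 3 = 1 ∧ d ≠ 1)) = [4, 13, 16, 52, 208] by
    decide +kernel] at hmem
  simp only [List.mem_cons, List.not_mem_nil, or_false] at hmem
  rcases hmem with e | e | e | e | e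
  · have := le_432 hG hN
    rw [← h3, e] at this
    omega
  · exact hall _ (h3 ▸ e)
  · exact not_sixteen hG P e
  · obtain ⟨Q, hQ, hQ9⟩ := exists_nine P hPc (by rw [e]; norm_num)
    by_cases hab : IsMulCommutative (P : Subgroup G)
    · exact abelian_case hG hall P Q hQ e hQ9 hab
    · by_cases hz : zC Q = zC P
      · exact of_equal_centre hG hall P Q hQ e hQ9 hz
      · exact distinct_centre_case hG hall P Q hQ e hQ9 hab hz
  · exact not_self_normalizing hG P e

end CfsgLib.LThree
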