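import Cfsg.Agent.SmallOrders.Local
import Cfsg.Agent.MEleven.Local
import Cfsg.Agent.Transfer.HallWielandt

/-!
# Local facts in a simple group of order 5616

* `thirteen`, `cent_thirteen` : Sylow 13-subgroups are self-centralising with normaliser of order 39
* `exists_index_thirteen` : there is a subgroup of index 13
-/

set_option autoImplicit false
set_option linter.style.haveILetI false

open Cfsg CfsgLib CfsgLib.SmallOrd

namespace CfsgLib.LThree

universe u

variable {G : Type u} [Group G] [Finite G] [IsSimpleGroup G]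

omit [Finite G] in
theorem toPerm_injective {K : Subgroup G} (hK : K ≠ ⊤) :
    Function.Injective (MulAction.toPermHom G (G ⧸ K)) := by
  rw [← MonoidHom.ker_eq_bot_iff]
  refine ((MonoidHom.normal_ker _).eq_bot_or_eq_top).resolve_right fun htop => hK (eq_top_iff.2 fun g _ => ?_)
  have hg : g ∈ (MulAction.toPermHom G (G ⧸ K)).ker := htop ▸ Subgroup.mem_top g
  have := Equiv.ext_iff.1 (MonoidHom.mem_ker.1 hg) ((1 : G) : G ⧸ K)
  change g • ((1 : G) : G ⧸ K) = ((1 : G) : G ⧸ K) at this
  rw [← MulAction.mem_stabilizer_iff, MulAction.stabilizer_quotient] at this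
  exact this

theorem not_twentyseven (hG : Nat.card G = 5616) [Fact (Nat.Prime 13)] (P : Sylow 13 G) (hP : Nat.card P = 13)
    (hN : Nat.card (Subgroup.normalizer ((P : Subgroup G) : Set G)) = 208)
    (hC : 4 ∣ Nat.card (Subgroup.centralizer ((P : Subgroup G) : Set G))) : False := by
  classical
  haveI : Fact (Nat.Prime 2) := ⟨by norm_num⟩
  set N := Subgroup.normalizer ((P : Subgroup G) : Set G) with hNdef
  have hidx : N.index = 27 := by
    have h := Subgroup.card_mul_index N
    rw [hN, hG] at h
    omega
  have hNt : N ≠ ⊤ := fun h => by rw [h, Subgroup.index_top] at hidx; norm_num at hidx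
  haveI := Fintype.ofFinite (G ⧸ N)
  have h27 : Fintype.card (G ⧸ N) = 27 := by rw [← Nat.card_eq_fintype_card]; exact hidx
  obtain ⟨⟨u, huP⟩, hu⟩ := exists_prime_orderOf_dvd_card' (G := (P : Subgroup G)) 13 (by rw [hP])
  rw [Subgroup.orderOf_mk] at hu
  have hPz : (P : Subgroup G) = Subgroup.zpowers u :=
    (Subgroup.eq_of_le_of_card_ge (Subgroup.zpowers_le.2 huP) (by rw [hP, Nat.card_zpowers, hu])).symm
  set o : G ⧸ N := ((1 : G) : G ⧸ N) with ho
  have hfix : ∀ g ∈ N, g • o = o := fun g hg => by
    rw [ho, ← MulAction.mem_stabilizer_iff, MulAction.stabilizer_quotient]; exact hg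
  -- `u` fixes only the base point
  have hufix : ∀ x : G ⧸ N, u • x = x → x = o := by
    intro x
    induction x using QuotientGroup.induction_on with
    | H g =>
      intro hx
      have hmem : g⁻¹ * u * g ∈ N := by
        change ((u * g : G) : G ⧸ N) = ((g : G) : G ⧸ N) at hx
        rw [QuotientGroup.eq] at hx
        have := N.inv_mem hx
        simpa [mul_assoc] using this
      obtain ⟨k, hk⟩ : ∃ k : N, (k : G) = g⁻¹ * u * g := ⟨⟨_, hmem⟩, rfl⟩
      have hko : orderOf k = 13 := by
        rw [← Subgroup.orderOf_coe, hk]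
        have h := orderOf_injective (MulAut.conj g⁻¹).toMonoidHom (MulAut.conj g⁻¹).injective u
        simpa [hu] using h
      have hkP : (k : G) ∈ (P : Subgroup G) := by
        haveI hn : ((P : Subgroup G).subgroupOf N).Normal := Subgroup.normal_in_normalizer
        obtain ⟨Q, hQ⟩ := (IsPGroup.of_card (p := 13) (n := 1) (G := Subgroup.zpowers k)
          (by rw [Nat.card_zpowers, hko, pow_one])).exists_le_sylow
        haveI : Subsingleton (Sylow 13 N) := by
          haveI hn' : ((P.subtype (Subgroup.le_normalizer)) : Subgroup N).Normal := by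
            show ((P : Subgroup G).subgroupOf N).Normal
            infer_instance
          letI := Sylow.unique_of_normal (P.subtype (Subgroup.le_normalizer)) hn'
          infer_instance
        have hm : k ∈ ((P.subtype (Subgroup.le_normalizer : (P : Subgroup G) ≤ N)) : Subgroup N) := by
          rw [← Subsingleton.elim Q (P.subtype Subgroup.le_normalizer)]
          exact hQ (Subgroup.mem_zpowers k)
        exact hm
      have hg : g⁻¹ ∈ N := by
        refine Subgroup.mem_normalizer_fintype fun z hz => ?_
        show g⁻¹ * z * g⁻¹⁻¹ ∈ (P : Subgroup G)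
        have hz' : z ∈ Subgroup.zpowers u := hPz ▸ hz
        obtain ⟨n, rfl⟩ := Subgroup.mem_zpowers_iff.1 hz'
        rw [← conj_zpow, inv_inv, ← hk]
        exact Subgroup.zpow_mem _ hkP n
      rw [ho, QuotientGroup.eq, mul_one]
      exact hg
  have hfree : ∀ x : G ⧸ N, x ≠ o → ∀ i : ℕ, u ^ i • x = x → 13 ∣ i := by
    intro x hx i hi
    by_contra h
    have hc : Nat.Coprime i (orderOf u) := by
      rw [hu]; exact ((Nat.Prime.coprime_iff_not_dvd (by norm_num)).2 h).symm
    obtain ⟨j, hj⟩ := exists_pow_eq_self_of_coprime hc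
    refine hx (hufix x ?_)
    rw [← hj]
    show (u ^ i) ^ j • x = x
    have : ∀ n : ℕ, (u ^ i) ^ n • x = x := fun n => by
      induction n with
      | zero => rw [pow_zero, one_smul]
      | succ n ih => rw [pow_succ, mul_smul, hi, ih]
    exact this j
  have orbit_card : ∀ x : G ⧸ N, x ≠ o →
      ((Finset.range 13).image fun i => u ^ i • x).card = 13 := by
    intro x hx
    rw [Finset.card_image_of_injOn, Finset.card_range]
    intro i hi j hj hij
    simp only [Finset.coe_range, Set.mem_Iio] at hi hj
    simp only at hij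
    wlog hle : i ≤ j generalizing i j
    · refine (this ?_ ?_ ?_ ?_).symm <;> first | exact hij.symm | omega
    have h13 := hfree x hx (j - i) (by
      rw [← smul_left_cancel_iff (u ^ i), ← mul_smul, ← pow_add, Nat.add_sub_cancel' hle]
      exact hij.symm)
    obtain ⟨c, hc⟩ := h13
    omega
  -- the subgroup of order four
  obtain ⟨K, hK⟩ := Sylow.exists_subgroup_card_pow_prime 2 (n := 2)
    (G := Subgroup.centralizer ((P : Subgroup G) : Set G)) hC
  have hKu : ∀ k : K, Commute ((k : Subgroup.centralizer ((P : Subgroup G) : Set G)) : G) u := fun k =>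
    (Subgroup.mem_centralizer_iff.1 k.1.2 u huP).symm
  have hKo : ∀ k : K, ((k : Subgroup.centralizer ((P : Subgroup G) : Set G)) : G) • o = o := fun k =>
    hfix _ (Subgroup.centralizer_le_normalizer _ k.1.2)
  have hK4 : ∀ k : K, ((k : Subgroup.centralizer ((P : Subgroup G) : Set G)) : G) ^ 4 = 1 := fun k => by
    have h : k ^ 4 = 1 := orderOf_dvd_iff_pow_eq_one.1 (by
      have := orderOf_dvd_natCard k; rw [hK] at this; exact this)
    have := congrArg (fun z : K => ((z : Subgroup.centralizer ((P : Subgroup G) : Set G)) : G)) h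
    simpa using this
  have iter : ∀ (k : G) (j : ℕ) (x : G ⧸ N), Commute k u → k • x = u ^ j • x →
      ∀ m : ℕ, k ^ m • x = u ^ (j * m) • x := by
    intro k j x hc h m
    induction m with
    | zero => simp
    | succ m ih =>
      rw [pow_succ', mul_smul, ih, ← mul_smul, ((hc.pow_right (j * m))).eq, mul_smul, h, ← mul_smul, ← pow_add,
        Nat.mul_succ]
  have hKfix : ∀ k : K, ∀ a : G ⧸ N, a ≠ o →
      ((k : Subgroup.centralizer ((P : Subgroup G) : Set G)) : G) • a = a → k = 1 := by
    intro k a ha hka
    set g := ((k : Subgroup.centralizer ((P : Subgroup G) : Set G)) : G) with hg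
    suffices h : ∀ x : G ⧸ N, g • x = x by
      refine Subtype.ext (Subtype.ext (toPerm_injective hNt ?_))
      refine Eq.trans ?_ (map_one (MulAction.toPermHom G (G ⧸ N))).symm
      exact Equiv.ext h
    by_contra hne
    push Not at hne
    obtain ⟨b, hb⟩ := hne
    have hb0 : b ≠ o := fun e => hb (by rw [e]; exact hKo k)
    have hmove : ∀ (i : ℕ), g • (u ^ i • b) ≠ u ^ i • b := fun i h => hb (by
      rw [← mul_smul, ((hKu k).pow_right i).eq, mul_smul, smul_left_cancel_iff] at h
      exact h)
    have hfixa : ∀ i : ℕ, g • (u ^ i • a) = u ^ i • a := fun i => by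
      rw [← mul_smul, ((hKu k).pow_right i).eq, mul_smul, hka]
    set A := insert o ((Finset.range 13).image fun i => u ^ i • a) with hA
    set B := (Finset.range 13).image fun i => u ^ i • b with hB
    have hoA : o ∉ (Finset.range 13).image fun i => u ^ i • a := by
      intro h
      obtain ⟨i, -, hi⟩ := Finset.mem_image.1 h
      refine ha ?_
      have hoi : u ^ i • o = o := hfix _ (Subgroup.pow_mem _ (Subgroup.le_normalizer huP) i)
      rw [← hoi, smul_left_cancel_iff] at hi
      exact hi
    have hdis : Disjoint A B := by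
      rw [Finset.disjoint_left]
      intro x hxA hxB
      obtain ⟨i, -, rfl⟩ := Finset.mem_image.1 hxB
      refine hmove i ?_
      rcases Finset.mem_insert.1 hxA with e | e
      · rw [e]; exact hKo k
      · obtain ⟨j, -, hj⟩ := Finset.mem_image.1 e
        rw [← hj]; exact hfixa j
    have huniv : A ∪ B = Finset.univ := Finset.eq_univ_of_card _ (by
      rw [Finset.card_union_of_disjoint hdis, hA, Finset.card_insert_of_notMem hoA, orbit_card a ha,
        orbit_card b hb0, h27])
    have hgb : g • b ∈ A ∪ B := huniv ▸ Finset.mem_univ _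
    rcases Finset.mem_union.1 hgb with h | h
    · have hfix' : g • (g • b) = g • b := by
        rcases Finset.mem_insert.1 h with e | e
        · rw [e]; exact hKo k
        · obtain ⟨j, -, hj⟩ := Finset.mem_image.1 e
          rw [← hj]; exact hfixa j
      rw [smul_left_cancel_iff] at hfix'
      exact hb hfix'
    · obtain ⟨j, -, hj⟩ := Finset.mem_image.1 h
      have h4 := iter g j b (hKu k) hj.symm 4
      rw [hK4 k, one_smul] at h4
      have hd := hfree b hb0 _ h4.symm
      have h13 : (13 : ℕ) ∣ j := (Nat.Coprime.dvd_of_dvd_mul_right (by norm_num) hd)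
      obtain ⟨c, rfl⟩ := h13
      rw [pow_mul, show u ^ 13 = 1 by rw [← hu, pow_orderOf_eq_one], one_pow, one_smul] at hj
      exact hb hj.symm
  obtain ⟨a, ha⟩ : ∃ a : G ⧸ N, a ≠ o := Fintype.exists_ne_of_one_lt_card (by rw [h27]; norm_num) o
  have hinj : Function.Injective fun v : Fin 13 × K =>
      u ^ (v.1 : ℕ) • ((v.2 : Subgroup.centralizer ((P : Subgroup G) : Set G)) : G) • a := by
    rintro ⟨i, k⟩ ⟨i', k'⟩ h
    simp only at h
    have hu13 : u ^ 13 = 1 := by rw [← hu, pow_orderOf_eq_one]
    set g := ((k'⁻¹ * k : K) : Subgroup.centralizer ((P : Subgroup G) : Set G)).1 with hg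
    have hga : g • a = u ^ ((i' : ℕ) + (13 - (i : ℕ))) • a := by
      have h2 : u ^ (13 - (i : ℕ)) • (u ^ (i : ℕ) • ((k : Subgroup.centralizer ((P : Subgroup G) : Set G)) : G) • a) =
          ((k : Subgroup.centralizer ((P : Subgroup G) : Set G)) : G) • a := by
        rw [← mul_smul, ← pow_add, Nat.sub_add_cancel i.2.le, hu13, one_smul]
      rw [h, ← mul_smul, ← pow_add, Nat.add_comm] at h2
      rw [hg, Subgroup.coe_mul, Subgroup.coe_inv, Subgroup.coe_mul, Subgroup.coe_inv, mul_smul, ← h2,
        ← mul_smul (u ^ _), (((hKu k').pow_right _).eq).symm, mul_smul, inv_smul_smul]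
    have h4 := iter g _ a (hKu (k'⁻¹ * k)) hga 4
    rw [hg, hK4 (k'⁻¹ * k), one_smul] at h4
    have hd := hfree a ha _ h4.symm
    obtain ⟨c, hc⟩ := Nat.Coprime.dvd_of_dvd_mul_right (by norm_num : Nat.Coprime 13 4) hd
    have hii : i = i' := by
      refine Fin.ext ?_
      have := i.2; have := i'.2
      omega
    rw [hc, pow_mul, hu13, one_pow, one_smul] at hga
    have hk : k'⁻¹ * k = 1 := hKfix _ a ha hga
    rw [hii, inv_mul_eq_one.1 hk]
  have hne : ∀ v : Fin 13 × K,
      u ^ (v.1 : ℕ) • ((v.2 : Subgroup.centralizer ((P : Subgroup G) : Set G)) : G) • a ≠ o := fun v h => ha (by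
    have e : u ^ (v.1 : ℕ) • ((v.2 : Subgroup.centralizer ((P : Subgroup G) : Set G)) : G) • o = o := by
      rw [hKo, hfix _ (Subgroup.pow_mem _ (Subgroup.le_normalizer huP) _)]
    rw [← e, smul_left_cancel_iff, smul_left_cancel_iff] at h
    exact h)
  have hle := Nat.card_le_card_of_injective
    (fun v : Fin 13 × K => (⟨_, hne v⟩ : {x : G ⧸ N // x ≠ o})) (fun v w h => hinj (congrArg Subtype.val h))
  rw [Nat.card_prod, hK, Nat.card_fin, Nat.card_eq_fintype_card, Fintype.card_subtype_compl, h27,
    Fintype.card_subtype_eq] at hle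
  norm_num at hle

theorem thirteen (hG : Nat.card G = 5616) [Fact (Nat.Prime 13)] (P : Sylow 13 G) :
    Nat.card P = 13 ∧ Subgroup.centralizer ((P : Subgroup G) : Set G) = P ∧
      Nat.card (Subgroup.normalizer ((P : Subgroup G) : Set G)) = 39 := by
  have hP : Nat.card P = 13 := by
    have := sylow_card (k := 1) (m := 432) (by rw [hG]; norm_num) (by norm_num) P
    rwa [pow_one] at this
  obtain ⟨L⟩ := exists_localData P hP (by rw [hG]; norm_num)
  obtain ⟨c, hc⟩ := L.p_dvd
  have hnm := L.n_mul
  rw [hG, ← L.e_mul, hc] at hnm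
  have hec : L.n * (L.e * c) = 432 := by
    refine Nat.eq_of_mul_eq_mul_left (show 0 < 13 by norm_num) ?_
    rw [show 13 * 432 = 5616 from rfl, ← hnm]
    ring
  have hn' := mem_list (by norm_num) (⟨_, hec.symm⟩ : L.n ∣ 432) L.n_mod L.n_ne
  rw [show (List.range (432 + 1)).filter (fun d => decide (d ∣ 432 ∧ d % 13 = 1 ∧ d ≠ 1)) = [27, 144] by
    decide +kernel] at hn'
  simp only [List.mem_cons, List.not_mem_nil, or_false] at hn'
  rcases hn' with e | e <;> rw [e] at hec
  · exfalso
    have h16 : L.e * c = 16 := by omega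
    have he4 : L.e ∣ 4 := (Nat.dvd_gcd L.e_dvd (Dvd.intro c h16)).trans (by norm_num)
    have hle := Nat.le_of_dvd (by norm_num) he4
    refine not_twentyseven hG P hP (by rw [← L.hN, ← L.e_mul, hc]; nlinarith) ?_
    rw [← L.hC, hc]
    interval_cases h : L.e <;> omega
  · have h3 : L.e * c = 3 := by omega
    rcases (Nat.dvd_prime (by norm_num)).1 (Dvd.intro c h3) with he | he
    · exact absurd he L.e_ne
    · have hc1 : c = 1 := by rw [he] at h3; omega
      refine ⟨hP, (Subgroup.eq_of_le_of_card_ge ?_ (by rw [← L.hC, hc, hc1, hP])).symm, by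
        rw [← L.hN, ← L.e_mul, he, hc, hc1]⟩
      haveI : IsCyclic (P : Subgroup G) := isCyclic_of_prime_card hP
      haveI : IsMulCommutative (P : Subgroup G) := IsCyclic.isMulCommutative
      exact (P : Subgroup G).le_centralizer

theorem cent_thirteen (hG : Nat.card G = 5616) {x : G} (hx : orderOf x = 13) :
    Subgroup.centralizer ({x} : Set G) = Subgroup.zpowers x := by
  haveI : Fact (Nat.Prime 13) := ⟨by norm_num⟩
  obtain ⟨P, hP⟩ := MEleven.exists_sylow_zpowers hx fun P => (thirteen hG P).1
  rw [← MEleven.centralizer_zpowers, ← hP]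
  exact (thirteen hG P).2.1

end CfsgLib.LThree
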