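import Mathlib

/-!
# The projective plane of order three on the residues modulo 13

* `planeGroup` : the permutations of `Fin 13` mapping translates of `{0, 1, 3, 9}` to translates
* `card_planeGroup_le` : there are at most 5616 of them
* `classify` : a permutation of order 3 commuting with `i ↦ 3 i` either preserves such a system of lines or
  generates, with `i ↦ i + 1` and `i ↦ 3 i`, an element of order 5, 7 or 11
-/

set_option autoImplicit false

open Fin.NatCast Fin.CommRing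

namespace CfsgLib.LThree

/-- The points of the base line. -/
def onBase (x : Fin 13) : Bool := x = 0 || x = 1 || x = 3 || x = 9

/-- Membership in the translate by `t` of the base line. -/
def onLine (t x : Fin 13) : Bool := onBase (x - t)

/-- Mapping lines to lines. -/
def Pres (σ : Equiv.Perm (Fin 13)) : Prop := ∀ t, ∃ t', ∀ x, onLine t x = true → onLine t' (σ x) = true

theorem Pres.one : Pres 1 := fun t => ⟨t, fun _ h => h⟩

theorem Pres.mul {σ τ : Equiv.Perm (Fin 13)} (hσ : Pres σ) (hτ : Pres τ) : Pres (σ * τ) := fun t => by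
  obtain ⟨t₁, h₁⟩ := hτ t
  obtain ⟨t₂, h₂⟩ := hσ t₁
  exact ⟨t₂, fun x hx => h₂ _ (h₁ x hx)⟩

theorem Pres.pow {σ : Equiv.Perm (Fin 13)} (hσ : Pres σ) : ∀ n : ℕ, Pres (σ ^ n)
  | 0 => by rw [pow_zero]; exact Pres.one
  | n + 1 => by rw [pow_succ]; exact (Pres.pow hσ n).mul hσ

/-- The group of permutations mapping lines to lines. -/
def planeGroup : Subgroup (Equiv.Perm (Fin 13)) where
  carrier := {σ | Pres σ}
  one_mem' := Pres.one
  mul_mem' := fun h h' => h.mul h'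
  inv_mem' := fun {σ} h => by
    have e : σ⁻¹ = σ ^ (orderOf σ - 1) := by
      refine inv_eq_of_mul_eq_one_right ?_
      rw [← pow_succ', Nat.sub_add_cancel (orderOf_pos σ), pow_orderOf_eq_one]
    rw [e]
    exact h.pow _

theorem line_unique : ∀ a b : Fin 13, a ≠ b → ∀ s t : Fin 13, onLine s a = true → onLine s b = true →
    onLine t a = true → onLine t b = true → s = t := by decide +kernel

/-- The hypotheses making `x` the intersection of the lines `ab` and `cd`. -/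
def meets (x a b c d : Fin 13) : Prop :=
  a ≠ b ∧ c ≠ d ∧ ∃ s t : Fin 13, onLine s a = true ∧ onLine s b = true ∧ onLine s x = true ∧
    onLine t c = true ∧ onLine t d = true ∧ onLine t x = true ∧ s ≠ t

instance (x a b c d : Fin 13) : Decidable (meets x a b c d) := by unfold meets; infer_instance

theorem meet_unique : ∀ s t : Fin 13, s ≠ t → ∀ x y : Fin 13, onLine s x = true → onLine t x = true →
    onLine s y = true → onLine t y = true → x = y := by decide +kernel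

theorem eq_one_of_fix {σ : Equiv.Perm (Fin 13)} (hσ : Pres σ) (e0 : σ 0 = 0) (e1 : σ 1 = 1) (e2 : σ 2 = 2)
    (e5 : σ 5 = 5) : σ = 1 := by
  have key : ∀ x a b c d : Fin 13, meets x a b c d → σ a = a → σ b = b → σ c = c → σ d = d → σ x = x := by
    rintro x a b c d ⟨hab, hcd, s, t, sa, sb, sx, tc, td, tx, hst⟩ ha hb hc hd
    obtain ⟨s', hs⟩ := hσ s
    obtain ⟨t', ht⟩ := hσ t
    have es : s' = s := line_unique a b hab s' s (ha ▸ hs a sa) (hb ▸ hs b sb) sa sb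
    have et : t' = t := line_unique c d hcd t' t (hc ▸ ht c tc) (hd ▸ ht d td) tc td
    exact meet_unique s t hst (σ x) x (es ▸ hs x sx) (et ▸ ht x tx) sx tx
  have e3 : σ 3 = 3 := key 3 0 1 2 5 (by decide) e0 e1 e2 e5
  have e8 : σ 8 = 8 := key 8 0 2 1 5 (by decide) e0 e2 e1 e5
  have e4 : σ 4 = 4 := key 4 0 5 1 2 (by decide) e0 e5 e1 e2
  have e9 : σ 9 = 9 := key 9 0 1 8 4 (by decide) e0 e1 e8 e4
  have e12 : σ 12 = 12 := key 12 0 2 5 9 (by decide) e0 e2 e5 e9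
  have e7 : σ 7 = 7 := key 7 0 5 1 12 (by decide) e0 e5 e1 e12
  have e10 : σ 10 = 10 := key 10 1 2 5 9 (by decide) e1 e2 e5 e9
  have e6 : σ 6 = 6 := key 6 0 10 1 5 (by decide) e0 e10 e1 e5
  have e11 : σ 11 = 11 := key 11 0 10 1 12 (by decide) e0 e10 e1 e12
  refine Equiv.ext fun i => ?_
  fin_cases i <;> first | exact e0 | exact e1 | exact e2 | exact e3 | exact e4 | exact e5 | exact e6 | exact e7 | exact e8 | exact e9 | exact e10 | exact e11 | exact e12

/-- The collinear triples, as bits. -/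
def colBits : ℕ := 23061527285722292584705552060164143622675251320434403400384174088677925269595060659790049505028555246363615516848851152700638727381411544463179295816745116639408419843650542896151226442332892573586421885795153245020482360108281032489928258974331175346196762189667849494513584374076919744392571949260566586977406956937827211918777808594297503273440513490378243683727923035974864217404373841096743012661622062110623082668044698793130885654829407369013451619079698813190605432058815104659111877058101790000239202376276129549059914097576445558237029397437547625042680664918153839155936396097634594142311657608083773823023511956547433458335443539610702100819823656959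

/-- Collinearity. -/
def col (a b c : Fin 13) : Bool := colBits.testBit (169 * a.1 + 13 * b.1 + c.1)

theorem col_iff : ∀ a b c : Fin 13,
    col a b c = (List.finRange 13).any fun t => onLine t a && onLine t b && onLine t c := by
  decide +kernel

theorem card_third : ∀ a b : Fin 13, a ≠ b →
    (Finset.univ.filter fun c : Fin 13 => col a b c = false).card ≤ 9 := by decide +kernel

theorem card_fourth : ∀ a b c : Fin 13, col a b c = false →
    (Finset.univ.filter fun d : Fin 13 => col a b d = false ∧ col a c d = false ∧ col b c d = false).card ≤ 4 := by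
  decide +kernel

theorem card_pairs : (Finset.univ.filter fun v : Fin 13 × Fin 13 => v.1 ≠ v.2).card ≤ 156 := by decide +kernel

/-- The images of a quadrangle. -/
def quads : Finset ((Fin 13 × Fin 13) × Fin 13 × Fin 13) :=
  (Finset.univ.filter fun v : Fin 13 × Fin 13 => v.1 ≠ v.2).biUnion fun v =>
    (Finset.univ.filter fun c : Fin 13 => col v.1 v.2 c = false).biUnion fun c =>
      (Finset.univ.filter fun d : Fin 13 => col v.1 v.2 d = false ∧ col v.1 c d = false ∧ col v.2 c d = false).image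
        fun d => (v, c, d)

theorem card_quads : quads.card ≤ 5616 := by
  refine (Finset.card_biUnion_le_card_mul _ _ 36 fun v hv => ?_).trans
    ((Nat.mul_le_mul_right 36 card_pairs).trans (by norm_num))
  refine (Finset.card_biUnion_le_card_mul _ _ 4 fun c hc => ?_).trans
    ((Nat.mul_le_mul_right 4 (card_third v.1 v.2 (Finset.mem_filter.1 hv).2)).trans (by norm_num))
  exact Finset.card_image_le.trans (card_fourth v.1 v.2 c (Finset.mem_filter.1 hc).2)

theorem col_image {σ : Equiv.Perm (Fin 13)} (hσ : Pres σ) {a b c : Fin 13} (h : col a b c = false) :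
    col (σ a) (σ b) (σ c) = false := by
  rw [col_iff] at h ⊢
  rw [← Bool.not_eq_true] at h ⊢
  intro h'
  apply h
  have hinv : Pres σ⁻¹ := planeGroup.inv_mem hσ
  simp only [List.any_eq_true, Bool.and_eq_true] at h' ⊢
  obtain ⟨t, -, ⟨h1, h2⟩, h3⟩ := h'
  obtain ⟨t', ht⟩ := hinv t
  have e : ∀ x, σ⁻¹ (σ x) = x := fun x => σ.symm_apply_apply x
  exact ⟨t', List.mem_finRange _, ⟨e a ▸ ht _ h1, e b ▸ ht _ h2⟩, e c ▸ ht _ h3⟩

theorem card_planeGroup_le : Nat.card planeGroup ≤ 5616 := by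
  let f : planeGroup → quads := fun σ => ⟨(((σ : Equiv.Perm (Fin 13)) 0, (σ : Equiv.Perm (Fin 13)) 1),
      (σ : Equiv.Perm (Fin 13)) 2, (σ : Equiv.Perm (Fin 13)) 5), by
    simp only [quads, Finset.mem_biUnion, Finset.mem_filter, Finset.mem_univ, true_and, Finset.mem_image]
    exact ⟨((σ : Equiv.Perm (Fin 13)) 0, (σ : Equiv.Perm (Fin 13)) 1),
      fun h => absurd (σ.1.injective h) (by decide), _, col_image σ.2 (by decide +kernel), _,
      ⟨col_image σ.2 (by decide +kernel), col_image σ.2 (by decide +kernel), col_image σ.2 (by decide +kernel)⟩, rfl⟩⟩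
  have hf : Function.Injective f := fun σ τ h => by
    have h' := congrArg Subtype.val h
    simp only [f, Prod.mk.injEq] at h'
    obtain ⟨⟨a, b⟩, c, d⟩ := h'
    have hone := eq_one_of_fix (σ := (τ : Equiv.Perm (Fin 13))⁻¹ * σ) (planeGroup.mul_mem (planeGroup.inv_mem τ.2) σ.2)
      (by rw [Equiv.Perm.mul_apply, a, Equiv.Perm.inv_eq_iff_eq]) (by rw [Equiv.Perm.mul_apply, b, Equiv.Perm.inv_eq_iff_eq])
      (by rw [Equiv.Perm.mul_apply, c, Equiv.Perm.inv_eq_iff_eq]) (by rw [Equiv.Perm.mul_apply, d, Equiv.Perm.inv_eq_iff_eq])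
    exact Subtype.ext (inv_mul_eq_one.1 hone).symm
  have h := Nat.card_le_card_of_injective f hf
  rw [Nat.card_eq_fintype_card (α := quads), Fintype.card_coe] at h
  exact h.trans card_quads

/-- The map commuting with `i ↦ 3 i` with given images of 1, 2, 4, 7. -/
def cand (a b c e : Fin 13) : Fin 13 → Fin 13 := fun i =>
  ([0, a, b, 3 * a, c, 9 * b, 3 * b, e, 3 * e, 9 * a, 9 * c, 9 * e, 3 * c] : List (Fin 13)).getD i.1 0

/-- The three generators as functions. -/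
def gensOf (a b c e : Fin 13) : List (Fin 13 → Fin 13) := [fun i => i + 1, fun i => 3 * i, cand a b c e]

/-- Composition of generators. -/
def word (g : List (Fin 13 → Fin 13)) : List ℕ → (Fin 13 → Fin 13)
  | [] => id
  | k :: w => g.getD k id ∘ word g w

/-- Witnesses of forbidden orders. -/
def badWords : List ((ℕ × ℕ × ℕ × ℕ) × List ℕ × ℕ) :=
  [ ((1, 2, 4, 8), [2, 0, 2, 1, 0, 0], 11),
    ((1, 2, 4, 11), [2, 0, 2, 2, 1, 0, 0], 11),
    ((1, 2, 10, 7), [2, 0, 2, 1, 1, 0], 11),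
    ((1, 2, 10, 8), [2, 1, 0], 11),
    ((1, 2, 10, 11), [2, 2, 1, 0], 11),
    ((1, 2, 12, 7), [2, 0, 2, 1, 0, 0], 11),
    ((1, 2, 12, 8), [2, 1, 0], 11),
    ((1, 2, 12, 11), [2, 2, 1, 0], 11),
    ((1, 4, 7, 2), [2, 1, 0], 5),
    ((1, 4, 8, 5), [2, 1, 0, 0], 11),
    ((1, 4, 11, 6), [2, 0, 2, 0], 5),
    ((1, 5, 4, 7), [2, 0, 2, 1, 1, 0, 0], 11),
    ((1, 5, 4, 8), [2, 0, 2, 0, 1, 0], 11),
    ((1, 5, 4, 11), [2, 2, 0, 2, 0, 0], 11),
    ((1, 5, 10, 7), [2, 1, 1, 0], 11),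
    ((1, 5, 10, 8), [2, 2, 0], 11),
    ((1, 5, 10, 11), [2, 0, 2, 0, 0, 0], 11),
    ((1, 5, 12, 7), [2, 1, 1, 0], 11),
    ((1, 5, 12, 8), [2, 2, 0], 11),
    ((1, 5, 12, 11), [2, 0, 2, 1, 1, 0, 0], 11),
    ((1, 6, 4, 7), [2, 0, 2, 0, 1, 0], 11),
    ((1, 6, 4, 8), [2, 2, 0, 2, 0, 0], 11),
    ((1, 6, 4, 11), [2, 0, 2, 0, 1, 0], 11),
    ((1, 6, 10, 7), [2, 0, 1, 0], 11),
    ((1, 6, 10, 8), [2, 0, 2, 1, 0, 0], 11),
    ((1, 6, 10, 11), [2, 0], 11),
    ((1, 6, 12, 7), [2, 0, 1, 0], 11),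
    ((1, 6, 12, 8), [2, 0, 2, 1, 0, 0], 11),
    ((1, 6, 12, 11), [2, 0], 11),
    ((1, 7, 2, 4), [2, 2, 1, 0], 5),
    ((1, 7, 5, 12), [2, 2, 0, 0], 11),
    ((1, 7, 6, 10), [2, 0, 1, 0, 0], 11),
    ((1, 8, 2, 10), [2, 2, 1, 0, 0], 11),
    ((1, 8, 6, 12), [2, 0, 2, 0, 1, 0, 0], 11),
    ((1, 10, 7, 6), [2, 0, 2, 0, 0, 0, 0], 11),
    ((1, 10, 8, 2), [2, 1, 1, 0, 0], 11),
    ((1, 10, 11, 5), [2, 0, 1, 0, 2, 0, 0], 11),
    ((1, 11, 2, 12), [2, 2, 0, 2, 2, 0], 5),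
    ((1, 11, 5, 10), [2, 0, 1, 0, 0], 11),
    ((1, 11, 6, 4), [2, 0, 2, 0, 1, 0], 11),
    ((1, 12, 8, 6), [2, 1, 1, 0, 0], 11),
    ((1, 12, 11, 2), [2, 0, 0], 11),
    ((3, 2, 4, 7), [2, 0, 2, 1, 0], 11),
    ((3, 2, 4, 8), [2, 1, 0], 11),
    ((3, 2, 4, 11), [2, 1, 0, 0], 11),
    ((3, 2, 10, 7), [2, 0, 2, 0, 0, 0, 0], 11),
    ((3, 2, 10, 8), [2, 1, 0], 11),
    ((3, 2, 10, 11), [2, 2, 0, 0], 11),
    ((3, 2, 12, 7), [2, 2, 0, 2, 0], 11),
    ((3, 2, 12, 8), [2, 0, 2, 0, 1, 0], 5),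
    ((3, 2, 12, 11), [2, 0, 2, 0, 0, 0, 0], 11),
    ((3, 4, 7, 2), [2, 0, 2, 2, 0, 1, 0], 11),
    ((3, 4, 8, 5), [2, 0, 2, 0, 1, 0], 11),
    ((3, 4, 11, 6), [2, 1, 0, 0], 11),
    ((3, 5, 4, 7), [2, 1, 0, 0], 11),
    ((3, 5, 4, 8), [2, 2, 0], 11),
    ((3, 5, 4, 11), [2, 1, 1, 0, 2, 0, 0], 11),
    ((3, 5, 10, 7), [2, 2, 0, 0], 11),
    ((3, 5, 10, 8), [2, 2, 0], 11),
    ((3, 5, 10, 11), [2, 0, 2, 1, 0, 0], 11),
    ((3, 5, 12, 7), [2, 0, 2, 0, 0, 0, 0], 5),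
    ((3, 5, 12, 8), [2, 0, 2, 0, 1, 0], 5),
    ((3, 5, 12, 11), [2, 2, 0, 2, 0, 0, 0], 11),
    ((3, 6, 4, 7), [2, 1, 0, 0], 11),
    ((3, 6, 4, 8), [2, 0, 2, 0, 0, 0], 11),
    ((3, 6, 4, 11), [2, 0], 11),
    ((3, 6, 10, 7), [2, 2, 0, 0], 11),
    ((3, 6, 10, 8), [2, 0, 2, 1, 0, 0], 11),
    ((3, 6, 10, 11), [2, 0], 11),
    ((3, 6, 12, 7), [2, 0, 2, 0, 1, 0], 5),
    ((3, 6, 12, 11), [2, 0, 2, 0, 1, 0], 5),
    ((3, 7, 2, 4), [2, 2, 0, 0], 11),
    ((3, 7, 5, 12), [2, 0, 2, 0, 0, 0], 11),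
    ((3, 7, 6, 10), [2, 2, 0, 2, 0, 0], 11),
    ((3, 8, 2, 10), [2, 2, 0, 0], 11),
    ((3, 8, 5, 4), [2, 2, 0, 0], 11),
    ((3, 8, 6, 12), [2, 0, 1, 0], 5),
    ((3, 10, 7, 6), [2, 1, 0, 0], 11),
    ((3, 10, 11, 5), [2, 1, 0, 0], 11),
    ((3, 11, 5, 10), [2, 0, 2, 2, 0, 0], 11),
    ((3, 11, 6, 4), [2, 0, 2, 0], 5),
    ((3, 12, 7, 5), [2, 0, 2, 1, 0, 0], 11),
    ((3, 12, 8, 6), [2, 0], 5),
    ((3, 12, 11, 2), [2, 0, 0], 11),
    ((9, 2, 4, 7), [2, 0, 2, 2, 1, 0], 11),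
    ((9, 2, 4, 8), [2, 1, 0], 11),
    ((9, 2, 4, 11), [2, 2, 1, 0], 11),
    ((9, 2, 10, 7), [2, 2, 0, 2, 0], 11),
    ((9, 2, 10, 8), [2, 0, 2, 0, 1, 0], 11),
    ((9, 2, 10, 11), [2, 0, 2, 0, 2, 0, 0], 5),
    ((9, 2, 12, 7), [2, 0, 2, 0, 0, 0, 0], 11),
    ((9, 2, 12, 8), [2, 0, 0], 11),
    ((9, 2, 12, 11), [2, 0, 0], 11),
    ((9, 4, 7, 2), [2, 0, 0], 11),
    ((9, 4, 8, 5), [2, 0, 0], 11),
    ((9, 5, 4, 7), [2, 1, 1, 0], 11),
    ((9, 5, 4, 8), [2, 2, 0], 11),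
    ((9, 5, 4, 11), [2, 0, 0, 2, 0, 0, 0], 11),
    ((9, 5, 10, 7), [2, 0, 2, 0, 2, 0], 7),
    ((9, 5, 10, 8), [2, 0, 2, 0, 1, 0], 11),
    ((9, 5, 12, 7), [2, 0, 0], 11),
    ((9, 5, 12, 8), [2, 0, 0], 11),
    ((9, 5, 12, 11), [2, 0, 2, 1, 0], 11),
    ((9, 6, 4, 7), [2, 0, 1, 0], 11),
    ((9, 6, 4, 8), [2, 1, 0, 2, 0, 0], 11),
    ((9, 6, 4, 11), [2, 0], 11),
    ((9, 6, 10, 7), [2, 0, 2, 0, 1, 0], 11),
    ((9, 6, 10, 8), [2, 0, 2, 2, 0, 0, 0], 11),
    ((9, 6, 10, 11), [2, 0, 2, 1, 0, 0], 11),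
    ((9, 6, 12, 7), [2, 0, 0], 11),
    ((9, 6, 12, 8), [2, 1, 0, 2, 0, 0], 11),
    ((9, 6, 12, 11), [2, 0], 11),
    ((9, 7, 2, 4), [2, 0, 0, 2, 1, 0, 0], 11),
    ((9, 7, 5, 12), [2, 2, 0, 0], 11),
    ((9, 8, 2, 10), [2, 0, 2, 1, 0], 11),
    ((9, 8, 5, 4), [2, 0, 0, 2, 0, 0], 5),
    ((9, 8, 6, 12), [2, 2, 1, 0, 0], 11),
    ((9, 10, 7, 6), [2, 1, 1, 0, 0], 11),
    ((9, 10, 8, 2), [2, 0, 2, 0], 5),
    ((9, 10, 11, 5), [2, 1, 1, 0], 5),
    ((9, 11, 2, 12), [2, 2, 1, 0, 0], 11),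
    ((9, 11, 5, 10), [2, 2, 0], 5),
    ((9, 11, 6, 4), [2, 0, 1, 0, 0], 11),
    ((9, 12, 7, 5), [2, 0, 0], 11),
    ((9, 12, 8, 6), [2, 0, 0, 2, 0, 0], 5),
    ((9, 12, 11, 2), [2, 0, 2, 0], 5) ]

/-- The witness for given images. -/
def witness (a b c e : Fin 13) : List ℕ × ℕ :=
  ((badWords.find? fun v => v.1 = (a.1, b.1, c.1, e.1)).map Prod.snd).getD ([], 5)

/-- Preservation of the lines of the multiple `r` of the base line, as a test. -/
def presTest (r : Fin 13) (f : Fin 13 → Fin 13) : Bool :=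
  (List.finRange 13).all fun t => (List.finRange 13).any fun t' =>
    ([0, 1, 3, 9] : List (Fin 13)).all fun x => ([0, 1, 3, 9] : List (Fin 13)).any fun y =>
      decide (f (r * (x + t)) = r * (y + t'))

/-- The case distinction. -/
def okCand (a b c e : Fin 13) : Bool :=
  ((List.finRange 13).any fun i => decide (cand a b c e (cand a b c e (cand a b c e i)) ≠ i)) ||
  ((List.finRange 3).any fun j => (List.finRange 13).all fun i => decide (cand a b c e i = 3 ^ (j : ℕ) * i)) ||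
  (([1, 2, 4, 7] : List (Fin 13)).any fun r => presTest r (cand a b c e)) ||
  (((witness a b c e).2 = 5 || (witness a b c e).2 = 7 || (witness a b c e).2 = 11) &&
    ((List.finRange 13).all fun i => decide ((word (gensOf a b c e) (witness a b c e).1)^[(witness a b c e).2] i = i)) &&
    ((List.finRange 13).any fun i => decide (word (gensOf a b c e) (witness a b c e).1 i ≠ i)))

theorem classify : ∀ a ∈ ([1, 3, 9] : List (Fin 13)), ∀ b c e : Fin 13, okCand a b c e = true := by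
  decide +kernel

end CfsgLib.LThree
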