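import Cfsg.Agent.LThree.Index
import Cfsg.Agent.LThree.Plane
import Cfsg.Agent.MEleven.Unique
import Cfsg.Agent.SLn.Card
import Cfsg.Agent.SLn.Simple

/-!
# Uniqueness of the simple group of order 5616

* `iso_plane` : such a group is the group of the projective plane of order three
* `iso_psl` : such a group is `PSL(3,3)`
-/

set_option autoImplicit false
set_option linter.style.haveILetI false

open Cfsg CfsgLib
open Fin.NatCast Fin.CommRing

namespace CfsgLib.LThree

universe u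

/-- Translation by one. -/
def permS : Equiv.Perm (Fin 13) := finRotate 13

/-- Multiplication by three. -/
def permM : Equiv.Perm (Fin 13) where
  toFun i := 3 * i
  invFun i := 9 * i
  left_inv := by decide
  right_inv := by decide

theorem permS_apply (i : Fin 13) : permS i = i + 1 := by rw [permS, finRotate_succ_apply]

theorem permS_pow (n : ℕ) (i : Fin 13) : (permS ^ n) i = i + n := by
  induction n with
  | zero => simp
  | succ n ih =>
    rw [pow_succ', Equiv.Perm.mul_apply, ih, permS_apply]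
    push_cast
    ring

theorem permM_pow (j : ℕ) (i : Fin 13) : (permM ^ j) i = 3 ^ j * i := by
  induction j with
  | zero => simp
  | succ j ih => rw [pow_succ', Equiv.Perm.mul_apply, ih, pow_succ', mul_assoc]; rfl

theorem exists_inv : ∀ a : Fin 13, a ≠ 0 → ∃ b : Fin 13, b * a = 1 := by decide +kernel

/-- Multiplication by a unit. -/
def mult (b a : Fin 13) (h : b * a = 1) : Equiv.Perm (Fin 13) where
  toFun i := b * i
  invFun i := a * i
  left_inv i := show a * (b * i) = i by rw [← mul_assoc, mul_comm a b, h, one_mul]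
  right_inv i := show b * (a * i) = i by rw [← mul_assoc, h, one_mul]

/-- The orbit of a point under multiplication by three. -/
def cls : Fin 13 → Fin 4 := fun i =>
  ([0, 0, 1, 0, 2, 1, 1, 3, 3, 0, 2, 3, 2] : List (Fin 4)).getD i.1 0

/-- A point of each orbit. -/
def rep : Fin 4 → Fin 13 := fun k => ([1, 2, 4, 7] : List (Fin 13)).getD k.1 0

theorem rep_ne : ∀ k, rep k ≠ 0 := by decide +kernel

theorem cls_rep : ∀ k, cls (rep k) = k := by decide +kernel

theorem exists_pow_rep : ∀ i : Fin 13, i ≠ 0 → ∃ j : Fin 3, i = 3 ^ (j : ℕ) * rep (cls i) := by decide +kernel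

theorem cls_pow : ∀ (j : Fin 3) (i : Fin 13), cls (3 ^ (j : ℕ) * i) = cls i := by decide +kernel

theorem eq_pow_of_cls : ∀ a b : Fin 13, a ≠ 0 → b ≠ 0 → cls b = cls a → ∃ j : Fin 3, b = 3 ^ (j : ℕ) * a := by
  decide +kernel

theorem four_fixed : ∀ f : Fin 4 → Fin 4, (∀ i, f (f (f i)) = i) → ∃ i, f i = i := by decide +kernel

section Commuting

variable {D : Equiv.Perm (Fin 13)} (hc : ∀ i, D (3 * i) = 3 * D i)
include hc

theorem map_zero_of_comm : D 0 = 0 := by
  have h := hc 0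
  rw [mul_zero] at h
  revert h
  generalize D 0 = z
  revert z
  decide

theorem map_ne_zero_of_comm {i : Fin 13} (h : i ≠ 0) : D i ≠ 0 := fun e =>
  h (D.injective (e.trans (map_zero_of_comm hc).symm))

theorem map_pow_mul (j : ℕ) (i : Fin 13) : D (3 ^ j * i) = 3 ^ j * D i := by
  induction j with
  | zero => simp
  | succ j ih => rw [pow_succ', mul_assoc, hc, ih, mul_assoc]

theorem cls_map {i : Fin 13} (h : i ≠ 0) : cls (D i) = cls (D (rep (cls i))) := by
  obtain ⟨j, hj⟩ := exists_pow_rep i h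
  conv_lhs => rw [hj]
  rw [map_pow_mul hc, cls_pow]

theorem fixed_orbit (h3 : ∀ i, cls (D (D (D i))) = cls i) : ∃ a, a ≠ 0 ∧ cls (D a) = cls a := by
  obtain ⟨k, hk⟩ := four_fixed (fun k => cls (D (rep k))) (fun k => by
    show cls (D (rep (cls (D (rep (cls (D (rep k)))))))) = k
    rw [← cls_map hc (map_ne_zero_of_comm hc (rep_ne k)),
      ← cls_map hc (map_ne_zero_of_comm hc (map_ne_zero_of_comm hc (rep_ne k))), h3, cls_rep])
  exact ⟨rep k, rep_ne k, by rw [cls_rep]; exact hk⟩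

theorem cand_eq (i : Fin 13) : D i = cand (D 1) (D 2) (D 4) (D 7) i := by
  have a3 : D 3 = 3 * D 1 := hc 1
  have a9 : D 9 = 3 * D 3 := hc 3
  have b6 : D 6 = 3 * D 2 := hc 2
  have b5 : D 5 = 3 * D 6 := hc 6
  have c12 : D 12 = 3 * D 4 := hc 4
  have c10 : D 10 = 3 * D 12 := hc 12
  have e8 : D 8 = 3 * D 7 := hc 7
  have e11 : D 11 = 3 * D 8 := hc 8
  fin_cases i
  · exact map_zero_of_comm hc
  · rfl
  · rfl
  · exact a3
  · rfl
  · show D 5 = _; rw [b5, b6, ← mul_assoc]; rfl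
  · exact b6
  · rfl
  · exact e8
  · show D 9 = _; rw [a9, a3, ← mul_assoc]; rfl
  · show D 10 = _; rw [c10, c12, ← mul_assoc]; rfl
  · show D 11 = _; rw [e11, e8, ← mul_assoc]; rfl
  · exact c12

end Commuting

theorem pres_permS : Pres permS := fun t => ⟨t + 1, fun x h => by
  rw [permS_apply]
  unfold onLine at h ⊢
  rwa [show x + 1 - (t + 1) = x - t by ring]⟩

theorem pres_permM : Pres permM := by
  show ∀ t, ∃ t', ∀ x, onLine t x = true → onLine t' (3 * x) = true
  decide +kernel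

theorem exists_of_onLine : ∀ t x : Fin 13, onLine t x = true →
    ∃ b ∈ ([0, 1, 3, 9] : List (Fin 13)), x = b + t := by decide +kernel

theorem onLine_of_mem : ∀ t : Fin 13, ∀ b ∈ ([0, 1, 3, 9] : List (Fin 13)), onLine t (b + t) = true := by
  decide +kernel

variable {G : Type u} [Group G] [Finite G]

/-- The standard position of generators. -/
structure Good (φ : G →* Equiv.Perm (Fin 13)) (u m d : G) : Prop where
  inj : Function.Injective φ
  hu : φ u = permS
  hm : φ m = permM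
  comm : Commute d m
  cube : d ^ 3 = 1
  hd : d ∉ Subgroup.zpowers m

omit [Finite G] in
theorem Good.map_three {φ : G →* Equiv.Perm (Fin 13)} {u m d : G} (h : Good φ u m d) (i : Fin 13) :
    φ d (3 * i) = 3 * φ d i := by
  have e := congrArg φ h.comm.eq
  rw [map_mul, map_mul, h.hm] at e
  exact Equiv.ext_iff.1 e i

omit [Finite G] in
/-- Renumbering by a unit. -/
theorem Good.renumber {φ : G →* Equiv.Perm (Fin 13)} {u m d : G} (h : Good φ u m d) {b a : Fin 13}
    (hba : b * a = 1) :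
    ∃ φ' : G →* Equiv.Perm (Fin 13), Good φ' (u ^ a.1) m d ∧ ∀ i, φ' d i = b * φ d (a * i) := by
  refine ⟨(MulAut.conj (mult b a hba)).toMonoidHom.comp φ,
    ⟨(MulAut.conj (mult b a hba)).injective.comp h.inj, ?_, ?_, h.comm, h.cube, h.hd⟩, fun i => rfl⟩
  · refine Equiv.ext fun i => ?_
    show b * (φ (u ^ a.1) (a * i)) = permS i
    rw [map_pow, h.hu, permS_pow, Fin.cast_val_eq_self, permS_apply, mul_add, ← mul_assoc, hba, one_mul]
  · refine Equiv.ext fun i => ?_
    show b * (φ m (a * i)) = permM i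
    rw [h.hm]
    show b * (3 * (a * i)) = 3 * i
    rw [show b * (3 * (a * i)) = 3 * (b * a * i) by ring, hba, one_mul]

theorem no_prime {p : ℕ} (hG : Nat.card G = 5616) (hp : p = 5 ∨ p = 7 ∨ p = 11) (g : G) : orderOf g ≠ p := by
  intro h
  have hd := orderOf_dvd_natCard g
  rw [h, hG] at hd
  rcases hp with rfl | rfl | rfl <;> norm_num at hd

section Simple

variable [IsSimpleGroup G]

/-- `u` and `m` of order 13 and 3 and `d` generate. -/
theorem generate (hG : Nat.card G = 5616) {φ : G →* Equiv.Perm (Fin 13)} {u m d : G} (h : Good φ u m d) :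
    Subgroup.closure {u, m, d} = ⊤ := by
  haveI : Fact (Nat.Prime 13) := ⟨by norm_num⟩
  set K := Subgroup.closure ({u, m, d} : Set G)
  have hK : u ∈ K ∧ m ∈ K ∧ d ∈ K := ⟨Subgroup.subset_closure (by simp), Subgroup.subset_closure (by simp),
    Subgroup.subset_closure (by simp)⟩
  have hu : orderOf u = 13 := by
    rw [← orderOf_injective φ h.inj, h.hu]
    refine orderOf_eq_prime (Equiv.ext fun i => ?_) (fun e => absurd (Equiv.ext_iff.1 e 0) (by decide))
    rw [permS_pow]
    revert i; decide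
  have hm : orderOf m = 3 := by
    haveI : Fact (Nat.Prime 3) := ⟨by norm_num⟩
    rw [← orderOf_injective φ h.inj, h.hm]
    refine orderOf_eq_prime (Equiv.ext fun i => ?_) (fun e => absurd (Equiv.ext_iff.1 e 1) (by decide))
    rw [permM_pow]
    revert i; decide
  have hd : orderOf d = 3 := by
    haveI : Fact (Nat.Prime 3) := ⟨by norm_num⟩
    exact orderOf_eq_prime h.cube fun e => h.hd (e ▸ one_mem _)
  obtain ⟨P, hP⟩ := MEleven.exists_sylow_zpowers hu fun P => (thirteen hG P).1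
  obtain ⟨-, -, h39⟩ := thirteen hG P
  have hmN : m ∈ Subgroup.normalizer ((P : Subgroup G) : Set G) := by
    refine Subgroup.mem_normalizer_fintype fun z hz => ?_
    have hz' : z ∈ Subgroup.zpowers u := hP ▸ hz
    obtain ⟨k, rfl⟩ := Subgroup.mem_zpowers_iff.1 hz'
    show m * u ^ k * m⁻¹ ∈ (P : Subgroup G)
    have e : m * u * m⁻¹ = u ^ 3 := h.inj (by
      rw [map_mul, map_mul, map_inv, map_pow, h.hu, h.hm]
      decide +kernel)
    rw [← conj_zpow, e, hP]
    exact Subgroup.zpow_mem _ (Subgroup.pow_mem _ (Subgroup.mem_zpowers u) _) _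
  have hNK : Subgroup.normalizer ((P : Subgroup G) : Set G) ≤ K :=
    MEleven.normalizer_le (a := u) (b := m) (p := 13) (q := 3)
      ⟨Subgroup.le_normalizer (hP ▸ Subgroup.mem_zpowers u), hK.1⟩ ⟨hmN, hK.2.1⟩ hu hm (by norm_num) h39
  obtain ⟨n, hn1, hn⟩ := MEleven.n_mod K P hNK
  rw [h39] at hn
  have h9 : 9 ∣ Nat.card K := by
    let a : Subgroup.zpowers (⟨m, hK.2.1⟩ : K) × Subgroup.zpowers (⟨d, hK.2.2⟩ : K) →* K :=
      MonoidHom.noncommCoprod (Subgroup.zpowers _).subtype (Subgroup.zpowers _).subtype (fun x y => by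
        obtain ⟨i, hi⟩ := Subgroup.mem_zpowers_iff.1 x.2
        obtain ⟨j, hj⟩ := Subgroup.mem_zpowers_iff.1 y.2
        rw [Subgroup.subtype_apply, Subgroup.subtype_apply, ← hi, ← hj]
        exact (Commute.zpow_zpow (show Commute (⟨m, hK.2.1⟩ : K) ⟨d, hK.2.2⟩ from Subtype.ext h.comm.symm) i j))
    have ha : Function.Injective a := by
      rw [← MonoidHom.ker_eq_bot_iff, Subgroup.eq_bot_iff_forall]
      rintro ⟨⟨x, hx⟩, ⟨y, hy⟩⟩ he
      have e : x * y = 1 := he
      have hxy : y ∈ Subgroup.zpowers (⟨m, hK.2.1⟩ : K) := by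
        rw [eq_inv_of_mul_eq_one_right e]; exact inv_mem hx
      have hyd := orderOf_dvd_of_mem_zpowers hy
      rw [show orderOf (⟨d, hK.2.2⟩ : K) = 3 from (Subgroup.orderOf_mk _ _).trans hd] at hyd
      rcases (Nat.dvd_prime (by norm_num)).1 hyd with o | o
      · have hy1 : y = 1 := orderOf_eq_one_iff.1 o
        rw [hy1, mul_one] at e
        exact Prod.ext (Subtype.ext e) (Subtype.ext hy1)
      · exfalso
        have hle : Subgroup.zpowers y = Subgroup.zpowers (⟨d, hK.2.2⟩ : K) :=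
          Subgroup.eq_of_le_of_card_ge (Subgroup.zpowers_le.2 hy)
            (by rw [Nat.card_zpowers, Nat.card_zpowers, o, Subgroup.orderOf_mk, hd])
        have hdm : (⟨d, hK.2.2⟩ : K) ∈ Subgroup.zpowers (⟨m, hK.2.1⟩ : K) :=
          Subgroup.zpowers_le.2 hxy (hle ▸ Subgroup.mem_zpowers _)
        obtain ⟨i, hi⟩ := Subgroup.mem_zpowers_iff.1 hdm
        exact h.hd (Subgroup.mem_zpowers_iff.2 ⟨i, congrArg Subtype.val hi⟩)
    have := Subgroup.card_dvd_of_injective a ha
    rw [Nat.card_prod, Nat.card_zpowers, Nat.card_zpowers, Subgroup.orderOf_mk, Subgroup.orderOf_mk, hm, hd] at this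
    exact this
  have hdvd := Subgroup.card_subgroup_dvd_card K
  rw [hG, ← hn] at hdvd
  rw [← hn] at h9
  have hn144 : n ∣ 144 := Nat.dvd_of_mul_dvd_mul_left (show 0 < 39 by norm_num) hdvd
  have hle := Nat.le_of_dvd (by norm_num) hn144
  have : n = 144 := by
    interval_cases n <;> omega
  exact Subgroup.eq_top_of_card_eq _ (by rw [← hn, this, hG])

set_option maxHeartbeats 1000000 in
/-- An element of order three commuting with `m` outside `⟨m⟩`. -/
theorem exists_second (hG : Nat.card G = 5616) {φ : G →* Equiv.Perm (Fin 13)} (hinj : Function.Injective φ)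
    {m : G} (hm : orderOf m = 3) (hφm : φ m = permM) :
    ∃ d : G, Commute d m ∧ d ^ 3 = 1 ∧ d ∉ Subgroup.zpowers m := by
  classical
  haveI : Fact (Nat.Prime 3) := ⟨by norm_num⟩
  obtain ⟨P, hP⟩ := (IsPGroup.of_card (p := 3) (n := 1) (G := Subgroup.zpowers m)
    (by rw [Nat.card_zpowers, hm, pow_one])).exists_le_sylow
  have hmP : m ∈ (P : Subgroup G) := hP (Subgroup.mem_zpowers m)
  have hPc := sylow27 hG P
  haveI : Nontrivial (P : Subgroup G) := by
    rw [← Finite.one_lt_card_iff_nontrivial, hPc]; norm_num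
  haveI := P.isPGroup'.center_nontrivial
  have h3Z : 3 ∣ Nat.card (Subgroup.center (P : Subgroup G)) := by
    obtain ⟨i, hi, he⟩ := (Nat.dvd_prime_pow (Fact.out : Nat.Prime 3)).1
      ((Subgroup.card_subgroup_dvd_card (Subgroup.center (P : Subgroup G))).trans
        (dvd_of_eq (hPc.trans (by norm_num : 27 = 3 ^ 3))))
    have h1 : 1 < Nat.card (Subgroup.center (P : Subgroup G)) := Finite.one_lt_card
    rcases Nat.eq_zero_or_pos i with rfl | hi0
    · rw [he] at h1; norm_num at h1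
    · rw [he]; exact dvd_pow_self 3 hi0.ne'
  obtain ⟨z, hz⟩ := exists_prime_orderOf_dvd_card' (G := Subgroup.center (P : Subgroup G)) 3 h3Z
  have hz3 : orderOf ((z : (P : Subgroup G)) : G) = 3 := by rw [Subgroup.orderOf_coe, Subgroup.orderOf_coe, hz]
  have hzc : ∀ x ∈ (P : Subgroup G), Commute x ((z : (P : Subgroup G)) : G) := fun x hx =>
    congrArg Subtype.val (Subgroup.mem_center_iff.1 z.2 ⟨x, hx⟩)
  by_cases hzm : ((z : (P : Subgroup G)) : G) ∈ Subgroup.zpowers m
  swap
  · exact ⟨_, (hzc m hmP).symm, orderOf_dvd_iff_pow_eq_one.1 hz3.dvd, hzm⟩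
  have hmz : m ∈ Subgroup.zpowers ((z : (P : Subgroup G)) : G) := by
    rw [Subgroup.eq_of_le_of_card_ge (Subgroup.zpowers_le.2 hzm)
      (by rw [Nat.card_zpowers, Nat.card_zpowers, hm, hz3])]
    exact Subgroup.mem_zpowers m
  have hmc : ∀ x ∈ (P : Subgroup G), Commute x m := fun x hx => by
    obtain ⟨k, hk⟩ := Subgroup.mem_zpowers_iff.1 hmz
    rw [← hk]; exact (hzc x hx).zpow_right k
  by_contra hno
  push Not at hno
  obtain ⟨x, hxP, hxm⟩ := SetLike.exists_of_lt (show Subgroup.zpowers m < (P : Subgroup G) from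
    lt_of_le_of_ne hP fun e => by rw [← e, Nat.card_zpowers, hm] at hPc; omega)
  obtain ⟨i, hi, ho⟩ := (Nat.dvd_prime_pow (Fact.out : Nat.Prime 3)).1
    ((orderOf_dvd_natCard (⟨x, hxP⟩ : (P : Subgroup G))).trans (dvd_of_eq (hPc.trans (by norm_num : 27 = 3 ^ 3))))
  rw [Subgroup.orderOf_mk] at ho
  obtain ⟨y, hyP, hy⟩ : ∃ y ∈ (P : Subgroup G), orderOf y = 9 := by
    interval_cases i
    · exact absurd (orderOf_eq_one_iff.1 ho ▸ one_mem _) hxm
    · exact absurd (hno x (hmc x hxP) (orderOf_dvd_iff_pow_eq_one.1 (dvd_of_eq (by rw [ho]; norm_num)))) hxm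
    · exact ⟨x, hxP, ho⟩
    · exact ⟨x ^ 3, Subgroup.pow_mem _ hxP 3, by rw [orderOf_pow, ho]; norm_num⟩
  have hy3 : y ^ 3 ∈ Subgroup.zpowers m :=
    hno (y ^ 3) ((hmc y hyP).pow_left 3) (by rw [← pow_mul]; exact orderOf_dvd_iff_pow_eq_one.1 hy.dvd)
  obtain ⟨e, he⟩ := mem_powers_iff_mem_zpowers.2 hy3
  change m ^ e = y ^ 3 at he
  rw [← pow_mod_orderOf m, hm] at he
  have he0 : e % 3 ≠ 0 := fun h0 => by
    rw [h0, pow_zero] at he
    have := orderOf_dvd_of_pow_eq_one he.symm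
    rw [hy] at this
    norm_num at this
  set Y := φ y with hY
  have hc : ∀ i, Y (3 * i) = 3 * Y i := fun i => by
    have e' := congrArg φ (hmc y hyP).eq
    rw [map_mul, map_mul, hφm] at e'
    exact Equiv.ext_iff.1 e' i
  have hY3 : ∀ i, Y (Y (Y i)) = 3 ^ (e % 3) * i := fun i => by
    rw [← permM_pow, ← hφm, ← map_pow, he, map_pow]
    rfl
  obtain ⟨a, ha, hcls⟩ := fixed_orbit hc fun i => by
    rw [hY3]; exact cls_pow ⟨e % 3, Nat.mod_lt _ (by norm_num)⟩ i
  obtain ⟨j, hj⟩ := eq_pow_of_cls a (Y a) ha (map_ne_zero_of_comm hc ha) hcls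
  have h := hY3 a
  rw [hj, map_pow_mul hc, hj, map_pow_mul hc, map_pow_mul hc, hj] at h
  have key : ∀ j : Fin 3, ∀ k : Fin 3, ∀ a : Fin 13, a ≠ 0 → k.1 ≠ 0 →
      (3 : Fin 13) ^ (j : ℕ) * (3 ^ (j : ℕ) * (3 ^ (j : ℕ) * a)) ≠ 3 ^ (k : ℕ) * a := by decide +kernel
  exact key j ⟨e % 3, Nat.mod_lt _ (by norm_num)⟩ a ha he0 h

set_option maxHeartbeats 1000000 in
theorem exists_good (hG : Nat.card G = 5616) :
    ∃ (φ : G →* Equiv.Perm (Fin 13)) (u m d : G), Good φ u m d ∧ φ d 1 ∈ ([1, 3, 9] : List (Fin 13)) := by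
  classical
  haveI : Fact (Nat.Prime 13) := ⟨by norm_num⟩
  obtain ⟨H, hH⟩ := exists_index_thirteen hG
  obtain ⟨e⟩ : Nonempty (G ⧸ H ≃ Fin 13) := ⟨(show Nat.card (G ⧸ H) = 13 from hH) ▸ Finite.equivFin (G ⧸ H)⟩
  set φ₀ := (Equiv.permCongrHom e).toMonoidHom.comp (MulAction.toPermHom G (G ⧸ H))
  have hinj₀ : Function.Injective φ₀ := (Equiv.permCongrHom e).injective.comp
    (toPerm_injective fun h => by rw [h, Subgroup.index_top] at hH; norm_num at hH)
  obtain ⟨u, hu⟩ : ∃ u : G, orderOf u = 13 := exists_prime_orderOf_dvd_card' 13 (by rw [hG]; norm_num)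
  have hconj : IsConj (φ₀ u) permS := by
    rw [Equiv.Perm.isConj_iff_cycleType_eq, permS, cycleType_finRotate]
    have ho : orderOf (φ₀ u) = 13 := by rw [orderOf_injective _ hinj₀, hu]
    obtain ⟨n, hn⟩ := Equiv.Perm.cycleType_prime_order (σ := φ₀ u) (by rw [ho]; norm_num)
    have hs := Equiv.Perm.sum_cycleType (φ₀ u)
    have hle := (φ₀ u).support.card_le_univ
    rw [hn, ho, Multiset.sum_replicate, smul_eq_mul] at hs
    rw [Fintype.card_fin] at hle
    have hn0 : n = 0 := by omega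
    rw [hn, ho, hn0]
    rfl
  obtain ⟨c, hc⟩ := isConj_iff.1 hconj
  set φ := (MulAut.conj c).toMonoidHom.comp φ₀
  have hinj : Function.Injective φ := (MulEquiv.injective (MulAut.conj c)).comp hinj₀
  have hφu : φ u = permS := hc
  obtain ⟨P, hP⟩ := MEleven.exists_sylow_zpowers hu fun P => (thirteen hG P).1
  obtain ⟨-, -, h39⟩ := thirteen hG P
  haveI : Fact (Nat.Prime 3) := ⟨by norm_num⟩
  obtain ⟨⟨b, hbN⟩, hb⟩ := exists_prime_orderOf_dvd_card' (G := Subgroup.normalizer ((P : Subgroup G) : Set G)) 3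
    (by rw [h39]; norm_num)
  rw [Subgroup.orderOf_mk] at hb
  obtain ⟨k, hk⟩ : ∃ k : ℕ, u ^ k = b * u * b⁻¹ := by
    refine mem_powers_iff_mem_zpowers.2 ?_
    rw [← hP]
    exact (Subgroup.mem_normalizer_iff.1 hbN u).1 (hP ▸ Subgroup.mem_zpowers u)
  have hiter : ∀ j : ℕ, b ^ j * u * (b ^ j)⁻¹ = u ^ (k ^ j) := by
    intro j
    induction j with
    | zero => simp
    | succ j ih =>
      rw [pow_succ', show b * b ^ j * u * (b * b ^ j)⁻¹ = b * (b ^ j * u * (b ^ j)⁻¹) * b⁻¹ by group, ih,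
        ← conj_pow, ← hk, ← pow_mul, ← pow_succ']
  have hk3 : k ^ 3 % 13 = 1 := by
    have h := hiter 3
    rw [show b ^ 3 = 1 by rw [← hb, pow_orderOf_eq_one], one_mul, inv_one, mul_one] at h
    have h' : u ^ (k ^ 3) = u ^ 1 := by rw [pow_one]; exact h.symm
    have := pow_eq_pow_iff_modEq.1 h'
    rw [hu] at this
    exact this
  have hk1 : k % 13 ≠ 1 := by
    intro h1
    have : b * u * b⁻¹ = u := by rw [← hk, ← pow_mod_orderOf u, hu, h1, pow_one]
    have hmem : b ∈ Subgroup.zpowers u := by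
      rw [← cent_thirteen hG hu, Subgroup.mem_centralizer_singleton_iff]
      exact mul_inv_eq_iff_eq_mul.1 this
    have := orderOf_dvd_of_mem_zpowers hmem
    rw [hb, hu] at this
    norm_num at this
  obtain ⟨j, hj⟩ : ∃ j : ℕ, k ^ j % 13 = 3 := by
    suffices h : ∃ j : ℕ, (k % 13) ^ j % 13 = 3 by
      obtain ⟨j, hj⟩ := h
      exact ⟨j, by rw [Nat.pow_mod]; exact hj⟩
    have key : ∀ r : Fin 13, r.1 ^ 3 % 13 = 1 → r.1 ≠ 1 → r.1 = 3 ∨ r.1 = 9 := by decide +kernel
    rcases key ⟨k % 13, Nat.mod_lt _ (by norm_num)⟩ (by rw [← Nat.pow_mod]; exact hk3) hk1 with h | h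
    · exact ⟨1, by simp only at h; rw [h]; norm_num⟩
    · exact ⟨2, by simp only at h; rw [h]; norm_num⟩
  obtain ⟨b', hb'def⟩ : ∃ b' : G, b' = b ^ j := ⟨_, rfl⟩
  have hb' : b' * u * b'⁻¹ = u ^ 3 := by rw [hb'def, hiter j, ← pow_mod_orderOf u, hu, hj]
  set B := φ b'
  have hB : ∀ i : Fin 13, B (i + 1) = B i + 3 := by
    intro i
    have h := congrArg φ (mul_inv_eq_iff_eq_mul.1 hb')
    rw [map_mul, map_mul, map_pow, hφu] at h
    have := Equiv.ext_iff.1 h i
    rw [Equiv.Perm.mul_apply, Equiv.Perm.mul_apply, permS_apply, permS_pow] at this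
    exact this
  have hBval : ∀ i : Fin 13, B i = 3 * i + B 0 := by
    intro i
    induction i using Fin.induction with
    | zero => simp
    | succ i ih =>
      rw [← Fin.coeSucc_eq_succ, hB, ih]
      ring
  obtain ⟨s, hs⟩ : ∃ s : ℕ, (s : Fin 13) = - B 0 := ⟨(- B 0).1, Fin.cast_val_eq_self _⟩
  obtain ⟨m, hmdef⟩ : ∃ m : G, m = u ^ s * b' := ⟨_, rfl⟩
  have hφm : φ m = permM := by
    refine Equiv.ext fun i => ?_
    rw [hmdef, map_mul, map_pow, hφu, Equiv.Perm.mul_apply, permS_pow, hBval, hs]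
    show _ = 3 * i
    ring
  have hm3 : orderOf m = 3 := by
    rw [← orderOf_injective _ hinj, hφm]
    refine orderOf_eq_prime (Equiv.ext fun i => ?_) (fun e => absurd (Equiv.ext_iff.1 e 1) (by decide))
    rw [permM_pow]
    revert i; decide
  obtain ⟨d, hdm, hd3, hd⟩ := exists_second hG hinj hm3 hφm
  have good : Good φ u m d := ⟨hinj, hφu, hφm, hdm, hd3, hd⟩
  obtain ⟨a, ha, hcls⟩ := fixed_orbit good.map_three fun i => by
    have e3 := congrArg φ hd3
    rw [map_pow, map_one] at e3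
    have := Equiv.ext_iff.1 e3 i
    rw [show ((φ d) ^ 3) i = φ d (φ d (φ d i)) from rfl] at this
    rw [this]
    rfl
  obtain ⟨i, hi⟩ := eq_pow_of_cls a (φ d a) ha (map_ne_zero_of_comm good.map_three ha) hcls
  obtain ⟨b₁, hb₁⟩ := exists_inv a ha
  obtain ⟨φ', good', hφ'⟩ := good.renumber hb₁
  refine ⟨φ', _, m, d, good', ?_⟩
  rw [hφ', mul_one, hi, show b₁ * (3 ^ (i : ℕ) * a) = 3 ^ (i : ℕ) * (b₁ * a) by ring, hb₁, mul_one]
  fin_cases i <;> decide

/-- A simple group of order 5616 is the group of the plane. -/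
theorem iso_plane (hG : Nat.card G = 5616) : Nonempty (G ≃* planeGroup) := by
  obtain ⟨φ, u, m, d, good, hd1⟩ := exists_good hG
  have hdfun : ∀ i, φ d i = cand (φ d 1) (φ d 2) (φ d 4) (φ d 7) i := cand_eq good.map_three
  have hok := classify (φ d 1) hd1 (φ d 2) (φ d 4) (φ d 7)
  simp only [okCand, Bool.or_eq_true, Bool.and_eq_true, List.any_eq_true, List.all_eq_true, decide_eq_true_eq,
    List.mem_finRange, true_and, forall_const] at hok
  rcases hok with ((⟨i, hi⟩ | ⟨j, hj⟩) | ⟨r, hr, hpres⟩) | ⟨⟨hprime, hpow⟩, i, hi⟩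
  · exfalso
    refine hi ?_
    rw [← hdfun, ← hdfun, ← hdfun]
    have e3 := congrArg φ good.cube
    rw [map_pow, map_one] at e3
    exact Equiv.ext_iff.1 e3 i
  · exfalso
    refine good.hd ?_
    rw [good.inj (a₁ := d) (a₂ := m ^ (j : ℕ)) (Equiv.ext fun i => by
      rw [hdfun, map_pow, good.hm, permM_pow]; exact hj i)]
    exact Subgroup.pow_mem _ (Subgroup.mem_zpowers m) _
  · obtain ⟨b, hb⟩ := exists_inv r (by rintro rfl; revert hr; decide)
    obtain ⟨φ', good', hφ'⟩ := good.renumber hb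
    have hD : Pres (φ' d) := by
      simp only [presTest, List.all_eq_true, List.any_eq_true, decide_eq_true_eq, List.mem_finRange, true_and,
        forall_const] at hpres
      intro t
      obtain ⟨t', ht⟩ := hpres t
      refine ⟨t', fun x hx => ?_⟩
      obtain ⟨x', hx', rfl⟩ := exists_of_onLine t x hx
      obtain ⟨y, hy, hxy⟩ := ht x' hx'
      rw [hφ', hdfun, hxy, ← mul_assoc, hb, one_mul]
      exact onLine_of_mem t' y hy
    have hle : φ'.range ≤ planeGroup := by
      rw [MonoidHom.range_eq_map, ← generate hG good', MonoidHom.map_closure, Subgroup.closure_le]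
      rintro _ ⟨g, (rfl | rfl | rfl), rfl⟩
      · rw [good'.hu]; exact pres_permS
      · rw [good'.hm]; exact pres_permM
      · exact hD
    have hcard : Nat.card φ'.range = 5616 := by
      rw [← hG]; exact (Nat.card_congr (MonoidHom.ofInjective good'.inj).toEquiv).symm
    exact ⟨(MonoidHom.ofInjective good'.inj).trans
      (MulEquiv.subgroupCongr (Subgroup.eq_of_le_of_card_ge hle (card_planeGroup_le.trans hcard.ge)))⟩
  · exfalso
    have hex : ∀ w : List ℕ, ∃ g : G, ∀ i, φ g i = word (gensOf (φ d 1) (φ d 2) (φ d 4) (φ d 7)) w i := by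
      intro w
      induction w with
      | nil => exact ⟨1, fun i => by rw [map_one]; rfl⟩
      | cons k w ih =>
        obtain ⟨g, hg⟩ := ih
        obtain ⟨a, ha⟩ : ∃ a : G, ∀ i, φ a i = ((gensOf (φ d 1) (φ d 2) (φ d 4) (φ d 7)).getD k id) i := by
          match k with
          | 0 => exact ⟨u, fun i => by rw [good.hu, permS_apply]; rfl⟩
          | 1 => exact ⟨m, fun i => by rw [good.hm]; rfl⟩
          | 2 => exact ⟨d, fun i => hdfun i⟩
          | n + 3 => exact ⟨1, fun i => by rw [map_one]; rfl⟩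
        exact ⟨a * g, fun i => by rw [map_mul, Equiv.Perm.mul_apply, ha, hg]; rfl⟩
    obtain ⟨g, hg⟩ := hex (witness (φ d 1) (φ d 2) (φ d 4) (φ d 7)).1
    have hfun : (φ g : Fin 13 → Fin 13) =
        word (gensOf (φ d 1) (φ d 2) (φ d 4) (φ d 7)) (witness (φ d 1) (φ d 2) (φ d 4) (φ d 7)).1 := funext hg
    have hp : (witness (φ d 1) (φ d 2) (φ d 4) (φ d 7)).2 = 5 ∨ (witness (φ d 1) (φ d 2) (φ d 4) (φ d 7)).2 = 7 ∨
        (witness (φ d 1) (φ d 2) (φ d 4) (φ d 7)).2 = 11 := by tauto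
    haveI : Fact (Nat.Prime (witness (φ d 1) (φ d 2) (φ d 4) (φ d 7)).2) :=
      ⟨by rcases hp with e | e | e <;> rw [e] <;> norm_num⟩
    refine no_prime hG hp g ?_
    rw [← orderOf_injective _ good.inj]
    refine orderOf_eq_prime (Equiv.ext fun i => ?_) (fun h => hi ?_)
    · rw [Equiv.Perm.coe_pow, hfun, hpow]; rfl
    · rw [← hg, h]; rfl

end Simple

theorem card_psl : Nat.card (Matrix.ProjectiveSpecialLinearGroup (Fin 3) (ZMod 3)) = 5616 := by
  have h := CfsgLib.SLn.card_PSL_eq (ZMod 3) 3 (by norm_num)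
  rw [ZMod.card, Fin.prod_univ_three] at h
  simp only [show Nat.gcd 3 (3 - 1) = 1 from rfl, one_mul, Fin.val_zero, Fin.val_one, Fin.val_two] at h
  norm_num at h
  rw [Nat.card_eq_fintype_card]
  omega

theorem isSimple_psl : IsSimpleGroup (Matrix.ProjectiveSpecialLinearGroup (Fin 3) (ZMod 3)) :=
  CfsgLib.SLn.isSimpleGroup_PSL (Or.inl (by simp))

/-- A simple group of order 5616 is `PSL(3,3)`. -/
theorem iso_psl [IsSimpleGroup G] (hG : Nat.card G = 5616) :
    Nonempty (G ≃* Matrix.ProjectiveSpecialLinearGroup (Fin 3) (ZMod 3)) := by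
  haveI := isSimple_psl
  obtain ⟨e⟩ := iso_plane hG
  obtain ⟨e'⟩ := iso_plane card_psl
  exact ⟨e.trans e'.symm⟩

end CfsgLib.LThree
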